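import Cfsg.Agent.Lib.Helper16.OsimaExact
import Cfsg.Agent.Lib.Helper80.IrrApi

/-!
# Weak block orthogonality, character form
-/

set_option autoImplicit false

namespace Cfsg.Agent.Lib.Helper16

open Cfsg Cfsg.Agent.Lib.Helper77 Cfsg.Agent.Lib.Helper80 Cfsg.Agent.Lib.Helper81
open scoped ComplexConjugate

universe u

variable {G : Type u} [Group G] [Fintype G]

open Classical in
/-- The block sum of `χ x * conj (χ y)` as a sum of idempotent coefficients. -/
theorem sum_irr_block_eq [Fintype (IrrCharacter G)] (B : Set (IrrCharacter G)) (x y : G) :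
    ∑ χ ∈ Finset.univ.filter (fun χ : IrrCharacter G => χ ∈ B),
      (χ : G → ℂ) x * conj ((χ : G → ℂ) y) =
    ∑ g : G, blockCoeff B (x⁻¹ * g * y * g⁻¹) := by
  have hG : (Nat.card G : ℂ) ≠ 0 := Nat.cast_ne_zero.mpr Nat.card_pos.ne'
  simp_rw [blockCoeff_eq_sum, ← Finset.mul_sum]
  rw [Finset.sum_comm]
  simp_rw [← Finset.mul_sum, ← map_sum]
  rw [Finset.mul_sum]
  refine Finset.sum_congr rfl fun χ _ => ?_
  have h1 : ∑ g : G, (χ : G → ℂ) (x⁻¹ * g * y * g⁻¹) =
      (Nat.card G : ℂ) * (χ : G → ℂ) x⁻¹ * (χ : G → ℂ) y / (χ : G → ℂ) 1 := by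
    rw [← irr_sum_char_mul_conj χ x⁻¹ y]
    refine Finset.sum_congr rfl fun g _ => ?_
    group
  obtain ⟨n, hn, hn1⟩ := irr_one_eq_natCast χ
  have hn0 : (n : ℂ) ≠ 0 := Nat.cast_ne_zero.mpr hn.ne'
  rw [h1, irr_conj_inv, hn1]
  simp only [map_div₀, map_mul, Complex.conj_conj, map_natCast]
  field_simp

/-- Exact Osima: the block idempotent vanishes on `p`-singular elements. -/
theorem blockCoeff_eq_zero_of_singular {p : ℕ} [Fact p.Prime] {M : Ideal AlgInt}
    (hpM : IsPModular p M) (χ₀ : IrrCharacter G) {y : G} (hy : p ∣ orderOf y) :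
    blockCoeff (blockOf M (χ₀ : G → ℂ)) y = 0 := by
  have hp : p.Prime := Fact.out
  have h1 := sum_blockCoeff_eq_zero hpM χ₀ (x := 1) (y := y)
    (by rw [orderOf_one]; exact hp.one_lt.ne' ∘ Nat.dvd_one.mp) hy
  have h2 : ∀ g : G, blockCoeff (blockOf M (χ₀ : G → ℂ)) (1⁻¹ * g * y * g⁻¹) =
      blockCoeff (blockOf M (χ₀ : G → ℂ)) y := by
    intro g
    rw [inv_one, one_mul]
    exact blockCoeff_isClassFunction _ y g
  rw [Finset.sum_congr rfl fun g _ => h2 g, Finset.sum_const, Finset.card_univ, nsmul_eq_mul] at h1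
  rcases mul_eq_zero.mp h1 with h | h
  · exact absurd h (Nat.cast_ne_zero.mpr Fintype.card_ne_zero)
  · exact h

open Classical in
/-- Weak block orthogonality, `Finset` form. -/
theorem weak_block_orthogonality_finset [Fintype (IrrCharacter G)]
    {p : ℕ} [Fact p.Prime] {M : Ideal AlgInt}
    (hpM : IsPModular p M) (χ₀ : IrrCharacter G) {x y : G} (hx : ¬ p ∣ orderOf x)
    (hy : p ∣ orderOf y) :
    ∑ χ ∈ Finset.univ.filter (fun χ : IrrCharacter G => χ ∈ blockOf M (χ₀ : G → ℂ)),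
      (χ : G → ℂ) x * conj ((χ : G → ℂ) y) = 0 := by
  rw [sum_irr_block_eq, sum_blockCoeff_eq_zero hpM χ₀ hx hy]

/-- Weak block orthogonality: for a block `B`, a `p`-regular `x` and a `p`-singular `y`, the sum
over `B` of `χ x * conj (χ y)` vanishes. -/
theorem weak_block_orthogonality [Fintype (IrrCharacter G)]
    {p : ℕ} [Fact p.Prime] {M : Ideal AlgInt}
    (hpM : IsPModular p M) (χ₀ : IrrCharacter G) {x y : G} (hx : ¬ p ∣ orderOf x)
    (hy : p ∣ orderOf y) :
    ∑ᶠ χ ∈ blockOf M (χ₀ : G → ℂ), (χ : G → ℂ) x * conj ((χ : G → ℂ) y) = 0 := by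
  classical
  rw [← sum_blockCoeff_eq_zero hpM χ₀ hx hy, ← sum_irr_block_eq]
  apply finsum_mem_eq_sum_of_inter_support_eq
  congr 1
  ext χ
  simp

end Cfsg.Agent.Lib.Helper16
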