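import Mathlib
import Cfsg.Prelude.Def_Characters
import Cfsg.Agent.Lib.Helper12.PermChar

/-!
The average of a character over a coset `D y` of a finite subgroup `D` centralized by `y`
is an algebraic integer (it is the trace of `ρ y` on the fixed points of `D`).
-/

set_option autoImplicit false

namespace Cfsg.Agent.Lib.Helper16

open Cfsg

/-- The average of a character over `D y`, where `y` centralizes the finite subgroup `D`, is an
algebraic integer. -/
theorem isIntegral_avg_char {G : Type*} [Group G] {χ : G → ℂ} (hχ : IsCharacter G χ)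
    (D : Subgroup G) [Fintype D] (y : G) (hy : ∀ u ∈ D, u * y = y * u)
    (hfin : IsOfFinOrder y) :
    IsIntegral ℤ ((Nat.card D : ℂ)⁻¹ * ∑ u : D, χ ((u : G) * y)) := by
  classical
  obtain ⟨n, ρ, rfl⟩ := hχ
  have hD : (Nat.card D : ℂ) ≠ 0 := Nat.cast_ne_zero.mpr Nat.card_pos.ne'
  set Sρ : Module.End ℂ (Fin n → ℂ) := ∑ u : D, ρ (u : G) with hS
  set E : Module.End ℂ (Fin n → ℂ) := (Nat.card D : ℂ)⁻¹ • Sρ with hE
  -- absorption
  have habs : ∀ v : D, ρ (v : G) * Sρ = Sρ := by
    intro v
    rw [hS, Finset.mul_sum]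
    refine Fintype.sum_equiv (Equiv.mulLeft v) _ _ fun u => ?_
    simp [map_mul]
  have hsq : Sρ * Sρ = (Nat.card D : ℂ) • Sρ := by
    conv_lhs => rw [hS, Finset.sum_mul]
    rw [Finset.sum_congr rfl fun v _ => habs v, Finset.sum_const, Finset.card_univ,
      Nat.card_eq_fintype_card, ← Nat.cast_smul_eq_nsmul ℂ]
  have hEE : E * E = E := by
    rw [hE, smul_mul_smul_comm, hsq, smul_smul]
    congr 1
    field_simp
  have hcomm : E * ρ y = ρ y * E := by
    rw [hE, smul_mul_assoc, mul_smul_comm, hS, Finset.sum_mul, Finset.mul_sum]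
    congr 1
    refine Finset.sum_congr rfl fun u _ => ?_
    rw [← map_mul, ← map_mul, hy u u.2]
  -- the trace
  have htr : LinearMap.trace ℂ (Fin n → ℂ) (E * ρ y) =
      (Nat.card D : ℂ)⁻¹ * ∑ u : D, ρ.character ((u : G) * y) := by
    rw [hE, smul_mul_assoc, map_smul, smul_eq_mul, hS, Finset.sum_mul, map_sum]
    congr 1
    refine Finset.sum_congr rfl fun u _ => ?_
    rw [← map_mul]
    rfl
  rw [← htr]
  apply Cfsg.Agent.Lib.Helper12.PermChar.isIntegral_trace_of_isIntegral
  -- powers
  have hpow : ∀ k : ℕ, (E * ρ y) ^ (k + 1) = E * ρ (y ^ (k + 1)) := by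
    intro k
    induction k with
    | zero => simp
    | succ k ih =>
      rw [pow_succ, ih, pow_succ y (k + 1), map_mul]
      calc E * ρ (y ^ (k + 1)) * (E * ρ y)
          = E * (ρ (y ^ (k + 1)) * E) * ρ y := by simp only [mul_assoc]
        _ = E * (E * ρ (y ^ (k + 1))) * ρ y := by
            congr 2
            have : Commute E (ρ y) := hcomm
            have h2 : Commute E ((ρ y) ^ (k + 1)) := this.pow_right _
            rw [map_pow]
            exact h2.eq.symm
        _ = E * E * ρ (y ^ (k + 1)) * ρ y := by simp only [mul_assoc]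
        _ = E * (ρ (y ^ (k + 1)) * ρ y) := by rw [hEE, mul_assoc]
  obtain ⟨m, hm, hym⟩ := hfin.exists_pow_eq_one
  refine ⟨Polynomial.X ^ (m + 1) - Polynomial.X, ?_, ?_⟩
  · apply Polynomial.monic_X_pow_sub
    rw [Polynomial.degree_X]
    exact_mod_cast (by omega : 1 < m + 1)
  · rw [Polynomial.eval₂_sub, Polynomial.eval₂_X_pow, Polynomial.eval₂_X, hpow m, pow_succ, hym,
      one_mul, sub_self]

end Cfsg.Agent.Lib.Helper16
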