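import Cfsg.Prelude.Def_Blocks
import Cfsg.Agent.Lib.Helper3.Degree
import Cfsg.Agent.Lib.Helper80.IrrApi

/-!
# Degrees of irreducible characters and vanishing on a subgroup
-/

set_option autoImplicit false

namespace Cfsg.Agent.Lib.Helper16

open Cfsg Representation

universe u

variable {G : Type u} [Group G]

/-- The degree of an irreducible character as a natural number. -/
theorem irr_degree_spec [Finite G] (χ : IrrCharacter G) :
    ∃ d : ℕ, 0 < d ∧ (χ : G → ℂ) 1 = (d : ℂ) ∧ charDegree (χ : G → ℂ) = d ∧ d ∣ Nat.card G := by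
  obtain ⟨n, ρ, hirr, hρ⟩ := χ.2
  have := hirr
  have := Fintype.ofFinite G
  refine ⟨Module.finrank ℂ (Fin n → ℂ), Cfsg.Agent.Lib.Helper80.finrank_pos_of_irreducible ρ,
    ?_, ?_, Cfsg.Agent.Lib.Helper3.finrank_dvd_card ρ⟩
  · rw [← hρ, char_one]
  · unfold charDegree
    rw [← hρ, char_one, Complex.natCast_re, Nat.floor_natCast]

/-- If a character vanishes on the nonidentity elements of a subgroup `P`, then the order of `P`
divides its degree. -/
theorem card_dvd_of_vanishing [Finite G] {χ : G → ℂ} (hχ : IsCharacter G χ) (P : Subgroup G)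
    (hvan : ∀ g ∈ P, g ≠ 1 → χ g = 0) : ∃ k : ℕ, χ 1 = ((Nat.card P * k : ℕ) : ℂ) := by
  classical
  obtain ⟨n, ρ, rfl⟩ := hχ
  have : Fintype P := Fintype.ofFinite P
  have hP : (Nat.card P : ℂ) ≠ 0 := Nat.cast_ne_zero.mpr Nat.card_pos.ne'
  have : Invertible (Nat.card P : ℂ) := invertibleOfNonzero hP
  let ρP : Representation ℂ P (Fin n → ℂ) := ρ.comp P.subtype
  have h1 := card_inv_mul_sum_char_eq_finrank (ρ := ρP)
  have h2 : ∑ g : P, ρP.character g = ρ.character 1 := by
    rw [Finset.sum_eq_single (1 : P)]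
    · rfl
    · intro g _ hg
      have : ρP.character g = ρ.character (g : G) := rfl
      rw [this]
      apply hvan _ g.2
      intro h
      exact hg (Subtype.ext h)
    · intro h
      exact absurd (Finset.mem_univ _) h
  rw [h2] at h1
  refine ⟨Module.finrank ℂ (invariants ρP), ?_⟩
  push_cast
  rw [← h1, ← mul_assoc, mul_inv_cancel₀ hP, one_mul]

end Cfsg.Agent.Lib.Helper16
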