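import Cfsg.Agent.S0908

/-!
Valuations of class sizes at defect classes, and comparison of `centralChar χ g` with `χ g`
when the class size and the degree have the same `p`-part.
-/

set_option autoImplicit false
set_option linter.unusedSectionVars false

namespace Cfsg.Agent.Lib.Helper16

open Cfsg Cfsg.Agent.Lib.Helper77 Cfsg.Agent.Lib.Helper80 Cfsg.Agent.Lib.Helper81

variable {G : Type*} [Group G] [Finite G]

/-- The least exponent of `p` in the degrees of the members of `B`. -/
noncomputable def minDegVal (p : ℕ) (B : Set (IrrCharacter G)) : ℕ :=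
  sInf ((fun χ : IrrCharacter G => (charDegree (χ : G → ℂ)).factorization p) '' B)

theorem blockDefect_eq (p : ℕ) (B : Set (IrrCharacter G)) :
    blockDefect p B = (Nat.card G).factorization p - minDegVal p B := rfl

theorem blockHeight_eq (p : ℕ) (B : Set (IrrCharacter G)) (χ : G → ℂ) :
    blockHeight p B χ = (charDegree χ).factorization p - minDegVal p B := rfl

theorem minDegVal_le (p : ℕ) {B : Set (IrrCharacter G)} {χ : IrrCharacter G} (hχ : χ ∈ B) :
    minDegVal p B ≤ (charDegree (χ : G → ℂ)).factorization p :=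
  Nat.sInf_le ⟨χ, hχ, rfl⟩

theorem exists_minDegVal (p : ℕ) {B : Set (IrrCharacter G)} (hB : B.Nonempty) :
    ∃ χ ∈ B, (charDegree (χ : G → ℂ)).factorization p = minDegVal p B := by
  obtain ⟨χ₀, hχ₀⟩ := hB
  have hne : ((fun χ : IrrCharacter G => (charDegree (χ : G → ℂ)).factorization p) '' B).Nonempty :=
    ⟨_, χ₀, hχ₀, rfl⟩
  obtain ⟨χ, hχB, hχh⟩ := Nat.sInf_mem hne
  exact ⟨χ, hχB, hχh⟩

theorem minDegVal_le_card (p : ℕ) [Fact p.Prime] {B : Set (IrrCharacter G)} (hB : B.Nonempty) :
    minDegVal p B ≤ (Nat.card G).factorization p := by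
  obtain ⟨χ, hχ⟩ := hB
  refine le_trans (minDegVal_le p hχ) ?_
  obtain ⟨d, hd0, _, hd2, hd3⟩ := irr_degree_spec χ
  rw [hd2]
  exact (Nat.factorization_le_iff_dvd hd0.ne' Nat.card_pos.ne').mpr hd3 p

/-- Height zero means minimal exponent of `p` in the degree. -/
theorem val_eq_of_height_zero (p : ℕ) {B : Set (IrrCharacter G)} {χ : IrrCharacter G}
    (hχ : χ ∈ B) (h0 : blockHeight p B (χ : G → ℂ) = 0) :
    (charDegree (χ : G → ℂ)).factorization p = minDegVal p B := by
  rw [blockHeight_eq] at h0
  have := minDegVal_le p hχ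
  omega

/-- At a defect class, the exponent of `p` in the centralizer order is the defect. -/
theorem val_centralizer_of_isDefectClass (p : ℕ) [Fact p.Prime] (M : Ideal AlgInt)
    (hM : IsPModular p M) {B : Set (IrrCharacter G)} (hB : IsPBlock M B) {y : G}
    (hy : IsDefectClass M B y) :
    (Nat.card (Subgroup.centralizer ({y} : Set G))).factorization p =
      (Nat.card G).factorization p - minDegVal p B := by
  have hp : p.Prime := Fact.out
  obtain ⟨P⟩ : Nonempty (Sylow p (Subgroup.centralizer ({y} : Set G))) := inferInstance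
  have hD : IsDefectGroup p M B ((P : Subgroup (Subgroup.centralizer ({y} : Set G))).map
      (Subgroup.centralizer ({y} : Set G)).subtype) := ⟨y, hy, P, rfl⟩
  have h1 := Cfsg.Agent.S0908.result p M hM B hB _ hD
  rw [Subgroup.card_map_of_injective (Subgroup.subtype_injective _),
    Sylow.card_eq_multiplicity, blockDefect_eq] at h1
  exact Nat.pow_right_injective hp.two_le h1

/-- At a defect class, the exponent of `p` in the class size is the least exponent of `p` in
the degrees. -/
theorem val_index_of_isDefectClass (p : ℕ) [Fact p.Prime] (M : Ideal AlgInt)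
    (hM : IsPModular p M) {B : Set (IrrCharacter G)} (hB : IsPBlock M B) {y : G}
    (hy : IsDefectClass M B y) :
    ((Subgroup.centralizer ({y} : Set G)).index).factorization p = minDegVal p B := by
  have hMp : M.IsPrime := isPrime_of_isPModular hM
  have := Fintype.ofFinite G
  have h1 := val_centralizer_of_isDefectClass p M hM hB hy
  have hne : B.Nonempty := by
    obtain ⟨χ₀, rfl⟩ := hB
    exact ⟨χ₀, self_mem_blockOf hMp χ₀⟩
  have h2 := minDegVal_le_card p hne
  have hGC : Nat.card G = Nat.card (Subgroup.centralizer ({y} : Set G)) *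
      (Subgroup.centralizer ({y} : Set G)).index := (Subgroup.card_mul_index _).symm
  have h3 : (Nat.card G).factorization p =
      (Nat.card (Subgroup.centralizer ({y} : Set G))).factorization p +
        ((Subgroup.centralizer ({y} : Set G)).index).factorization p := by
    conv_lhs => rw [hGC]
    rw [Nat.factorization_mul Nat.card_pos.ne' Subgroup.index_ne_zero_of_finite]
    rfl
  omega

/-- If the class size of `g` and the degree of `χ` have the same `p`-part, then the central
character of `χ` at `g` lies in the local ideal iff `χ g` does. -/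
theorem memLocalIdeal_centralChar_iff (p : ℕ) [Fact p.Prime] (M : Ideal AlgInt)
    (hM : IsPModular p M) (χ : IrrCharacter G) (g : G)
    (hval : ((Subgroup.centralizer ({g} : Set G)).index).factorization p =
      (charDegree (χ : G → ℂ)).factorization p) :
    MemLocalIdeal M (centralChar (χ : G → ℂ) g) ↔ MemLocalIdeal M ((χ : G → ℂ) g) := by
  have hMp : M.IsPrime := isPrime_of_isPModular hM
  have hp : p.Prime := Fact.out
  obtain ⟨d, hd0, hd1, hd2, hd3⟩ := irr_degree_spec χ
  rw [hd2] at hval
  set idx := (Subgroup.centralizer ({g} : Set G)).index with hidx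
  have hi0 : idx ≠ 0 := Subgroup.index_ne_zero_of_finite
  set h := d.factorization p with hh
  have hdc : d = p ^ h * (d / p ^ h) := (Nat.mul_div_cancel' (Nat.ordProj_dvd d p)).symm
  have hc : ¬ p ∣ d / p ^ h := Nat.not_dvd_ordCompl hp hd0.ne'
  have hic : idx = p ^ h * (idx / p ^ h) := by
    rw [← hval]
    exact (Nat.mul_div_cancel' (Nat.ordProj_dvd idx p)).symm
  have hi : ¬ p ∣ idx / p ^ h := by
    rw [← hval]
    exact Nat.not_dvd_ordCompl hp hi0
  set c := d / p ^ h with hcdef
  set i := idx / p ^ h with hidef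
  have hc0 : (c : ℂ) ≠ 0 := by
    intro h0
    apply hc
    have : c = 0 := by exact_mod_cast h0
    rw [this]
    exact dvd_zero _
  have hi0' : (i : ℂ) ≠ 0 := by
    intro h0
    apply hi
    have : i = 0 := by exact_mod_cast h0
    rw [this]
    exact dvd_zero _
  have hp0 : (p : ℂ) ≠ 0 := Nat.cast_ne_zero.mpr hp.ne_zero
  have hval2 : centralChar (χ : G → ℂ) g = ((i : ℂ) * (c : ℂ)⁻¹) * (χ : G → ℂ) g := by
    unfold centralChar
    rw [hd1, ← hidx, hdc, hic]
    push_cast
    field_simp
  have hval3 : (χ : G → ℂ) g = ((c : ℂ) * (i : ℂ)⁻¹) * centralChar (χ : G → ℂ) g := by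
    rw [hval2]
    field_simp
  constructor
  · intro hmem
    rw [hval3]
    exact memLocalIdeal_mul_left hMp (memLocalRing_mul hMp (memLocalRing_natCast hMp _)
      (memLocalRing_inv_natCast hM hi)) hmem
  · intro hmem
    rw [hval2]
    exact memLocalIdeal_mul_left hMp (memLocalRing_mul hMp (memLocalRing_natCast hMp _)
      (memLocalRing_inv_natCast hM hc)) hmem

end Cfsg.Agent.Lib.Helper16

namespace Cfsg.Agent.Lib.Helper16

open Cfsg Cfsg.Agent.Lib.Helper77 Cfsg.Agent.Lib.Helper80 Cfsg.Agent.Lib.Helper81

/-- A defect class consists of `p`-regular elements. -/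
theorem isPRegular_of_isDefectClass {G : Type*} [Group G] [Finite G] (p : ℕ) [Fact p.Prime]
    (M : Ideal AlgInt) (hM : IsPModular p M) {B : Set (IrrCharacter G)} (hB : IsPBlock M B)
    {y : G} (hy : IsDefectClass M B y) : ¬ p ∣ orderOf y := by
  have := Fintype.ofFinite G
  have hMp : M.IsPrime := isPrime_of_isPModular hM
  obtain ⟨χ₀, rfl⟩ := hB
  intro hdiv
  apply hy.2.1
  rw [blockCoeff_eq_zero_of_singular hM χ₀ hdiv]
  exact memLocalIdeal_zero hMp

/-- If `x` and `y` commute and have coprime orders, then whatever commutes with `x * y` commutes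
with `y`. -/
theorem commute_right_of_commute_mul {G : Type*} [Group G] {x y z : G} (hxy : Commute x y)
    (hcop : (orderOf x).Coprime (orderOf y)) (hz : Commute z (x * y)) : Commute z y := by
  have h1 : Commute z ((x * y) ^ orderOf x) := hz.pow_right _
  rw [hxy.mul_pow, pow_orderOf_eq_one, one_mul] at h1
  have h2 : Commute z ((y ^ orderOf x) ^ Int.gcdA (orderOf x) (orderOf y)) := h1.zpow_right _
  have h3 : (y ^ orderOf x) ^ Int.gcdA (orderOf x) (orderOf y) = y := by
    have hb := Int.gcd_eq_gcd_ab (orderOf x) (orderOf y)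
    have hg : Int.gcd (orderOf x : ℤ) (orderOf y : ℤ) = 1 := by
      rw [Int.gcd_natCast_natCast]
      exact hcop
    rw [hg] at hb
    have : y = y ^ (((orderOf x : ℕ) : ℤ) * Int.gcdA (orderOf x) (orderOf y) +
        ((orderOf y : ℕ) : ℤ) * Int.gcdB (orderOf x) (orderOf y)) := by
      rw [← hb]
      simp
    conv_rhs => rw [this]
    rw [zpow_add, zpow_mul, zpow_mul, zpow_natCast, zpow_natCast, pow_orderOf_eq_one, one_zpow,
      mul_one]
  rwa [h3] at h2

/-- If the class size of `g` is divisible by a higher power of `p` than the degree of `χ`, then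
the central character of `χ` at `g` lies in the local ideal. -/
theorem memLocalIdeal_centralChar_of_lt {G : Type*} [Group G] [Finite G] (p : ℕ) [Fact p.Prime]
    (M : Ideal AlgInt) (hM : IsPModular p M) (χ : IrrCharacter G) (g : G)
    (hval : (charDegree (χ : G → ℂ)).factorization p <
      ((Subgroup.centralizer ({g} : Set G)).index).factorization p) :
    MemLocalIdeal M (centralChar (χ : G → ℂ) g) := by
  have hMp : M.IsPrime := isPrime_of_isPModular hM
  have hp : p.Prime := Fact.out
  obtain ⟨d, hd0, hd1, hd2, hd3⟩ := irr_degree_spec χ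
  rw [hd2] at hval
  set idx := (Subgroup.centralizer ({g} : Set G)).index with hidx
  have hi0 : idx ≠ 0 := Subgroup.index_ne_zero_of_finite
  set h := d.factorization p with hh
  obtain ⟨i', hi'⟩ : p ^ (h + 1) ∣ idx :=
    (Nat.Prime.pow_dvd_iff_le_factorization hp hi0).mpr hval
  have hdc : d = p ^ h * (d / p ^ h) := (Nat.mul_div_cancel' (Nat.ordProj_dvd d p)).symm
  have hc : ¬ p ∣ d / p ^ h := Nat.not_dvd_ordCompl hp hd0.ne'
  set c := d / p ^ h with hcdef
  have hc0 : (c : ℂ) ≠ 0 := by
    intro h0
    apply hc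
    have : c = 0 := by exact_mod_cast h0
    rw [this]
    exact dvd_zero _
  have hp0 : (p : ℂ) ≠ 0 := Nat.cast_ne_zero.mpr hp.ne_zero
  have hval2 : centralChar (χ : G → ℂ) g =
      (p : ℂ) * ((i' : ℂ) * (χ : G → ℂ) g * (c : ℂ)⁻¹) := by
    unfold centralChar
    rw [hd1, ← hidx, hdc, hi']
    push_cast
    field_simp
    ring
  rw [hval2]
  refine memLocalIdeal_mul_right hMp ((memLocalIdeal_natCast_iff hM p).mpr dvd_rfl) ?_
  refine memLocalRing_mul hMp (memLocalRing_mul hMp (memLocalRing_natCast hMp _) ?_)
    (memLocalRing_inv_natCast hM hc)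
  exact memLocalRing_algInt hMp ⟨_, irr_isIntegral χ g⟩

end Cfsg.Agent.Lib.Helper16
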