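import Cfsg.Agent.Lib.Helper16.WBO
import Cfsg.Agent.Lib.Helper77.DefectClass

/-!
# Blocks are determined by the `p`-regular classes
-/

set_option autoImplicit false

namespace Cfsg.Agent.Lib.Helper16

open Cfsg Cfsg.Agent.Lib.Helper77 Cfsg.Agent.Lib.Helper80 Cfsg.Agent.Lib.Helper81
open scoped ComplexConjugate

universe u

variable {G : Type u} [Group G] [Fintype G]

/-- If the central characters of `χ₀` and `χ'` agree modulo the local ideal on all `p`-regular
elements, then `χ₀` and `χ'` lie in the same block. -/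
theorem sameBlock_of_regular {p : ℕ} [Fact p.Prime] {M : Ideal AlgInt} (hpM : IsPModular p M)
    (χ₀ χ' : IrrCharacter G)
    (h : ∀ g : G, ¬ p ∣ orderOf g →
      MemLocalIdeal M (centralChar (χ₀ : G → ℂ) g - centralChar (χ' : G → ℂ) g)) :
    SameBlock M (χ₀ : G → ℂ) (χ' : G → ℂ) := by
  classical
  have hM : M.IsPrime := isPrime_of_isPModular hpM
  set B := blockOf M (χ₀ : G → ℂ) with hB
  have h0 : omega (χ₀ : G → ℂ) (blockCoeff B) = 1 := by
    rw [omega_blockCoeff, if_pos (self_mem_blockOf hM χ₀)]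
  have hdiff : MemLocalIdeal M (omega (χ₀ : G → ℂ) (blockCoeff B) -
      omega (χ' : G → ℂ) (blockCoeff B)) := by
    rw [omega_eq_sum_conjClasses (isClassFunction_of_isCharacter χ₀.2)
      (blockCoeff_isClassFunction B),
      omega_eq_sum_conjClasses (isClassFunction_of_isCharacter χ'.2)
      (blockCoeff_isClassFunction B), ← Finset.sum_sub_distrib]
    refine memLocalIdeal_sum hM _ _ fun c _ => ?_
    rw [← mul_sub]
    by_cases hc : p ∣ orderOf (Quotient.out c : G)
    · rw [blockCoeff_eq_zero_of_singular hpM χ₀ hc, zero_mul]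
      exact memLocalIdeal_zero hM
    · exact memLocalIdeal_mul_left hM (memLocalRing_blockCoeff hpM χ₀ _) (h _ hc)
  rw [h0, omega_blockCoeff] at hdiff
  by_contra hns
  rw [if_neg (show χ' ∉ B from hns), sub_zero] at hdiff
  exact not_memLocalIdeal_one hM hdiff

omit [Fintype G] in
/-- A block containing `χ` is the block of `χ`. -/
theorem eq_blockOf_of_mem {M : Ideal AlgInt} (hM : M.IsPrime) {B : Set (IrrCharacter G)}
    (hB : IsPBlock M B) {χ : IrrCharacter G} (hχ : χ ∈ B) : B = blockOf M (χ : G → ℂ) := by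
  obtain ⟨χ₀, rfl⟩ := hB
  have h1 : SameBlock M (χ₀ : G → ℂ) (χ : G → ℂ) := hχ
  ext ψ
  constructor
  · intro hψ
    exact sameBlock_trans hM (sameBlock_symm h1) hψ
  · intro hψ
    exact sameBlock_trans hM h1 hψ

/-- If `G / N` is a `p`-group, the `p`-regular elements lie in `N`. -/
theorem mem_of_regular_of_index {G : Type*} [Group G] [Finite G] {p : ℕ} [Fact p.Prime]
    (N : Subgroup G) [N.Normal] {k : ℕ} (hidx : N.index = p ^ k) {g : G}
    (hg : ¬ p ∣ orderOf g) : g ∈ N := by
  have hp : p.Prime := Fact.out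
  rw [← QuotientGroup.eq_one_iff, ← orderOf_eq_one_iff]
  have h1 : orderOf (g : G ⧸ N) ∣ p ^ k := by
    rw [← hidx, Subgroup.index_eq_card]
    exact orderOf_dvd_natCard _
  have h2 : orderOf (g : G ⧸ N) ∣ orderOf g := by
    apply orderOf_dvd_of_pow_eq_one
    rw [← QuotientGroup.mk_pow, pow_orderOf_eq_one, QuotientGroup.mk_one]
  have hcop : Nat.Coprime (p ^ k) (orderOf g) :=
    Nat.Coprime.pow_left k ((Nat.Prime.coprime_iff_not_dvd hp).2 hg)
  exact Nat.eq_one_of_dvd_coprimes hcop h1 h2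

end Cfsg.Agent.Lib.Helper16
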