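import Cfsg.Agent.Lib.Helper16.DefectVal
import Cfsg.Agent.Lib.Helper74.DZ4
import Cfsg.Agent.Lib.Helper79.Basic
import Cfsg.Agent.Lib.Helper80.Normal

/-!
Blocks with a normal defect group `P`: such a block contains a character with `P` in its kernel
whose degree has the `p`-part of `|H : P|`; such a character vanishes at every element whose
`p`-part lies outside `P`.
-/

set_option autoImplicit false
set_option linter.unusedSectionVars false

namespace Cfsg.Agent.Lib.Helper16

open Cfsg Cfsg.Agent.Lib.Helper77 Cfsg.Agent.Lib.Helper80 Cfsg.Agent.Lib.Helper81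
open scoped ComplexConjugate

/-- The `p`-part of an element is a power of it. -/
theorem mem_zpowers_of_isPPart {G : Type*} [Group G] {p : ℕ} [Fact p.Prime] {g x : G}
    (h : IsPPart p g x) : x ∈ Subgroup.zpowers g := by
  have hp : p.Prime := Fact.out
  obtain ⟨y, hxy, hcomm, ⟨k, hk⟩, hy⟩ := h
  have hcop : (orderOf y).Coprime (orderOf x) := by
    rw [hk]
    exact (Nat.Coprime.pow_left k ((Nat.Prime.coprime_iff_not_dvd hp).mpr hy)).symm
  have h1 : g ^ orderOf y = x ^ orderOf y := by
    rw [← hxy, hcomm.mul_pow, pow_orderOf_eq_one, mul_one]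
  have hb := Int.gcd_eq_gcd_ab (orderOf y) (orderOf x)
  have hg : Int.gcd (orderOf y : ℤ) (orderOf x : ℤ) = 1 := by
    rw [Int.gcd_natCast_natCast]
    exact hcop
  rw [hg] at hb
  have h2 : x = (x ^ orderOf y) ^ Int.gcdA (orderOf y) (orderOf x) := by
    have : x = x ^ (((orderOf y : ℕ) : ℤ) * Int.gcdA (orderOf y) (orderOf x) +
        ((orderOf x : ℕ) : ℤ) * Int.gcdB (orderOf y) (orderOf x)) := by
      rw [← hb]
      simp
    conv_lhs => rw [this]
    rw [zpow_add, zpow_mul, zpow_mul, zpow_natCast, zpow_natCast, pow_orderOf_eq_one, one_zpow,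
      mul_one]
  rw [h2, ← h1, ← zpow_natCast, ← zpow_mul]
  exact ⟨_, rfl⟩

/-- A character with the normal `p`-subgroup `P` in its kernel and degree of full `p`-part in
`H ⧸ P` vanishes at every element whose `p`-part lies outside `P`. -/
theorem ppart_mem_of_ne_zero {H : Type*} [Group H] [Finite H] (p : ℕ) [Fact p.Prime]
    (P : Subgroup H) [P.Normal] (ξ : IrrCharacter H)
    (hker : ∀ u ∈ P, (ξ : H → ℂ) u = (ξ : H → ℂ) 1)
    (hdeg : (charDegree (ξ : H → ℂ)).factorization p + (Nat.card P).factorization p =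
      (Nat.card H).factorization p)
    (k : H) (hk : (ξ : H → ℂ) k ≠ 0) (z : H) (hz : IsPPart p k z) : z ∈ P := by
  classical
  have hp : p.Prime := Fact.out
  have := Fintype.ofFinite (H ⧸ P)
  obtain ⟨ξ', hξ'irr, hξ'val⟩ := Cfsg.Agent.Lib.Helper79.isIrrCharacter_deflate ξ.2 P hker
  have hdeg' : charDegree ξ' = charDegree (ξ : H → ℂ) := by
    unfold charDegree
    have := hξ'val 1
    rw [QuotientGroup.mk_one] at this
    rw [this]
  have hcardq : Nat.card H = Nat.card (H ⧸ P) * Nat.card P :=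
    Subgroup.card_eq_card_quotient_mul_card_subgroup P
  have hfac : (Nat.card H).factorization p =
      (Nat.card (H ⧸ P)).factorization p + (Nat.card P).factorization p := by
    rw [hcardq, Nat.factorization_mul Nat.card_pos.ne' Nat.card_pos.ne']
    rfl
  have hdvd : p ^ (Nat.card (H ⧸ P)).factorization p ∣ charDegree ξ' := by
    rw [hdeg']
    have : (Nat.card (H ⧸ P)).factorization p =
        (charDegree (ξ : H → ℂ)).factorization p := by omega
    rw [this]
    exact Nat.ordProj_dvd _ _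
  have hvan := Cfsg.Agent.Lib.Helper74.dz_vanish (⟨ξ', hξ'irr⟩ : IrrCharacter (H ⧸ P)) p hp hdvd
  by_contra hzP
  apply hk
  rw [← hξ'val k]
  apply hvan
  obtain ⟨y, hzy, hcomm, ⟨j, hj⟩, hy⟩ := hz
  have hz1 : (z : H ⧸ P) ≠ 1 := by
    intro h
    exact hzP ((QuotientGroup.eq_one_iff z).mp h)
  have hzo : orderOf (z : H ⧸ P) ∣ p ^ j := by
    rw [← hj]
    exact orderOf_map_dvd (QuotientGroup.mk' P) z
  obtain ⟨i, _, hi⟩ := (Nat.dvd_prime_pow hp).mp hzo
  have hi0 : i ≠ 0 := by
    intro h0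
    rw [h0, pow_zero, orderOf_eq_one_iff] at hi
    exact hz1 hi
  have hyo : orderOf (y : H ⧸ P) ∣ orderOf y := orderOf_map_dvd (QuotientGroup.mk' P) y
  have hyp : ¬ p ∣ orderOf (y : H ⧸ P) := fun h => hy (dvd_trans h hyo)
  have hcop : (orderOf (z : H ⧸ P)).Coprime (orderOf (y : H ⧸ P)) := by
    rw [hi]
    exact Nat.Coprime.pow_left i ((Nat.Prime.coprime_iff_not_dvd hp).mpr hyp)
  have hcm : Commute (z : H ⧸ P) (y : H ⧸ P) := by
    have := congrArg (QuotientGroup.mk' P) hcomm.eq
    show (z : H ⧸ P) * (y : H ⧸ P) = (y : H ⧸ P) * (z : H ⧸ P)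
    simpa using this
  have hk' : (k : H ⧸ P) = (z : H ⧸ P) * (y : H ⧸ P) := by
    rw [← hzy]
    rfl
  rw [hk', hcm.orderOf_mul_eq_mul_orderOf_of_coprime hcop, hi]
  exact dvd_mul_of_dvd_left (dvd_pow_self p hi0) _

/-- A block with a normal defect group `P` contains a character with `P` in its kernel whose
degree has `p`-part exactly that of `|H : P|`. -/
theorem exists_ker_height_zero {H : Type*} [Group H] [Finite H] (p : ℕ) [Fact p.Prime]
    (M : Ideal AlgInt) (hM : IsPModular p M) (P : Subgroup H) [P.Normal]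
    (b : Set (IrrCharacter H)) (hb : IsPBlock M b) (hP : IsDefectGroup p M b P) :
    ∃ ξ ∈ b, (∀ u ∈ P, (ξ : H → ℂ) u = (ξ : H → ℂ) 1) ∧
      (charDegree (ξ : H → ℂ)).factorization p + (Nat.card P).factorization p =
        (Nat.card H).factorization p := by
  classical
  have := Fintype.ofFinite H
  have := Fintype.ofFinite (IrrCharacter H)
  have hMp : M.IsPrime := isPrime_of_isPModular hM
  have hp : p.Prime := Fact.out
  have hcardP := Cfsg.Agent.S0908.result p M hM b hb P hP
  rw [blockDefect_eq] at hcardP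
  have hbne : b.Nonempty := by
    obtain ⟨ξ₀, rfl⟩ := hb
    exact ⟨ξ₀, self_mem_blockOf hMp ξ₀⟩
  have hle := minDegVal_le_card p hbne
  have hPval : (Nat.card P).factorization p = (Nat.card H).factorization p - minDegVal p b := by
    rw [hcardP]
    simp [hp.factorization]
  obtain ⟨y, hy, hPle, -⟩ := isDefectGroup_iff.mp hP
  have hyreg := isPRegular_of_isDefectClass p M hM hb hy
  have hcommP : ∀ u ∈ P, u * y = y * u := by
    intro u hu
    have := hPle hu
    rw [Subgroup.mem_centralizer_iff] at this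
    exact (this y rfl).symm
  have hPp : IsPGroup p P := IsPGroup.of_card hcardP
  obtain ⟨ξ₀, rfl⟩ := hb
  by_contra hcon
  push Not at hcon
  apply hy.2.1
  -- sum over P
  have hsumP : ∑ u : H, (if u ∈ P then blockCoeff (blockOf M (ξ₀ : H → ℂ)) (y * u) else 0) =
      blockCoeff (blockOf M (ξ₀ : H → ℂ)) y := by
    rw [Finset.sum_eq_single (1 : H)]
    · simp
    · intro u _ hu
      split_ifs with huP
      · apply blockCoeff_eq_zero_of_singular hM ξ₀
        obtain ⟨k, hk⟩ := hPp ⟨u, huP⟩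
        have hk' : orderOf u ∣ p ^ k := by
          apply orderOf_dvd_of_pow_eq_one
          have := congrArg (Subtype.val) hk
          simpa using this
        obtain ⟨j, hj, hju⟩ := (Nat.dvd_prime_pow hp).mp hk'
        have hj0 : j ≠ 0 := by
          intro h0
          rw [h0, pow_zero, orderOf_eq_one_iff] at hju
          exact hu hju
        have hcop : (orderOf y).Coprime (orderOf u) := by
          rw [hju]
          exact (Nat.Coprime.pow_left j ((Nat.Prime.coprime_iff_not_dvd hp).mpr hyreg)).symm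
        have hcm : Commute y u := (hcommP u huP).symm
        rw [hcm.orderOf_mul_eq_mul_orderOf_of_coprime hcop, hju]
        exact dvd_mul_of_dvd_right (dvd_pow_self p hj0) _
      · rfl
    · intro h0
      exact absurd (Finset.mem_univ _) h0
  rw [← hsumP]
  have hexp : ∀ u : H, (if u ∈ P then blockCoeff (blockOf M (ξ₀ : H → ℂ)) (y * u) else 0) =
      (Nat.card H : ℂ)⁻¹ * ∑ ξ ∈ Finset.univ.filter
        (fun ξ : IrrCharacter H => ξ ∈ blockOf M (ξ₀ : H → ℂ)),
        (ξ : H → ℂ) 1 * conj (if u ∈ P then (ξ : H → ℂ) (y * u) else 0) := by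
    intro u
    split_ifs
    · rw [blockCoeff_eq_sum]
    · simp
  rw [Finset.sum_congr rfl fun u _ => hexp u, ← Finset.mul_sum, Finset.sum_comm, Finset.mul_sum]
  refine memLocalIdeal_sum hMp _ _ fun ξ hξ => ?_
  have hξb : ξ ∈ blockOf M (ξ₀ : H → ℂ) := (Finset.mem_filter.mp hξ).2
  rw [← Finset.mul_sum, ← map_sum]
  by_cases hker : ∀ u ∈ P, (ξ : H → ℂ) u = (ξ : H → ℂ) 1
  · rw [(irr_sum_normal ξ P y).1 hker]
    have hne := hcon ξ hξb hker
    obtain ⟨d, hd0, hd1, hd2, hd3⟩ := irr_degree_spec ξ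
    have hmin := minDegVal_le p hξb
    rw [hd2] at hne hmin
    -- d = p^(h+1) * c where h + |P|_p = |H|_p
    set a := (Nat.card H).factorization p with ha
    set h := minDegVal p (blockOf M (ξ₀ : H → ℂ)) with hh
    have hlt : h + 1 ≤ d.factorization p := by omega
    obtain ⟨c, hc⟩ : p ^ (h + 1) ∣ d :=
      (Nat.Prime.pow_dvd_iff_le_factorization hp hd0.ne').mpr hlt
    set m := Nat.card H / p ^ a with hm
    have hGm : Nat.card H = p ^ a * m := (Nat.mul_div_cancel' (Nat.ordProj_dvd _ p)).symm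
    have hmp : ¬ p ∣ m := Nat.not_dvd_ordCompl hp Nat.card_pos.ne'
    have hm0 : (m : ℂ) ≠ 0 := by
      intro h0
      apply hmp
      have : m = 0 := by exact_mod_cast h0
      rw [this]
      exact dvd_zero _
    have hp0 : (p : ℂ) ≠ 0 := Nat.cast_ne_zero.mpr hp.ne_zero
    have hval : (Nat.card H : ℂ)⁻¹ * ((ξ : H → ℂ) 1 *
        conj ((Nat.card P : ℂ) * (ξ : H → ℂ) y)) =
        (p : ℂ) * (((c : ℕ) : ℂ) * (m : ℂ)⁻¹ * conj ((ξ : H → ℂ) y)) := by
      rw [hd1, map_mul, Complex.conj_natCast, hcardP, hGm, hc]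
      push_cast
      have e2 : (p : ℂ) ^ (h + 1) * (p : ℂ) ^ (a - h) = (p : ℂ) ^ a * (p : ℂ) := by
        rw [← pow_add, ← pow_succ]
        congr 1
        omega
      field_simp
      linear_combination ((c : ℂ) * conj ((ξ : H → ℂ) y)) * e2
    rw [hval]
    refine memLocalIdeal_mul_right hMp ((memLocalIdeal_natCast_iff hM p).mpr dvd_rfl) ?_
    refine memLocalRing_mul hMp (memLocalRing_mul hMp (memLocalRing_natCast hMp _)
      (memLocalRing_inv_natCast hM hmp)) ?_
    exact memLocalRing_algInt hMp ⟨_, map_isIntegral_int (starRingEnd ℂ) (irr_isIntegral ξ y)⟩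
  · push Not at hker
    rw [(irr_sum_normal ξ P y).2 hker, map_zero, mul_zero, mul_zero]
    exact memLocalIdeal_zero hMp

end Cfsg.Agent.Lib.Helper16
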