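import Cfsg.Agent.Lib.Helper16.RegularDet
import Cfsg.Agent.Lib.Helper75.Clifford
import Cfsg.Agent.Lib.Helper77.Clifford
import Cfsg.Agent.Lib.Helper77.Brauer
import Cfsg.Agent.Lib.Helper3.Complete
import Cfsg.Agent.Lib.Helper25.Ind

/-!
# The orbit of a block of a normal subgroup, and its idempotent as a class function of the group
-/

set_option autoImplicit false

namespace Cfsg.Agent.Lib.Helper16

open Cfsg Cfsg.Agent.Lib.Helper77 Cfsg.Agent.Lib.Helper80 Cfsg.Agent.Lib.Helper81
open Cfsg.Agent.Lib.Helper75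
open scoped ComplexConjugate

universe u

section Closed

variable {G : Type u} [Group G] [Fintype G]

/-- The idempotent of a union of blocks has local-integer coefficients. -/
theorem memLocalRing_blockCoeff_of_closed {p : ℕ} {M : Ideal AlgInt} (hpM : IsPModular p M)
    (A : Set (IrrCharacter G))
    (hA : ∀ ψ ∈ A, ∀ ψ' : IrrCharacter G, SameBlock M (ψ : G → ℂ) (ψ' : G → ℂ) → ψ' ∈ A)
    (g : G) : MemLocalRing M (blockCoeff A g) := by
  classical
  have := Fintype.ofFinite (IrrCharacter G)
  have hM : M.IsPrime := isPrime_of_isPModular hpM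
  rw [blockCoeff_eq_sum]
  set s := Finset.univ.filter (fun χ : IrrCharacter G => χ ∈ A) with hs
  set f : IrrCharacter G → Set (IrrCharacter G) := fun ψ => blockOf M (ψ : G → ℂ) with hf
  rw [← Finset.sum_fiberwise_of_maps_to (s := s) (t := s.image f) (g := f)
    (fun x hx => Finset.mem_image_of_mem f hx), Finset.mul_sum]
  refine memLocalRing_sum hM _ _ fun β hβ => ?_
  obtain ⟨ψ₀, hψ₀, rfl⟩ := Finset.mem_image.mp hβ
  have hψ₀A : ψ₀ ∈ A := by
    rw [hs, Finset.mem_filter] at hψ₀
    exact hψ₀.2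
  have hfilter : s.filter (fun x => f x = f ψ₀) =
      Finset.univ.filter (fun χ : IrrCharacter G => χ ∈ blockOf M (ψ₀ : G → ℂ)) := by
    ext x
    simp only [hs, Finset.mem_filter, Finset.mem_univ, true_and]
    constructor
    · rintro ⟨_, hx⟩
      have : x ∈ f x := self_mem_blockOf hM x
      rw [hx] at this
      exact this
    · intro hx
      refine ⟨hA ψ₀ hψ₀A x hx, ?_⟩
      exact (eq_blockOf_of_mem hM ⟨ψ₀, rfl⟩ hx).symm
  rw [hfilter, ← blockCoeff_eq_sum]
  exact memLocalRing_blockCoeff hpM ψ₀ g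

end Closed

section Normal

variable {G : Type u} [Group G] (N : Subgroup G) [hN : N.Normal]

/-- Conjugation on irreducible characters of a normal subgroup. -/
def conjIrr (g : G) (ψ : IrrCharacter N) : IrrCharacter N :=
  ⟨conjFun N g (ψ : N → ℂ), conjFun_isIrrCharacter N g ψ.2⟩

theorem conjIrr_conjIrr (g h : G) (ψ : IrrCharacter N) :
    conjIrr N g (conjIrr N h ψ) = conjIrr N (h * g) ψ :=
  Subtype.ext (conjFun_conjFun N g h _)

theorem conjIrr_one (ψ : IrrCharacter N) : conjIrr N 1 ψ = ψ :=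
  Subtype.ext (conjFun_one N _)

theorem conjFun_isClassFunction (g : G) {a : N → ℂ} (ha : IsClassFunction N a) :
    IsClassFunction N (conjFun N g a) := by
  intro n k
  rw [conjFun_apply, conjFun_apply]
  have := ha ⟨g * n * g⁻¹, hN.conj_mem n n.2 g⟩ ⟨g * k * g⁻¹, hN.conj_mem k k.2 g⟩
  rw [← this]
  congr 1
  apply Subtype.ext
  push_cast
  group

theorem omega_conjFun [Fintype N] (g : G) (θ a : N → ℂ) :
    omega (conjFun N g θ) a = omega θ (conjFun N g⁻¹ a) := by
  unfold omega
  have h1 : conjFun N g θ 1 = θ 1 := by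
    rw [conjFun_apply]
    congr 1
    apply Subtype.ext
    simp
  rw [h1]
  congr 1
  refine Fintype.sum_equiv (MulAut.conjNormal g : N ≃* N).toEquiv _ _ ?_
  intro n
  rw [conjFun_apply, conjFun_apply]
  have e1 : (MulAut.conjNormal g : N ≃* N).toEquiv n = ⟨g * n * g⁻¹, hN.conj_mem n n.2 g⟩ := by
    apply Subtype.ext
    simp [MulAut.conjNormal_apply]
  rw [e1]
  congr 2
  apply Subtype.ext
  simp only
  group

theorem sameBlock_conjFun [Fintype N] {M : Ideal AlgInt} (hM : M.IsPrime) (g : G) {θ θ' : N → ℂ}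
    (hθ : IsIrrCharacter N θ) (hθ' : IsIrrCharacter N θ') (h : SameBlock M θ θ') :
    SameBlock M (conjFun N g θ) (conjFun N g θ') := by
  intro n
  have hc := isClassFunction_of_isCharacter (conjFun_isIrrCharacter N g hθ)
  have hc' := isClassFunction_of_isCharacter (conjFun_isIrrCharacter N g hθ')
  rw [← omega_classInd hc, ← omega_classInd hc', omega_conjFun, omega_conjFun]
  apply memLocalIdeal_omega_sub hM (isClassFunction_of_isCharacter hθ)
    (isClassFunction_of_isCharacter hθ') h
    (conjFun_isClassFunction N g⁻¹ (classInd_isClassFunction n))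
  intro m
  rw [conjFun_apply]
  unfold classInd
  split_ifs
  · exact memLocalRing_one hM
  · exact memLocalRing_zero hM

/-- The union of the `G`-conjugates of a set of irreducible characters of `N`. -/
def orbitBlock (b : Set (IrrCharacter N)) : Set (IrrCharacter N) :=
  {ψ | ∃ g : G, conjIrr N g ψ ∈ b}

theorem mem_orbitBlock_of_mem {b : Set (IrrCharacter N)} {ψ : IrrCharacter N} (h : ψ ∈ b) :
    ψ ∈ orbitBlock N b := ⟨1, by rw [conjIrr_one]; exact h⟩

theorem conjIrr_mem_orbitBlock_iff (b : Set (IrrCharacter N)) (h : G) (ψ : IrrCharacter N) :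
    conjIrr N h ψ ∈ orbitBlock N b ↔ ψ ∈ orbitBlock N b := by
  constructor
  · rintro ⟨g, hg⟩
    rw [conjIrr_conjIrr] at hg
    exact ⟨h * g, hg⟩
  · rintro ⟨g, hg⟩
    refine ⟨h⁻¹ * g, ?_⟩
    rw [conjIrr_conjIrr, mul_inv_cancel_left]
    exact hg

theorem orbitBlock_closed [Fintype N] {M : Ideal AlgInt} (hM : M.IsPrime)
    {b : Set (IrrCharacter N)} (hb : IsPBlock M b) :
    ∀ ψ ∈ orbitBlock N b, ∀ ψ' : IrrCharacter N,
      SameBlock M (ψ : N → ℂ) (ψ' : N → ℂ) → ψ' ∈ orbitBlock N b := by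
  rintro ψ ⟨g, hg⟩ ψ' hsame
  refine ⟨g, ?_⟩
  obtain ⟨θ₀, rfl⟩ := hb
  have h1 : SameBlock M (θ₀ : N → ℂ) (conjFun N g (ψ : N → ℂ)) := hg
  exact sameBlock_trans hM h1 (sameBlock_conjFun N hM g ψ.2 ψ'.2 hsame)

/-- The idempotent of the orbit is invariant under conjugation by `G`. -/
theorem conjFun_blockCoeff_orbitBlock [Fintype N] (b : Set (IrrCharacter N)) (h : G) :
    conjFun N h (blockCoeff (orbitBlock N b)) = blockCoeff (orbitBlock N b) := by
  funext n
  rw [conjFun_apply]
  unfold blockCoeff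
  congr 1
  symm
  apply finsum_mem_eq_of_bijOn (conjIrr N h⁻¹)
  · refine ⟨?_, ?_, ?_⟩
    · intro ψ hψ
      exact (conjIrr_mem_orbitBlock_iff N b h⁻¹ ψ).mpr hψ
    · intro ψ _ ψ' _ heq
      have := congrArg (conjIrr N h) heq
      rwa [conjIrr_conjIrr, conjIrr_conjIrr, inv_mul_cancel, conjIrr_one, conjIrr_one] at this
    · intro ψ hψ
      refine ⟨conjIrr N h ψ, (conjIrr_mem_orbitBlock_iff N b h ψ).mpr hψ, ?_⟩
      rw [conjIrr_conjIrr, mul_inv_cancel, conjIrr_one]
  · intro ψ _
    show (ψ : N → ℂ) 1 * conj ((ψ : N → ℂ) n) =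
      conjFun N h⁻¹ (ψ : N → ℂ) 1 * conj (conjFun N h⁻¹ (ψ : N → ℂ) ⟨h * n * h⁻¹, _⟩)
    rw [conjFun_apply, conjFun_apply]
    have e1 : (1 : N) = ⟨h⁻¹ * ((1 : N) : G) * h⁻¹⁻¹, hN.conj_mem _ (1 : N).2 h⁻¹⟩ := by
      apply Subtype.ext
      simp
    have e2 : n = ⟨h⁻¹ * ((⟨h * n * h⁻¹, hN.conj_mem n n.2 h⟩ : N) : G) * h⁻¹⁻¹,
        hN.conj_mem _ (⟨h * n * h⁻¹, hN.conj_mem n n.2 h⟩ : N).2 h⁻¹⟩ := by
      apply Subtype.ext
      simp only
      group
    rw [← e1, ← e2]

/-- The idempotent of the orbit of `b`, as a function on `G` supported on `N`. -/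
noncomputable def orbitIdem (b : Set (IrrCharacter N)) : G → ℂ :=
  extendByZero N (blockCoeff (orbitBlock N b))

theorem orbitIdem_coe (b : Set (IrrCharacter N)) (n : N) :
    orbitIdem N b (n : G) = blockCoeff (orbitBlock N b) n :=
  Cfsg.Agent.Lib.Helper25.extendByZero_coe N _ n

theorem orbitIdem_of_not_mem (b : Set (IrrCharacter N)) {g : G} (hg : g ∉ N) :
    orbitIdem N b g = 0 :=
  Cfsg.Agent.Lib.Helper25.extendByZero_of_not_mem N _ hg

theorem orbitIdem_isClassFunction [Fintype N] (b : Set (IrrCharacter N)) :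
    IsClassFunction G (orbitIdem N b) := by
  intro g h
  by_cases hg : g ∈ N
  · have h1 : h * g * h⁻¹ = ((⟨h * g * h⁻¹, hN.conj_mem g hg h⟩ : N) : G) := rfl
    have h2 : g = ((⟨g, hg⟩ : N) : G) := rfl
    rw [h1, orbitIdem_coe]
    conv_rhs => rw [h2, orbitIdem_coe]
    have := congrFun (conjFun_blockCoeff_orbitBlock N b h) ⟨g, hg⟩
    rw [conjFun_apply] at this
    exact this
  · rw [orbitIdem_of_not_mem N b hg, orbitIdem_of_not_mem]
    intro hh
    apply hg
    have := hN.conj_mem _ hh h⁻¹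
    simpa [mul_assoc] using this

theorem memLocalRing_orbitIdem [Fintype N] {p : ℕ} {M : Ideal AlgInt} (hpM : IsPModular p M)
    {b : Set (IrrCharacter N)} (hb : IsPBlock M b) (g : G) :
    MemLocalRing M (orbitIdem N b g) := by
  have hM : M.IsPrime := isPrime_of_isPModular hpM
  by_cases hg : g ∈ N
  · have h2 : g = ((⟨g, hg⟩ : N) : G) := rfl
    rw [h2, orbitIdem_coe]
    exact memLocalRing_blockCoeff_of_closed hpM _ (orbitBlock_closed N hM hb) _
  · rw [orbitIdem_of_not_mem N b hg]
    exact memLocalRing_zero hM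

open Classical in
/-- The central character of `χ` at the orbit idempotent, when `χ` lies over `ψ`. -/
theorem omega_orbitIdem [Fintype G] [Fintype N] (b : Set (IrrCharacter N))
    (χ : IrrCharacter G) (ψ : IrrCharacter N)
    (hne : classInner (fun n : N => (χ : G → ℂ) n) (ψ : N → ℂ) ≠ 0) :
    omega (χ : G → ℂ) (orbitIdem N b) = if ψ ∈ orbitBlock N b then 1 else 0 := by
  rw [omega_eq_of_classInner_ne_zero N χ.2 ψ.2 hne (orbitIdem_isClassFunction N b)
    (fun g hg => orbitIdem_of_not_mem N b hg)]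
  have : (fun h : N => orbitIdem N b (h : G)) = blockCoeff (orbitBlock N b) := by
    funext n
    exact orbitIdem_coe N b n
  rw [this, omega_blockCoeff]

end Normal

section Misc

variable {G : Type u} [Group G] [Fintype G]

open Classical in
/-- Summing a class function against the induced central character over the classes of `G`. -/
theorem sum_conjClasses_mul_icc (H : Subgroup G) [Fintype H] {a : G → ℂ}
    (ha : IsClassFunction G a) (θ : H → ℂ) :
    ∑ c : ConjClasses G, a (Quotient.out c) * inducedCentralChar H θ (Quotient.out c) =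
      omega θ (fun h : H => a h) := by
  simp_rw [inducedCentralChar_eq_omega]
  unfold omega
  simp_rw [mul_div_assoc', Finset.mul_sum]
  rw [← Finset.sum_div, Finset.sum_comm]
  congr 1
  refine Finset.sum_congr rfl fun h _ => ?_
  rw [Finset.sum_eq_single (ConjClasses.mk (h : G))]
  · have hc : IsConj (Quotient.out (ConjClasses.mk (h : G))) (h : G) := by
      rw [← ConjClasses.mk_eq_mk_iff_isConj]
      exact Quotient.out_eq _
    unfold indClassFn
    rw [if_pos hc, one_mul, isClassFunction_of_isConj ha hc]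
  · intro c _ hne
    unfold indClassFn
    rw [if_neg, zero_mul, mul_zero]
    intro hc
    apply hne
    rw [← ConjClasses.mk_eq_mk_iff_isConj] at hc
    rw [← hc]
    exact (Quotient.out_eq c).symm
  · intro h'
    exact absurd (Finset.mem_univ _) h'

/-- Every irreducible character of `G` has an irreducible constituent on a subgroup. -/
theorem exists_constituent (H : Subgroup G) [Fintype H] (χ : IrrCharacter G) :
    ∃ ψ : IrrCharacter H, classInner (fun h : H => (χ : G → ℂ) h) (ψ : H → ℂ) ≠ 0 := by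
  classical
  have := Fintype.ofFinite (IrrCharacter H)
  by_contra hcon
  push Not at hcon
  have hcl : IsClassFunction H (fun h : H => (χ : G → ℂ) h) := by
    intro h k
    show (χ : G → ℂ) ((k * h * k⁻¹ : H) : G) = (χ : G → ℂ) h
    push_cast
    exact isClassFunction_of_isCharacter χ.2 _ _
  have h1 := Cfsg.Agent.Lib.Helper3.classFunction_eq_sum hcl
  have h2 := congrFun h1 1
  rw [Finset.sum_apply] at h2
  simp only [hcon, zero_smul, Pi.zero_apply, Finset.sum_const_zero] at h2
  exact irr_one_ne_zero χ.2 h2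

end Misc

end Cfsg.Agent.Lib.Helper16
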