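import Mathlib

/-! Definitions for S4561 (Gagola-type embedding): own regular wreath product `Wr Q p`
with `ZMod p`, the twisted group `Tw H p` (wreath with a Heisenberg group glued on),
and the subgroups `Zhat`, `Mker`. -/

set_option autoImplicit false
universe u

namespace Cfsg.Agent.Lib.Helper16.Gag

/-- own regular wreath product `Q ≀ ZMod p`: `(f,a)(f',a') = (i ↦ f i * f' (i - a), a + a')` -/
@[ext] structure Wr (Q : Type u) (p : ℕ) where
  f : ZMod p → Q
  a : ZMod p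

namespace Wr
variable {Q : Type u} [Group Q] {p : ℕ}

instance : Mul (Wr Q p) := ⟨fun x y => ⟨fun i => x.f i * y.f (i - x.a), x.a + y.a⟩⟩
instance : One (Wr Q p) := ⟨⟨fun _ => 1, 0⟩⟩
instance : Inv (Wr Q p) := ⟨fun x => ⟨fun i => (x.f (i + x.a))⁻¹, -x.a⟩⟩

@[simp] theorem mul_f (x y : Wr Q p) (i : ZMod p) : (x * y).f i = x.f i * y.f (i - x.a) := rfl
@[simp] theorem mul_a (x y : Wr Q p) : (x * y).a = x.a + y.a := rfl
@[simp] theorem one_f (i : ZMod p) : (1 : Wr Q p).f i = 1 := rfl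
@[simp] theorem one_a : (1 : Wr Q p).a = 0 := rfl
@[simp] theorem inv_f (x : Wr Q p) (i : ZMod p) : (x⁻¹).f i = (x.f (i + x.a))⁻¹ := rfl
@[simp] theorem inv_a (x : Wr Q p) : (x⁻¹).a = -x.a := rfl

instance : Group (Wr Q p) where
  mul_assoc x y z := by
    ext i
    · simp only [mul_f, mul_a, mul_assoc, sub_sub]
    · simp only [mul_a, add_assoc]
  one_mul x := by ext i <;> simp
  mul_one x := by ext i <;> simp
  inv_mul_cancel x := by
    ext i
    · simp
    · simp

end Wr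

/-- the twisted group: `(f,a,b,c)(f',a',b',c') = (i ↦ f i * f' (i - a), a+a', b+b', c+c'+a*b')` -/
@[ext] structure Tw (H : Type u) (p : ℕ) where
  f : ZMod p → H
  a : ZMod p
  b : ZMod p
  c : ZMod p

namespace Tw
open scoped IsMulCommutative
variable {H : Type u} [Group H] {p : ℕ}

instance : Mul (Tw H p) :=
  ⟨fun x y => ⟨fun i => x.f i * y.f (i - x.a), x.a + y.a, x.b + y.b, x.c + y.c + x.a * y.b⟩⟩
instance : One (Tw H p) := ⟨⟨fun _ => 1, 0, 0, 0⟩⟩
instance : Inv (Tw H p) :=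
  ⟨fun x => ⟨fun i => (x.f (i + x.a))⁻¹, -x.a, -x.b, -x.c + x.a * x.b⟩⟩

@[simp] theorem mul_f (x y : Tw H p) (i : ZMod p) : (x * y).f i = x.f i * y.f (i - x.a) := rfl
@[simp] theorem mul_a (x y : Tw H p) : (x * y).a = x.a + y.a := rfl
@[simp] theorem mul_b (x y : Tw H p) : (x * y).b = x.b + y.b := rfl
@[simp] theorem mul_c (x y : Tw H p) : (x * y).c = x.c + y.c + x.a * y.b := rfl
@[simp] theorem one_f (i : ZMod p) : (1 : Tw H p).f i = 1 := rfl
@[simp] theorem one_a : (1 : Tw H p).a = 0 := rfl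
@[simp] theorem one_b : (1 : Tw H p).b = 0 := rfl
@[simp] theorem one_c : (1 : Tw H p).c = 0 := rfl
@[simp] theorem inv_f (x : Tw H p) (i : ZMod p) : (x⁻¹).f i = (x.f (i + x.a))⁻¹ := rfl
@[simp] theorem inv_a (x : Tw H p) : (x⁻¹).a = -x.a := rfl
@[simp] theorem inv_b (x : Tw H p) : (x⁻¹).b = -x.b := rfl
@[simp] theorem inv_c (x : Tw H p) : (x⁻¹).c = -x.c + x.a * x.b := rfl

instance : Group (Tw H p) where
  mul_assoc x y z := by
    ext i
    · simp only [mul_f, mul_a, mul_assoc, sub_sub]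
    · simp only [mul_a, add_assoc]
    · simp only [mul_b, add_assoc]
    · simp only [mul_c, mul_a, mul_b]; ring
  one_mul x := by ext i <;> simp
  mul_one x := by ext i <;> simp
  inv_mul_cancel x := by
    ext i
    · simp
    · simp
    · simp
    · simp

/-- `Ẑ`: elements `(ζ,0,0,c)` with `ζ` central-valued -/
def Zhat (H : Type u) [Group H] (p : ℕ) : Subgroup (Tw H p) where
  carrier := {t | t.a = 0 ∧ t.b = 0 ∧ ∀ i, t.f i ∈ Subgroup.center H}
  one_mem' := ⟨rfl, rfl, fun _ => Subgroup.one_mem _⟩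
  mul_mem' := by
    rintro x y ⟨hxa, hxb, hxf⟩ ⟨hya, hyb, hyf⟩
    refine ⟨by simp [hxa, hya], by simp [hxb, hyb], fun i => ?_⟩
    simpa using Subgroup.mul_mem _ (hxf i) (hyf _)
  inv_mem' := by
    rintro x ⟨hxa, hxb, hxf⟩
    refine ⟨by simp [hxa], by simp [hxb], fun i => ?_⟩
    simpa using Subgroup.inv_mem _ (hxf _)

theorem mem_Zhat {t : Tw H p} :
    t ∈ Zhat H p ↔ t.a = 0 ∧ t.b = 0 ∧ ∀ i, t.f i ∈ Subgroup.center H := Iff.rfl

/-- the hom `Ẑ → Z(H)`, `(ζ,0,0,c) ↦ (∏ ζ) * ι c` -/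
noncomputable def phi [Fintype (ZMod p)] (ι : Multiplicative (ZMod p) →* Subgroup.center H) :
    Zhat H p →* Subgroup.center H where
  toFun t := (∏ i, (⟨t.1.f i, t.2.2.2 i⟩ : Subgroup.center H)) * ι (Multiplicative.ofAdd t.1.c)
  map_one' := by
    have h1 : ∀ i : ZMod p, (⟨(1 : Zhat H p).1.f i, (1 : Zhat H p).2.2.2 i⟩ : Subgroup.center H) = 1 :=
      fun i => rfl
    simp only [h1, Finset.prod_const_one, one_mul]
    exact map_one ι
  map_mul' x y := by
    have hx : x.1.a = 0 := x.2.1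
    have hf : ∀ i : ZMod p, (⟨(x * y).1.f i, (x * y).2.2.2 i⟩ : Subgroup.center H)
        = ⟨x.1.f i, x.2.2.2 i⟩ * ⟨y.1.f i, y.2.2.2 i⟩ := by
      intro i
      apply Subtype.ext
      show x.1.f i * y.1.f (i - x.1.a) = x.1.f i * y.1.f i
      rw [hx, sub_zero]
    have hc : (x * y).1.c = x.1.c + y.1.c := by
      show x.1.c + y.1.c + x.1.a * y.1.b = _
      rw [hx, zero_mul, add_zero]
    simp only [hf, Finset.prod_mul_distrib, hc, ofAdd_add, map_mul]
    exact mul_mul_mul_comm _ _ _ _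

theorem phi_apply [Fintype (ZMod p)] (ι : Multiplicative (ZMod p) →* Subgroup.center H)
    (t : Zhat H p) :
    phi ι t = (∏ i, (⟨t.1.f i, t.2.2.2 i⟩ : Subgroup.center H)) * ι (Multiplicative.ofAdd t.1.c) :=
  rfl

/-- `M = ker φ`, as a subgroup of `Tw H p` -/
noncomputable def Mker [Fintype (ZMod p)] (ι : Multiplicative (ZMod p) →* Subgroup.center H) :
    Subgroup (Tw H p) :=
  (phi ι).ker.map (Zhat H p).subtype

theorem Mker_le_Zhat [Fintype (ZMod p)] (ι : Multiplicative (ZMod p) →* Subgroup.center H) :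
    Mker ι ≤ Zhat H p := by
  rintro _ ⟨t, _, rfl⟩
  exact t.2

theorem mem_Mker [Fintype (ZMod p)] (ι : Multiplicative (ZMod p) →* Subgroup.center H)
    {t : Tw H p} : t ∈ Mker ι ↔ ∃ h : t ∈ Zhat H p, phi ι ⟨t, h⟩ = 1 := by
  constructor
  · rintro ⟨s, hs, rfl⟩
    exact ⟨s.2, hs⟩
  · rintro ⟨h, hs⟩
    exact ⟨⟨t, h⟩, hs, rfl⟩

end Tw

/-- `Good m H`: `H` finite, `Z(H)` cyclic of order `m`, every noncentral element has a
partner with commutator in `Z(H) \ 1`, all primes of `|H|` divide `m`. -/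
structure Good (m : ℕ) (H : Type u) [Group H] : Prop where
  fin : Finite H
  cyc : IsCyclic (Subgroup.center H)
  card_center : Nat.card (Subgroup.center H) = m
  partner : ∀ h : H, h ∉ Subgroup.center H →
    ∃ k : H, h * k * h⁻¹ * k⁻¹ ∈ Subgroup.center H ∧ h * k * h⁻¹ * k⁻¹ ≠ 1
  primes : ∀ q : ℕ, q.Prime → q ∣ Nat.card H → q ∣ m

/-! ## S4840 (Gagola, solvable case): the abstract setting (restored; both hives share this file)

`TLHyp p φ`: the group `Γ` acts (via `φ : Γ →* MulAut N`) faithfully on the finite elementary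
abelian `p`-group `N`, transitively on the non-identity elements, and only `p`-elements fix a
non-identity element. -/

universe v

/-- hypotheses of the abstract theorem -/
structure TLHyp (p : ℕ) {N : Type v} [Group N] {Γ : Type u} [Group Γ]
    (φ : Γ →* MulAut N) : Prop where
  comm : ∀ a b : N, a * b = b * a
  exp : ∀ a : N, a ^ p = 1
  nontriv : Nontrivial N
  inj : Function.Injective φ
  tr : ∀ a b : N, a ≠ 1 → b ≠ 1 → ∃ g : Γ, φ g a = b
  st : ∀ a : N, a ≠ 1 → ∀ g : Γ, φ g a = a → ∃ k : ℕ, g ^ p ^ k = 1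

end Cfsg.Agent.Lib.Helper16.Gag
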