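import Mathlib
import Cfsg.Prelude.Def_Characters
import Cfsg.Prelude.Def_Blocks
import Cfsg.Prelude.Def_Local
import Cfsg.Prelude.Def_Solvable

/-!
# S4472 hive (PSL = "p-solvable linear"): definitions

`lam p n` is the Minkowski–Schur exponent `Σ_i ⌊n / ((p-1) p^i)⌋`; `PowInv r X` says that the
function `X` is invariant under the power maps `g ↦ g ^ m` with `m` prime to the group order and
`m ≡ 1 mod r` (the power-map form of "`X` has its values in `ℚ(ζ_r)`").
-/

set_option autoImplicit false

namespace Cfsg.Agent.Lib.Helper16.PSL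

open Cfsg

/-- The Minkowski–Schur exponent. -/
def lam (p n : ℕ) : ℕ := ∑ i ∈ Finset.range (n + 1), n / ((p - 1) * p ^ i)

/-- `X` is invariant under the power maps `g ↦ g ^ m`, `m` prime to `|L|`, `m ≡ 1 mod r`. -/
def PowInv {L : Type*} [Group L] (r : ℕ) (X : L → ℂ) : Prop :=
  ∀ (g : L) (m : ℕ), m.Coprime (Nat.card L) → m ≡ 1 [MOD r] → X (g ^ m) = X g

end Cfsg.Agent.Lib.Helper16.PSL
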