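import Cfsg.Agent.Lib.Helper14.WeDefs
import Cfsg.Agent.Lib.Helper3.CharOps

/-! # We hive (helper14), leaf WE-IRR `weil_minus_irr` (helper16). -/

set_option autoImplicit false

namespace Cfsg.Agent.Lib.Helper14.We

open Cfsg Cfsg.Agent.Lib.Helper3
open scoped ComplexConjugate

theorem irr_orbits_le {G : Type*} [Group G] {V : Type*} [MulAction G V] [Zero V]
    (htrans : ∀ v w : V, v ≠ 0 → w ≠ 0 → ∃ g : G, g • v = w) (hV : ∃ v : V, v ≠ 0)
    [Fintype (Quotient (MulAction.orbitRel G V))] :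
    Fintype.card (Quotient (MulAction.orbitRel G V)) ≤ 2 := by
  classical
  obtain ⟨v0, hv0⟩ := hV
  let f : Bool → Quotient (MulAction.orbitRel G V) :=
    fun b => if b then Quotient.mk _ 0 else Quotient.mk _ v0
  have hf : Function.Surjective f := by
    intro q
    induction q using Quotient.inductionOn with
    | h v =>
      by_cases hv : v = 0
      · exact ⟨true, by simp [f, hv]⟩
      · refine ⟨false, ?_⟩
        obtain ⟨g, hg⟩ := htrans v v0 hv hv0
        have : f false = Quotient.mk _ v0 := by simp [f]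
        rw [this]
        apply Quotient.sound
        show v0 ∈ MulAction.orbit G v
        exact ⟨g, hg⟩
  calc Fintype.card (Quotient (MulAction.orbitRel G V)) ≤ Fintype.card Bool :=
        Fintype.card_le_of_surjective f hf
    _ = 2 := Fintype.card_bool

theorem irr_sum_sq_ge {ι : Type*} [Fintype ι] (b : ι → ℕ) (i : ι) (hi : b i ≠ 0) :
    1 ≤ ∑ j, b j * b j := by
  have h1 : b i * b i ≤ ∑ j, b j * b j :=
    Finset.single_le_sum (f := fun j => b j * b j) (fun j _ => Nat.zero_le _) (Finset.mem_univ i)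
  have h2 : 1 ≤ b i * b i := Nat.one_le_iff_ne_zero.mpr (Nat.mul_ne_zero hi hi)
  omega

theorem weil_minus_irr {G : Type*} [Group G] [Fintype G] {V : Type*} [Fintype V] [DecidableEq V]
    [MulAction G V] [Zero V] (h0 : ∀ g : G, g • (0 : V) = 0)
    (htrans : ∀ v w : V, v ≠ 0 → w ≠ 0 → ∃ g : G, g • v = w) (hV : ∃ v : V, v ≠ 0)
    (ω ωp ωm : G → ℂ) (hp : IsCharacter G ωp) (hm : IsCharacter G ωm) (hsum : ∀ g, ω g = ωp g + ωm g)
    (hsq : ∀ g, ω g * conj (ω g) = (Fintype.card {v : V // g • v = v} : ℂ))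
    (hp1 : ωp 1 ≠ 0) (hm1 : ωm 1 ≠ 0) : IsIrrCharacter G ωm := by
  classical
  have := Fintype.ofFinite (IrrCharacter G)
  obtain ⟨a, ha, hasum⟩ := IsCharacter.exists_mult hp
  obtain ⟨b, hb, hbsum⟩ := IsCharacter.exists_mult hm
  have hω : ω = ∑ ψ : IrrCharacter G, ((a ψ + b ψ : ℕ) : ℂ) • (ψ : G → ℂ) := by
    have h : ω = ωp + ωm := funext hsum
    rw [h]
    conv_lhs => rw [hasum, hbsum]
    rw [← Finset.sum_add_distrib]
    apply Finset.sum_congr rfl
    intro ψ _
    push_cast
    rw [add_smul]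
  -- norm of ω via multiplicities
  have h1 : classInner ω ω = ((∑ ψ : IrrCharacter G, (a ψ + b ψ) * (a ψ + b ψ) : ℕ) : ℂ) := by
    conv_lhs => rw [hω]
    rw [classInner_sum_sum]
    push_cast
    apply Finset.sum_congr rfl
    intro ψ _
    simp [Complex.conj_natCast]
  -- norm of ω via Burnside
  have h2 : classInner ω ω = (Fintype.card (Quotient (MulAction.orbitRel G V)) : ℂ) := by
    unfold classInner
    simp_rw [hsq]
    rw [← Nat.cast_sum]
    have hB := MulAction.sum_card_fixedBy_eq_card_orbits_mul_card_group G V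
    have hfix : ∀ g : G, Fintype.card {v : V // g • v = v} =
        Fintype.card (MulAction.fixedBy V g) := fun g =>
      Fintype.card_congr (Equiv.subtypeEquivRight (fun v => Iff.rfl))
    simp_rw [hfix]
    rw [hB, Nat.card_eq_fintype_card]
    push_cast
    have hG : (Fintype.card G : ℂ) ≠ 0 := by
      exact_mod_cast Fintype.card_ne_zero
    field_simp
  have hk := irr_orbits_le (G := G) (V := V) htrans hV
  have h3 : ∑ ψ : IrrCharacter G, (a ψ + b ψ) * (a ψ + b ψ) ≤ 2 := by
    have : ((∑ ψ : IrrCharacter G, (a ψ + b ψ) * (a ψ + b ψ) : ℕ) : ℂ) =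
        ((Fintype.card (Quotient (MulAction.orbitRel G V)) : ℕ) : ℂ) := by
      rw [← h1, h2]
    have h4 : ∑ ψ : IrrCharacter G, (a ψ + b ψ) * (a ψ + b ψ) =
        Fintype.card (Quotient (MulAction.orbitRel G V)) := by exact_mod_cast this
    omega
  -- nonzero multiplicities
  have hane : ∃ ψ, a ψ ≠ 0 := by
    by_contra hcon
    push Not at hcon
    apply hp1
    rw [hasum]
    simp [hcon]
  have hbne : ∃ ψ, b ψ ≠ 0 := by
    by_contra hcon
    push Not at hcon
    apply hm1
    rw [hbsum]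
    simp [hcon]
  obtain ⟨ψa, hψa⟩ := hane
  obtain ⟨ψb, hψb⟩ := hbne
  have hA := irr_sum_sq_ge a ψa hψa
  have hB := irr_sum_sq_ge b ψb hψb
  have h5 : ∑ ψ : IrrCharacter G, a ψ * a ψ + ∑ ψ : IrrCharacter G, b ψ * b ψ ≤
      ∑ ψ : IrrCharacter G, (a ψ + b ψ) * (a ψ + b ψ) := by
    rw [← Finset.sum_add_distrib]
    apply Finset.sum_le_sum
    intro ψ _
    nlinarith [Nat.zero_le (a ψ * b ψ)]
  have h6 : ∑ ψ : IrrCharacter G, b ψ * b ψ = 1 := by omega
  apply isIrrCharacter_of_classInner_self_eq_one hm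
  conv_lhs => rw [hbsum]
  rw [classInner_sum_sum]
  have : ((∑ ψ : IrrCharacter G, b ψ * b ψ : ℕ) : ℂ) = 1 := by rw [h6]; simp
  rw [← this]
  push_cast
  apply Finset.sum_congr rfl
  intro ψ _
  simp [Complex.conj_natCast]

end Cfsg.Agent.Lib.Helper14.We
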