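import Cfsg.Prelude.Def_Blocks
import Cfsg.Agent.Lib.Helper3.Complete
import Cfsg.Agent.Lib.Helper77.IndPart
import Cfsg.Agent.Lib.Helper77.InducedBlock2
import Cfsg.Agent.Lib.Helper16.RegularDet

set_option autoImplicit false

namespace Cfsg.Agent.Lib.Helper16

open Cfsg Cfsg.Agent.Lib.Helper77 Cfsg.Agent.Lib.Helper81 Cfsg.Agent.Lib.Helper3

universe u

variable {G : Type u} [Group G] [Fintype G] [Fintype (IrrCharacter G)]

/-- If the parts of a class function `ϑ` in all blocks other than `B₀` vanish at `y`,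
then `ϑ y` equals the `B₀`-part of `ϑ` at `y`. -/
theorem eq_blockPart_of_others_vanish {M : Ideal AlgInt} (hM : M.IsPrime)
    {ϑ : G → ℂ} (hϑ : IsClassFunction G ϑ) (B₀ : Set (IrrCharacter G)) (hB₀ : IsPBlock M B₀)
    (y : G)
    (hvan : ∀ ψ₁ : IrrCharacter G, ψ₁ ∉ B₀ → blockPart (blockOf M (ψ₁ : G → ℂ)) ϑ y = 0) :
    ϑ y = blockPart B₀ ϑ y := by
  classical
  have h1 : ϑ y = ∑ ψ : IrrCharacter G, classInner ϑ (ψ : G → ℂ) * (ψ : G → ℂ) y := by
    conv_lhs => rw [classFunction_eq_sum hϑ]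
    rw [Finset.sum_apply]
    refine Finset.sum_congr rfl fun ψ _ => ?_
    simp [Pi.smul_apply, smul_eq_mul]
  rw [h1, ← Finset.sum_filter_add_sum_filter_not Finset.univ (fun ψ : IrrCharacter G => ψ ∈ B₀),
    ← blockPart_eq_sum]
  rw [add_eq_left]
  rw [← Finset.sum_fiberwise_of_maps_to (g := fun ψ : IrrCharacter G => blockOf M (ψ : G → ℂ))
    (t := (Finset.univ.filter (fun ψ : IrrCharacter G => ¬ ψ ∈ B₀)).image
      (fun ψ : IrrCharacter G => blockOf M (ψ : G → ℂ)))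
    (fun x hx => Finset.mem_image_of_mem _ hx)]
  refine Finset.sum_eq_zero fun b hb => ?_
  obtain ⟨ψ₁, hψ₁, rfl⟩ := Finset.mem_image.mp hb
  rw [Finset.mem_filter] at hψ₁
  rw [← hvan ψ₁ hψ₁.2, blockPart_eq_sum]
  refine Finset.sum_congr ?_ fun _ _ => rfl
  ext ψ
  simp only [Finset.mem_filter, Finset.mem_univ, true_and]
  constructor
  · rintro ⟨_, h2⟩
    rw [← h2]
    exact sameBlock_refl hM _
  · intro h2
    have h3 := blockOf_eq_of_mem hM h2
    refine ⟨fun h4 => hψ₁.2 ?_, h3⟩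
    have h5 := eq_blockOf_of_mem hM hB₀ h4
    rw [h5, h3]
    exact sameBlock_refl hM _

end Cfsg.Agent.Lib.Helper16
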