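import Cfsg.Agent.Lib.Helper32.Rank2Ker
import Cfsg.Agent.Lib.Helper2.PGroup

/-!
# A `p'`-element acting trivially on `D / D'` centralizes the normal `p`-subgroup `D` (helper16)
-/

set_option autoImplicit false

namespace Cfsg.Agent.Lib.Helper16

open Cfsg.Agent.Lib.Helper32.Rank2

universe u

theorem centralizes_of_commutator_mem {G : Type u} [Group G] [Finite G] (p : ℕ) [Fact p.Prime]
    (D : Subgroup G) [hDn : D.Normal] (hD : IsPGroup p D) (g : G) (hg : ¬ p ∣ orderOf g)
    (h : ∀ d ∈ D, g * d * g⁻¹ * d⁻¹ ∈ ⁅D, D⁆) : ∀ d ∈ D, d * g = g * d := by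
  have hp : p.Prime := Fact.out
  set z : MulAut D := MulAut.conjNormal g with hz
  have hzx : ∀ x : D, z x * x⁻¹ ∈ frattini D := by
    intro x
    apply Cfsg.Agent.Lib.Helper2.commutator_le_frattini hD
    have h1 := h x x.2
    rw [← Subgroup.map_subtype_commutator] at h1
    obtain ⟨c, hc, hcx⟩ := h1
    have : c = z x * x⁻¹ := by
      apply Subtype.ext
      have h2 : ((z x * x⁻¹ : D) : G) = g * (x : G) * g⁻¹ * (x : G)⁻¹ := by
        rw [Subgroup.coe_mul, Subgroup.coe_inv, hz, MulAut.conjNormal_apply]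
      rw [h2, ← hcx]
      rfl
    rw [← this]
    exact hc
  have hq : autQuot (frattini D) z = 1 := by
    apply MulEquiv.ext
    intro q
    induction q using QuotientGroup.induction_on with
    | H x =>
      rw [autQuot_mk, MulAut.one_apply, ← mul_inv_eq_one, ← QuotientGroup.mk_inv,
        ← QuotientGroup.mk_mul, QuotientGroup.eq_one_iff]
      exact hzx x
  obtain ⟨k, hk⟩ := pKer_autQuot_frattini hD z hq
  have hk2 : z ^ orderOf g = 1 := by
    rw [hz, ← map_pow, pow_orderOf_eq_one, map_one]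
  have hcop : Nat.Coprime (orderOf g) (p ^ k) :=
    (Nat.Coprime.pow_left k ((Nat.Prime.coprime_iff_not_dvd hp).mpr hg)).symm
  have hz1 : z = 1 := by
    have h5 : orderOf z ∣ orderOf g := orderOf_dvd_of_pow_eq_one hk2
    have h6 : orderOf z ∣ p ^ k := orderOf_dvd_of_pow_eq_one hk
    exact orderOf_eq_one_iff.mp (Nat.eq_one_of_dvd_coprimes hcop h5 h6)
  intro d hd
  have h7 : z ⟨d, hd⟩ = ⟨d, hd⟩ := by rw [hz1]; rfl
  have h8 : g * d * g⁻¹ = d := by
    have := congrArg Subtype.val h7
    simpa [hz, MulAut.conjNormal_apply] using this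
  calc d * g = (g * d * g⁻¹) * g := by rw [h8]
    _ = g * d := by group

end Cfsg.Agent.Lib.Helper16
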