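import Cfsg.Agent.S0941
import Cfsg.Agent.Lib.Helper77.Nilpotent
import Cfsg.Agent.Lib.Helper16.CoprimeFrattini

/-!
# Blocks of `G ⧸ N` versus blocks of `G`, `N` a normal `p`-subgroup (helper16)

General criterion: if the central characters of `G ⧸ N` vanish modulo the local ideal at the
images of the `p`-regular elements not centralizing `N`, inflation is a bijection on blocks.
-/

set_option autoImplicit false

namespace Cfsg.Agent.Lib.Helper16

open Cfsg Cfsg.Agent.Lib.Helper77 Cfsg.Agent.Lib.Helper80 Cfsg.Agent.Lib.Helper81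
open scoped ComplexConjugate

universe u

/-- Every block contains a character with a given normal `p`-subgroup in its kernel. -/
theorem exists_ker_normal_pSubgroup {G : Type u} [Group G] [Finite G] (p : ℕ) [Fact p.Prime]
    (M : Ideal AlgInt) (hM : IsPModular p M) (N : Subgroup G) [N.Normal] (hN : IsPGroup p N)
    (B : Set (IrrCharacter G)) (hB : IsPBlock M B) :
    ∃ ξ ∈ B, ∀ u ∈ N, (ξ : G → ℂ) u = (ξ : G → ℂ) 1 := by
  classical
  have := Fintype.ofFinite G
  have hMp : M.IsPrime := isPrime_of_isPModular hM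
  obtain ⟨ξ₀, rfl⟩ := hB
  obtain ⟨y, hy⟩ := exists_isDefectClass hM ξ₀
  have hyreg := isPRegular_of_isDefectClass p M hM ⟨ξ₀, rfl⟩ hy
  have hne : blockCoeff (blockOf M (ξ₀ : G → ℂ)) y ≠ 0 := by
    intro h0
    apply hy.2.1
    rw [h0]
    exact memLocalIdeal_zero hMp
  have hyc : y ∈ Subgroup.centralizer (N : Set G) := by
    by_contra hcon
    exact hy.2.2 ξ₀ (self_mem_blockOf hMp ξ₀)
      (memLocalIdeal_centralChar_of_not_mem_centralizer hM N hN hcon ξ₀.2)
  have hcomm : ∀ u ∈ N, u * y = y * u := by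
    intro u hu
    exact (Subgroup.mem_centralizer_iff.1 hyc u hu)
  exact Cfsg.Agent.S0941.exists_ker_of_blockCoeff_ne_zero p M hM N hN ξ₀ y hyreg hcomm hne

theorem blocks_quotient_aux {G : Type u} [Group G] [Finite G] (p : ℕ) [Fact p.Prime]
    (M : Ideal AlgInt) (hM : IsPModular p M) (N : Subgroup G) [N.Normal] (hN : IsPGroup p N)
    (hkey : ∀ g : G, ¬ p ∣ orderOf g → (¬ ∀ u ∈ N, u * g = g * u) →
      ∀ χ : IrrCharacter (G ⧸ N), MemLocalIdeal M (centralChar (χ : G ⧸ N → ℂ) (g : G ⧸ N))) :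
    (∀ χ ψ : IrrCharacter (G ⧸ N), SameBlock M (χ : G ⧸ N → ℂ) (ψ : G ⧸ N → ℂ) ↔
      SameBlock M ((χ : G ⧸ N → ℂ) ∘ QuotientGroup.mk) ((ψ : G ⧸ N → ℂ) ∘ QuotientGroup.mk)) ∧
    ∀ B : Set (IrrCharacter G), IsPBlock M B → ∃ χ : IrrCharacter (G ⧸ N), ∃ θ ∈ B,
      (θ : G → ℂ) = (χ : G ⧸ N → ℂ) ∘ QuotientGroup.mk := by
  classical
  have := Fintype.ofFinite G
  have := Fintype.ofFinite (G ⧸ N)
  have hMp : M.IsPrime := isPrime_of_isPModular hM
  have hp : p.Prime := Fact.out
  constructor
  · intro χ ψ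
    constructor
    · intro h g
      obtain ⟨m, hm⟩ : (Subgroup.centralizer ({(g : G ⧸ N)} : Set (G ⧸ N))).index ∣
          (Subgroup.centralizer ({g} : Set G)).index := by
        have h1 : (Subgroup.centralizer ({g} : Set G)).map (QuotientGroup.mk' N) ≤
            Subgroup.centralizer ({(g : G ⧸ N)} : Set (G ⧸ N)) := by
          rintro _ ⟨c, hc, rfl⟩
          rw [SetLike.mem_coe] at hc
          rw [Subgroup.mem_centralizer_iff] at hc ⊢
          intro v hv
          rw [Set.mem_singleton_iff] at hv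
          subst hv
          have := congrArg (QuotientGroup.mk' N) (hc g rfl)
          simpa using this
        exact dvd_trans (Subgroup.index_dvd_of_le h1)
          (Subgroup.index_map_dvd _ (QuotientGroup.mk'_surjective N))
      have e : centralChar ((χ : G ⧸ N → ℂ) ∘ QuotientGroup.mk) g -
          centralChar ((ψ : G ⧸ N → ℂ) ∘ QuotientGroup.mk) g =
          (m : ℂ) * (centralChar (χ : G ⧸ N → ℂ) (g : G ⧸ N) -
            centralChar (ψ : G ⧸ N → ℂ) (g : G ⧸ N)) := by
        unfold centralChar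
        simp only [Function.comp_apply, QuotientGroup.mk_one]
        rw [hm]
        push_cast
        ring
      rw [e]
      exact memLocalIdeal_mul_left hMp (memLocalRing_natCast hMp m) (h (g : G ⧸ N))
    · intro h
      apply sameBlock_of_regular hM
      intro x hx
      obtain ⟨g, rfl, hg⟩ := Cfsg.Agent.S0941.exists_regular_lift p N x hx
      by_cases hc : ∀ u ∈ N, u * g = g * u
      · have hidx := Cfsg.Agent.S0941.index_centralizer_quotient p N hN g hg hc
        have h1 := h g
        have e : centralChar ((χ : G ⧸ N → ℂ) ∘ QuotientGroup.mk) g -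
            centralChar ((ψ : G ⧸ N → ℂ) ∘ QuotientGroup.mk) g =
            centralChar (χ : G ⧸ N → ℂ) (g : G ⧸ N) -
              centralChar (ψ : G ⧸ N → ℂ) (g : G ⧸ N) := by
          unfold centralChar
          simp only [Function.comp_apply, QuotientGroup.mk_one]
          rw [hidx]
        rw [← e]
        exact h1
      · exact memLocalIdeal_sub hMp (hkey g hg hc χ) (hkey g hg hc ψ)
  · intro B hB
    obtain ⟨ξ, hξB, hξker⟩ := exists_ker_normal_pSubgroup p M hM N hN B hB
    obtain ⟨ξ', hξ'irr, hξ'val⟩ := Cfsg.Agent.Lib.Helper79.isIrrCharacter_deflate ξ.2 N hξker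
    refine ⟨⟨ξ', hξ'irr⟩, ξ, hξB, ?_⟩
    funext g
    exact (hξ'val g).symm

end Cfsg.Agent.Lib.Helper16
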