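import Cfsg.Agent.Lib.Helper16.ChainCancel2

/-!
# The sign-reversing involution on chains stabilised by a `p`-element
-/

set_option autoImplicit false

namespace Cfsg.Agent.Lib.Helper16

open Subgroup

section ChainInvolution

variable {G : Type*} [Group G]

variable {p : ℕ} {u : G} {s : Finset (Subgroup G)}

/-- Elements of the chain stabilizer centralizing `u` normalize the toggled subgroup. -/
theorem mem_normalizer_chR (hs : s ∈ chSet p u) {g : G} (hg : g ∈ chStab s)
    (hgu : g ∈ Subgroup.centralizer ({u} : Set G)) :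
    g ∈ Subgroup.normalizer ((chR u s : Subgroup G) : Set G) := by
  have hcomm : g * u = u * g := Subgroup.mem_centralizer_singleton_iff.mp hgu
  have hconj : g * u * g⁻¹ = u := by rw [hcomm, mul_inv_cancel_right]
  have hconj' : g⁻¹ * u * g = u := by
    rw [mul_assoc, ← hcomm, ← mul_assoc, inv_mul_cancel, one_mul]
  -- g normalizes the top
  have hT : g ∈ Subgroup.normalizer ((s.sup id : Subgroup G) : Set G) := by
    rcases sup_eq_bot_or_mem hs.1.1 with h | h
    · rw [h, normalizer_bot_eq_top]; exact Subgroup.mem_top g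
    · exact mem_chStab.mp hg _ h
  have hU : g ∈ Subgroup.normalizer ((Subgroup.zpowers u : Subgroup G) : Set G) := by
    rw [Subgroup.mem_normalizer_iff_map_conj_eq, MonoidHom.map_zpowers]
    congr 1
  have hV : g ∈ Subgroup.normalizer ((chV u s : Subgroup G) : Set G) := mem_normalizer_sup hT hU
  have hL : g ∈ Subgroup.normalizer ((chL u s : Subgroup G) : Set G) := by
    rcases chL_eq_bot_or_mem (u := u) hs.1.1 with h | h
    · rw [h, normalizer_bot_eq_top]; exact Subgroup.mem_top g
    · exact mem_chStab.mp hg _ h
  have hW : g ∈ Subgroup.normalizer ((chW u s : Subgroup G) : Set G) := by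
    unfold chW
    apply Subgroup.normalizer_le_normalizer_closure
    rw [Subgroup.mem_set_normalizer_iff]
    intro h
    constructor
    · rintro ⟨t, ht, rfl⟩
      refine ⟨g * t * g⁻¹, (hV t).mp ht, ?_⟩
      show g * t * g⁻¹ * u * (g * t * g⁻¹)⁻¹ = g * (t * u * t⁻¹) * g⁻¹
      conv_lhs => rw [← hconj]
      group
    · rintro ⟨t, ht, hte⟩
      refine ⟨g⁻¹ * t * g, ?_, ?_⟩
      · have := (hV (g⁻¹ * t * g)).mpr
        apply this
        have e : g * (g⁻¹ * t * g) * g⁻¹ = t := by group
        rw [e]; exact ht
      · have hte' : t * u * t⁻¹ = g * h * g⁻¹ := hte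
        have e : h = g⁻¹ * (t * u * t⁻¹) * g := by
          rw [hte']; group
        rw [e]
        show g⁻¹ * t * g * u * (g⁻¹ * t * g)⁻¹ = g⁻¹ * (t * u * t⁻¹) * g
        conv_lhs => rw [← hconj']
        group
  exact mem_normalizer_sup hL hW

open Classical in
theorem chL_insert {R : Subgroup G} (hR : u ∈ R) : chL u (insert R s) = chL u s := by
  unfold chL
  rw [Finset.filter_insert, if_neg (fun h => h hR)]

open Classical in
theorem chL_erase {R : Subgroup G} (hR : u ∈ R) : chL u (s.erase R) = chL u s := by
  unfold chL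
  congr 1
  ext Q
  simp only [Finset.mem_filter, Finset.mem_erase]
  constructor
  · rintro ⟨⟨_, h1⟩, h2⟩; exact ⟨h1, h2⟩
  · rintro ⟨h1, h2⟩
    refine ⟨⟨?_, h1⟩, h2⟩
    rintro rfl
    exact h2 hR

open Classical in
/-- Inserting the toggled subgroup keeps the chain in `chSet`. -/
theorem insert_chR_mem (hs : s ∈ chSet p u) (hu : IsPGroup p (Subgroup.zpowers u)) (hu1 : u ≠ 1) :
    insert (chR u s) s ∈ chSet p u := by
  have hsupV : (insert (chR u s) s).sup id ≤ chV u s := by
    rw [Finset.sup_insert]
    exact sup_le chR_le_chV top_le_chV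
  refine ⟨⟨?_, ?_, ?_⟩, ?_⟩
  · intro Q hQ R hR
    rcases Finset.mem_insert.mp hQ with rfl | hQ
    · rcases Finset.mem_insert.mp hR with rfl | hR
      · exact Or.inl le_rfl
      · exact (chR_comparable hs hR).symm
    · rcases Finset.mem_insert.mp hR with rfl | hR
      · exact chR_comparable hs hQ
      · exact hs.1.1 Q hQ R hR
  · intro Q hQ
    rcases Finset.mem_insert.mp hQ with rfl | hQ
    · exact ⟨chR_ne_bot hu1, chR_isPGroup hs hu⟩
    · exact hs.1.2.1 Q hQ
  · intro Q hQ
    apply hsupV.trans
    rcases Finset.mem_insert.mp hQ with rfl | hQ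
    · exact chV_le_normalizer_chR hs
    · exact chV_le_normalizer_of_mem hs hQ
  · rw [chStab_insert]
    exact ⟨chV_le_normalizer_chR hs u_mem_chV, hs.2⟩

open Classical in
theorem chV_insert_chR : chV u (insert (chR u s) s) = chV u s := by
  unfold chV
  rw [Finset.sup_insert]
  apply le_antisymm
  · apply sup_le _ le_sup_right
    exact sup_le chR_le_chV le_sup_left
  · exact sup_le_sup_right le_sup_right _

open Classical in
theorem chR_insert_chR : chR u (insert (chR u s) s) = chR u s := by
  have h1 : chL u (insert (chR u s) s) = chL u s := chL_insert u_mem_chR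
  have h2 : chW u (insert (chR u s) s) = chW u s := by
    unfold chW
    rw [chV_insert_chR]
  unfold chR at h1 h2 ⊢
  rw [h1, h2]

open Classical in
/-- Erasing the toggled subgroup keeps the chain in `chSet`. -/
theorem erase_chR_mem (hs : s ∈ chSet p u) : s.erase (chR u s) ∈ chSet p u := by
  have hsub : s.erase (chR u s) ⊆ s := Finset.erase_subset _ _
  refine ⟨⟨?_, ?_, ?_⟩, chStab_anti hsub hs.2⟩
  · intro Q hQ R hR
    exact hs.1.1 Q (hsub hQ) R (hsub hR)
  · intro Q hQ
    exact hs.1.2.1 Q (hsub hQ)
  · intro Q hQ
    exact (Finset.sup_mono hsub).trans (hs.1.2.2 Q (hsub hQ))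

open Classical in
theorem chV_erase_chR [Finite G] [Fact p.Prime] (hs : s ∈ chSet p u)
    (hu : IsPGroup p (Subgroup.zpowers u)) (hR : chR u s ∈ s) :
    chV u (s.erase (chR u s)) = chV u s := by
  have hsub : s.erase (chR u s) ⊆ s := Finset.erase_subset _ _
  apply le_antisymm
  · exact sup_le_sup_right (Finset.sup_mono hsub) _
  · apply sup_le _ le_sup_right
    have hTs : s.sup id ∈ s := sup_mem_of_total ⟨_, hR⟩ hs.1.1
    by_cases hTR : s.sup id = chR u s
    · -- Frattini argument
      have huT : u ∈ s.sup id := by rw [hTR]; exact u_mem_chR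
      have hVT : chV u s = s.sup id := by
        unfold chV
        rw [sup_eq_left, Subgroup.zpowers_le]
        exact huT
      have hLle : chL u s ≤ (s.erase (chR u s)).sup id := by
        unfold chL
        apply Finset.sup_mono
        intro Q hQ
        obtain ⟨hQs, hQu⟩ := Finset.mem_filter.mp hQ
        refine Finset.mem_erase.mpr ⟨?_, hQs⟩
        rintro rfl
        exact hQu u_mem_chR
      have hY : chL u s ⊔ Subgroup.zpowers u ≤ s.sup id :=
        sup_le chL_le_top (by rw [Subgroup.zpowers_le]; exact huT)
      have hgen : s.sup id ≤ (chL u s ⊔ Subgroup.zpowers u) ⊔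
          Subgroup.closure ((fun t : G => t * u * t⁻¹) '' ((s.sup id : Subgroup G) : Set G)) := by
        have h1 : s.sup id = chL u s ⊔ chW u s := hTR
        have h2 : chW u s =
            Subgroup.closure ((fun t : G => t * u * t⁻¹) '' ((s.sup id : Subgroup G) : Set G)) := by
          unfold chW
          rw [hVT]
        rw [← h2]
        conv_lhs => rw [h1]
        exact sup_le_sup_right le_sup_left _
      have hfr := le_of_le_sup_conj_closure (top_isPGroup hs) hY
        ((le_sup_right : Subgroup.zpowers u ≤ chL u s ⊔ Subgroup.zpowers u)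
          (Subgroup.mem_zpowers u)) hgen
      exact hfr.trans (sup_le_sup_right hLle _)
    · have : s.sup id ∈ s.erase (chR u s) := Finset.mem_erase.mpr ⟨hTR, hTs⟩
      exact (Finset.le_sup (f := id) this).trans le_sup_left

open Classical in
theorem chR_erase_chR [Finite G] [Fact p.Prime] (hs : s ∈ chSet p u)
    (hu : IsPGroup p (Subgroup.zpowers u)) (hR : chR u s ∈ s) :
    chR u (s.erase (chR u s)) = chR u s := by
  have h1 : chL u (s.erase (chR u s)) = chL u s := chL_erase u_mem_chR
  have h2 : chW u (s.erase (chR u s)) = chW u s := by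
    unfold chW
    rw [chV_erase_chR hs hu hR]
  unfold chR at h1 h2 ⊢
  rw [h1, h2]

open Classical in
/-- The toggling involution. -/
noncomputable def chTau (u : G) (s : Finset (Subgroup G)) : Finset (Subgroup G) :=
  if chR u s ∈ s then s.erase (chR u s) else insert (chR u s) s

open Classical in
theorem chTau_of_mem {t : Finset (Subgroup G)} (h : chR u t ∈ t) :
    chTau u t = t.erase (chR u t) := by
  unfold chTau; rw [if_pos h]

open Classical in
theorem chTau_of_notMem {t : Finset (Subgroup G)} (h : chR u t ∉ t) :
    chTau u t = insert (chR u t) t := by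
  unfold chTau; rw [if_neg h]

open Classical in
theorem chTau_mem (hs : s ∈ chSet p u) (hu : IsPGroup p (Subgroup.zpowers u)) (hu1 : u ≠ 1) :
    chTau u s ∈ chSet p u := by
  unfold chTau
  split_ifs with h
  · exact erase_chR_mem hs
  · exact insert_chR_mem hs hu hu1

variable [Finite G] [Fact p.Prime]

open Classical in
theorem chR_chTau (hs : s ∈ chSet p u) (hu : IsPGroup p (Subgroup.zpowers u)) :
    chR u (chTau u s) = chR u s := by
  unfold chTau
  split_ifs with h
  · exact chR_erase_chR hs hu h
  · exact chR_insert_chR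

open Classical in
theorem chTau_chTau (hs : s ∈ chSet p u) (hu : IsPGroup p (Subgroup.zpowers u)) :
    chTau u (chTau u s) = s := by
  have hR := chR_chTau hs hu
  by_cases h : chR u s ∈ s
  · have h1 : chTau u s = s.erase (chR u s) := chTau_of_mem h
    have h2 : chR u s ∉ chTau u s := by rw [h1]; exact Finset.notMem_erase _ _
    have h3 : chTau u (chTau u s) = insert (chR u (chTau u s)) (chTau u s) :=
      chTau_of_notMem (by rw [hR]; exact h2)
    rw [h3, hR, h1, Finset.insert_erase h]
  · have h1 : chTau u s = insert (chR u s) s := chTau_of_notMem h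
    have h2 : chR u s ∈ chTau u s := by rw [h1]; exact Finset.mem_insert_self _ _
    have h3 : chTau u (chTau u s) = (chTau u s).erase (chR u (chTau u s)) :=
      chTau_of_mem (by rw [hR]; exact h2)
    rw [h3, hR, h1, Finset.erase_insert h]

open Classical in
theorem neg_one_pow_card_chTau (s : Finset (Subgroup G)) :
    (-1 : ℂ) ^ (chTau u s).card = - (-1 : ℂ) ^ s.card := by
  unfold chTau
  split_ifs with h
  · have h1 : s.card = (s.erase (chR u s)).card + 1 := (Finset.card_erase_add_one h).symm
    rw [h1, pow_succ]
    ring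
  · rw [Finset.card_insert_of_notMem h, pow_succ]
    ring

open Classical in
theorem chStab_chTau_inf (hs : s ∈ chSet p u) (hu : IsPGroup p (Subgroup.zpowers u))
    (hu1 : u ≠ 1) :
    chStab (chTau u s) ⊓ Subgroup.centralizer ({u} : Set G) =
      chStab s ⊓ Subgroup.centralizer ({u} : Set G) := by
  have key : ∀ t : Finset (Subgroup G), t ∈ chSet p u →
      chStab (insert (chR u t) t) ⊓ Subgroup.centralizer ({u} : Set G) =
        chStab t ⊓ Subgroup.centralizer ({u} : Set G) := by
    intro t ht
    rw [chStab_insert]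
    apply le_antisymm
    · exact inf_le_inf_right _ inf_le_right
    · intro g hg
      exact ⟨⟨mem_normalizer_chR ht hg.1 hg.2, hg.1⟩, hg.2⟩
  by_cases h : chR u s ∈ s
  · have h1 : chTau u s = s.erase (chR u s) := by unfold chTau; rw [if_pos h]
    have h2 := key (s.erase (chR u s)) (erase_chR_mem hs)
    rw [chR_erase_chR hs hu h, Finset.insert_erase h] at h2
    rw [h1, h2]
  · have h1 : chTau u s = insert (chR u s) s := by unfold chTau; rw [if_neg h]
    rw [h1, key s hs]

open Classical in
/-- **Cancellation.** The alternating sum over the chains stabilised by a nontrivial `p`-element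
`u` (the empty chain included) of any function of `N_G(s) ∩ C_G(u)` vanishes. -/
theorem chain_cancel [Fintype (Subgroup G)] (hu : IsPGroup p (Subgroup.zpowers u)) (hu1 : u ≠ 1)
    (F : Subgroup G → ℂ) :
    ∑ s ∈ Finset.univ.filter (fun s : Finset (Subgroup G) => s ∈ chSet p u),
      (-1 : ℂ) ^ s.card * F (chStab s ⊓ Subgroup.centralizer ({u} : Set G)) = 0 := by
  apply Finset.sum_involution (fun s _ => chTau u s)
  · intro s hs
    have hs' : s ∈ chSet p u := (Finset.mem_filter.mp hs).2
    rw [neg_one_pow_card_chTau, chStab_chTau_inf hs' hu hu1]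
    ring
  · intro s hs _ heq
    have h1 := neg_one_pow_card_chTau (u := u) s
    rw [heq] at h1
    have h2 : ((-1 : ℂ) ^ s.card) ≠ 0 := pow_ne_zero _ (by norm_num)
    apply h2
    linear_combination (1/2 : ℂ) * h1
  · intro s hs
    have hs' : s ∈ chSet p u := (Finset.mem_filter.mp hs).2
    exact Finset.mem_filter.mpr ⟨Finset.mem_univ _, chTau_mem hs' hu hu1⟩
  · intro s hs
    exact chTau_chTau (Finset.mem_filter.mp hs).2 hu

end ChainInvolution

end Cfsg.Agent.Lib.Helper16
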