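import Cfsg.Agent.Lib.Helper16.ChainLocal
import Cfsg.Agent.Lib.Helper16.ChainCancel3

/-!
# The alternating sum over normal chains of `k - l`
-/

set_option autoImplicit false

namespace Cfsg.Agent.Lib.Helper16

open Cfsg Cfsg.Agent.Lib.Helper77 Cfsg.Agent.Lib.Helper75 Cfsg.Agent.Lib.Helper81
open scoped ComplexConjugate

universe u

section ChainAssembly

variable {G : Type u} [Group G] [Finite G]

/-- The nonempty normal chains of nontrivial `p`-subgroups. -/
def normalChains (p : ℕ) (G : Type u) [Group G] : Set (Finset (Subgroup G)) :=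
  {s : Finset (Subgroup G) | s.Nonempty ∧ (∀ Q ∈ s, ∀ R ∈ s, Q ≤ R ∨ R ≤ Q) ∧
    (∀ Q ∈ s, Q ≠ ⊥ ∧ IsPGroup p Q) ∧
    ∃ T ∈ s, ∀ Q ∈ s, Q ≤ T ∧ T ≤ Subgroup.normalizer ((Q : Subgroup G) : Set G)}

omit [Finite G] in
theorem mem_chSet_iff {p : ℕ} {u : G} (s : Finset (Subgroup G)) :
    s ∈ chSet p u ↔ s = ∅ ∨ (s ∈ normalChains p G ∧ u ∈ chStab s) := by
  rcases s.eq_empty_or_nonempty with h | h
  · subst h
    constructor
    · intro _; exact Or.inl rfl
    · intro _
      refine ⟨isNCh_empty p, ?_⟩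
      rw [chStab_empty]
      exact Subgroup.mem_top u
  · constructor
    · rintro ⟨h1, h2⟩
      right
      exact ⟨⟨h, (isNCh_iff_of_nonempty h).mp h1⟩, h2⟩
    · rintro (h0 | ⟨h1, h2⟩)
      · exact absurd h0 h.ne_empty
      · exact ⟨(isNCh_iff_of_nonempty h).mpr h1.2, h2⟩

open Classical in
/-- The per-element cancellation. -/
theorem section_cancel [Fintype (Subgroup G)] {p : ℕ} [Fact p.Prime] (u : G)
    (hu : IsPGroup p (Subgroup.zpowers u)) (hu1 : u ≠ 1) (F : Subgroup G → ℂ) :
    F (Subgroup.centralizer ({u} : Set G)) =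
      ∑ s ∈ (Finset.univ.filter (fun s : Finset (Subgroup G) => s ∈ normalChains p G)).filter
          (fun s => u ∈ chStab s),
        - ((-1 : ℂ) ^ s.card * F (chStab s ⊓ Subgroup.centralizer ({u} : Set G))) := by
  have hc := chain_cancel hu hu1 F
  have hsplit : Finset.univ.filter (fun s : Finset (Subgroup G) => s ∈ chSet p u) =
      insert ∅ ((Finset.univ.filter (fun s : Finset (Subgroup G) => s ∈ normalChains p G)).filter
          (fun s => u ∈ chStab s)) := by
    ext s
    simp only [Finset.mem_filter, Finset.mem_univ, true_and, Finset.mem_insert]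
    exact mem_chSet_iff s
  have hnot : (∅ : Finset (Subgroup G)) ∉
      (Finset.univ.filter (fun s : Finset (Subgroup G) => s ∈ normalChains p G)).filter
          (fun s => u ∈ chStab s) := by
    intro h
    rw [Finset.mem_filter, Finset.mem_filter] at h
    exact Finset.not_nonempty_empty h.1.2.1
  rw [hsplit, Finset.sum_insert hnot, Finset.card_empty, pow_zero, one_mul, chStab_empty,
    top_inf_eq] at hc
  rw [Finset.sum_neg_distrib]
  linear_combination hc

open Classical in
/-- **Alternating sum over normal chains** of `k - l` (Knörr–Robinson form). -/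
theorem chain_alternating_sum (p : ℕ) [Fact p.Prime] (M : Ideal AlgInt) (hM : IsPModular p M)
    (b : Set (IrrCharacter G)) (hb : IsPBlock M b) :
    (Nat.card G : ℤ) * ((Nat.card b : ℤ) - (blockRank p b : ℤ)) =
      ∑ᶠ s ∈ normalChains p G, (-1 : ℤ) ^ (s.card - 1) * (Nat.card (chStab s) : ℤ) *
        ((Nat.card (indUnion M (chStab s) b) : ℤ) -
          (blockRank p (indUnion M (chStab s) b) : ℤ)) := by
  have hp : p.Prime := Fact.out
  have := Fintype.ofFinite G
  have := Fintype.ofFinite (Subgroup G)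
  obtain ⟨K₀, r, N, hcard, hpr, hrN, hN1⟩ := exists_ppart_exponent G p hp
  rw [finsum_mem_eq_sum_filter_univ]
  apply Int.cast_injective (α := ℂ)
  push_cast
  rw [global_section_formula hM hb hcard hpr hrN hN1]
  have hR : ∀ s ∈ Finset.univ.filter (fun s : Finset (Subgroup G) => s ∈ normalChains p G),
      (-1 : ℂ) ^ (s.card - 1) * (Nat.card (chStab s) : ℂ) *
        ((Nat.card (indUnion M (chStab s) b) : ℂ) -
          (blockRank p (indUnion M (chStab s) b) : ℂ)) =
      ∑ g : G, (-1 : ℂ) ^ (s.card - 1) * (if g ∈ chStab s ∧ p ∣ orderOf g then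
        secPsi M b (chStab s ⊓ Subgroup.centralizer ({g ^ N} : Set G)) ((g ^ N)⁻¹ * g)
          else 0) := by
    intro s _
    rw [mul_assoc, local_section_formula hM b (chStab s) hcard hpr hrN hN1, Finset.mul_sum]
  rw [Finset.sum_congr rfl hR, Finset.sum_comm]
  apply Finset.sum_congr rfl
  intro g _
  by_cases hg : p ∣ orderOf g
  · rw [if_pos hg]
    obtain ⟨y, hxy, hcomm, ⟨k, hk⟩, hy⟩ := isPPart_pow hp hcard hpr hrN hN1 g
    have hy_eq : y = (g ^ N)⁻¹ * g := by
      calc y = (g ^ N)⁻¹ * (g ^ N * y) := (inv_mul_cancel_left _ _).symm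
        _ = (g ^ N)⁻¹ * g := by rw [hxy]
    rw [← hy_eq]
    have hu : IsPGroup p (Subgroup.zpowers (g ^ N)) := by
      apply IsPGroup.of_card (n := k)
      rw [Nat.card_zpowers, hk]
    have hu1 : g ^ N ≠ 1 := by
      intro h1
      rw [h1, one_mul] at hxy
      rw [hxy] at hy
      exact hy hg
    rw [section_cancel (g ^ N) hu hu1 (fun K => secPsi M b K y), Finset.sum_filter]
    apply Finset.sum_congr rfl
    intro s hs
    have hsne : s.Nonempty := (Finset.mem_filter.mp hs).2.1
    have hcardpos : s.card - 1 + 1 = s.card :=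
      Nat.sub_add_cancel (Finset.card_pos.mpr hsne)
    have hsign : (-1 : ℂ) ^ s.card = - (-1 : ℂ) ^ (s.card - 1) := by
      conv_lhs => rw [← hcardpos, pow_succ]
      ring
    by_cases hgs : g ∈ chStab s
    · have hus : g ^ N ∈ chStab s := (chStab s).pow_mem hgs N
      have hgs' : g ∈ chStab s ∧ p ∣ orderOf g := ⟨hgs, hg⟩
      rw [if_pos hus, if_pos hgs', hsign]
      ring
    · have hgs' : ¬ (g ∈ chStab s ∧ p ∣ orderOf g) := fun h => hgs h.1
      rw [if_neg hgs', mul_zero]
      by_cases hus : g ^ N ∈ chStab s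
      · rw [if_pos hus]
        have hys : y ∉ chStab s ⊓ Subgroup.centralizer ({g ^ N} : Set G) := by
          intro hy'
          apply hgs
          rw [← hxy]
          exact (chStab s).mul_mem hus (Subgroup.mem_inf.mp hy').1
        rw [secPsi_of_notMem hys, mul_zero, neg_zero]
      · rw [if_neg hus]
  · rw [if_neg hg]
    symm
    apply Finset.sum_eq_zero
    intro s _
    rw [if_neg (fun h => hg h.2), mul_zero]

end ChainAssembly

end Cfsg.Agent.Lib.Helper16
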