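import Mathlib

/-!
# Normal chains of `p`-subgroups: basic definitions and a Frattini-type lemma
-/

set_option autoImplicit false

namespace Cfsg.Agent.Lib.Helper16

open Subgroup

section ChainBasic

variable {G : Type*} [Group G]

/-- The stabilizer of a finite set of subgroups: the intersection of the normalizers. -/
def chStab (s : Finset (Subgroup G)) : Subgroup G :=
  ⨅ Q ∈ s, Subgroup.normalizer ((Q : Subgroup G) : Set G)

theorem mem_chStab {s : Finset (Subgroup G)} {g : G} :
    g ∈ chStab s ↔ ∀ Q ∈ s, g ∈ Subgroup.normalizer ((Q : Subgroup G) : Set G) := by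
  unfold chStab
  simp only [Subgroup.mem_iInf]

theorem chStab_empty : chStab (∅ : Finset (Subgroup G)) = ⊤ := by
  ext g
  simp [mem_chStab]

theorem chStab_anti {s t : Finset (Subgroup G)} (h : s ⊆ t) : chStab t ≤ chStab s := by
  intro g hg
  rw [mem_chStab] at hg ⊢
  exact fun Q hQ => hg Q (h hQ)

open Classical in
theorem chStab_insert (R : Subgroup G) (s : Finset (Subgroup G)) :
    chStab (insert R s) = Subgroup.normalizer ((R : Subgroup G) : Set G) ⊓ chStab s := by
  ext g
  simp only [mem_chStab, Subgroup.mem_inf, Finset.mem_insert, forall_eq_or_imp]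

/-- An extended normal chain (possibly empty) of nontrivial `p`-subgroups: totally ordered, and
every member is normalized by the join of all members. -/
def IsNCh (p : ℕ) (s : Finset (Subgroup G)) : Prop :=
  (∀ Q ∈ s, ∀ R ∈ s, Q ≤ R ∨ R ≤ Q) ∧ (∀ Q ∈ s, Q ≠ ⊥ ∧ IsPGroup p Q) ∧
    ∀ Q ∈ s, s.sup id ≤ Subgroup.normalizer ((Q : Subgroup G) : Set G)

/-- The join of a nonempty finite chain is one of its members. -/
theorem sup_mem_of_total {s : Finset (Subgroup G)} (hne : s.Nonempty)
    (htot : ∀ Q ∈ s, ∀ R ∈ s, Q ≤ R ∨ R ≤ Q) : s.sup id ∈ s := by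
  classical
  induction hne using Finset.Nonempty.cons_induction with
  | singleton a => simp
  | cons a s ha hs ih =>
    have ih' := ih (fun Q hQ R hR => htot Q (Finset.mem_cons_of_mem hQ) R (Finset.mem_cons_of_mem hR))
    rw [Finset.sup_cons]
    rcases htot a (Finset.mem_cons_self a s) _ (Finset.mem_cons_of_mem ih') with h | h
    · have : id a ⊔ s.sup id = s.sup id := sup_eq_right.mpr h
      rw [this]
      exact Finset.mem_cons_of_mem ih'
    · have : id a ⊔ s.sup id = a := sup_eq_left.mpr h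
      rw [this]
      exact Finset.mem_cons_self a s

theorem sup_eq_bot_or_mem {s : Finset (Subgroup G)}
    (htot : ∀ Q ∈ s, ∀ R ∈ s, Q ≤ R ∨ R ≤ Q) : s.sup id = ⊥ ∨ s.sup id ∈ s := by
  rcases s.eq_empty_or_nonempty with h | h
  · left
    rw [h, Finset.sup_empty]
  · right
    exact sup_mem_of_total h htot

/-- Equivalence of the two descriptions of nonempty normal chains. -/
theorem isNCh_iff_of_nonempty {p : ℕ} {s : Finset (Subgroup G)} (hne : s.Nonempty) :
    IsNCh p s ↔ ((∀ Q ∈ s, ∀ R ∈ s, Q ≤ R ∨ R ≤ Q) ∧ (∀ Q ∈ s, Q ≠ ⊥ ∧ IsPGroup p Q) ∧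
      ∃ T ∈ s, ∀ Q ∈ s, Q ≤ T ∧ T ≤ Subgroup.normalizer ((Q : Subgroup G) : Set G)) := by
  constructor
  · rintro ⟨h1, h2, h3⟩
    refine ⟨h1, h2, s.sup id, sup_mem_of_total hne h1, fun Q hQ => ⟨?_, h3 Q hQ⟩⟩
    exact Finset.le_sup (f := id) hQ
  · rintro ⟨h1, h2, T, hT, h3⟩
    refine ⟨h1, h2, fun Q hQ => ?_⟩
    have : s.sup id ≤ T := Finset.sup_le (fun R hR => (h3 R hR).1)
    exact this.trans (h3 Q hQ).2

theorem isNCh_empty (p : ℕ) : IsNCh p (∅ : Finset (Subgroup G)) := by
  refine ⟨?_, ?_, ?_⟩ <;> simp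

/-- An element normalizing two subgroups normalizes their join. -/
theorem mem_normalizer_sup {A B : Subgroup G} {g : G}
    (hA : g ∈ Subgroup.normalizer ((A : Subgroup G) : Set G))
    (hB : g ∈ Subgroup.normalizer ((B : Subgroup G) : Set G)) :
    g ∈ Subgroup.normalizer (((A ⊔ B : Subgroup G)) : Set G) := by
  rw [Subgroup.mem_normalizer_iff_map_conj_eq] at hA hB ⊢
  rw [Subgroup.map_sup, hA, hB]

theorem le_normalizer_sup {A B H : Subgroup G}
    (hA : H ≤ Subgroup.normalizer ((A : Subgroup G) : Set G))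
    (hB : H ≤ Subgroup.normalizer ((B : Subgroup G) : Set G)) :
    H ≤ Subgroup.normalizer (((A ⊔ B : Subgroup G)) : Set G) :=
  fun _ hg => mem_normalizer_sup (hA hg) (hB hg)

theorem normalizer_bot_eq_top : Subgroup.normalizer (((⊥ : Subgroup G)) : Set G) = ⊤ :=
  Subgroup.normalizer_eq_top_iff.mpr inferInstance

/-- **Frattini-type lemma.** In a finite `p`-group `T`, a subgroup `Y` containing `u` which together
with the `T`-conjugates of `u` generates `T` is all of `T`. -/
theorem le_of_le_sup_conj_closure [Finite G] {p : ℕ} [Fact p.Prime] {T Y : Subgroup G}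
    (hT : IsPGroup p T) (hYT : Y ≤ T) {u : G} (hu : u ∈ Y)
    (hgen : T ≤ Y ⊔ Subgroup.closure ((fun t : G => t * u * t⁻¹) '' (T : Set G))) : T ≤ Y := by
  by_contra hne
  have hne' : Y.subgroupOf T ≠ ⊤ := by
    intro h
    exact hne (Subgroup.subgroupOf_eq_top.mp h)
  obtain ⟨K, hK, hYK⟩ := (eq_top_or_exists_le_coatom (Y.subgroupOf T)).resolve_left hne'
  have hnil : Group.IsNilpotent T := hT.isNilpotent
  have hKn : K.Normal := Subgroup.NormalizerCondition.normal_of_coatom K
    Group.normalizerCondition_of_isNilpotent hK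
  have hYM : Y ≤ K.map T.subtype := by
    intro y hy
    exact ⟨⟨y, hYT hy⟩, hYK (show (⟨y, hYT hy⟩ : T) ∈ Y.subgroupOf T from hy), rfl⟩
  have hcl : Subgroup.closure ((fun t : G => t * u * t⁻¹) '' (T : Set G)) ≤ K.map T.subtype := by
    rw [Subgroup.closure_le]
    rintro _ ⟨t, ht, rfl⟩
    obtain ⟨u', hu', hu'eq⟩ := hYM hu
    have := hKn.conj_mem u' hu' ⟨t, ht⟩
    refine ⟨_, this, ?_⟩
    simp [← hu'eq]
  have hTK : T ≤ K.map T.subtype := hgen.trans (sup_le hYM hcl)
  apply hK.1
  rw [eq_top_iff]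
  intro x _
  obtain ⟨x', hx', hxe⟩ := hTK x.2
  have : x' = x := Subtype.ext hxe
  rwa [this] at hx'

end ChainBasic

end Cfsg.Agent.Lib.Helper16
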