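import Cfsg.Agent.Lib.Helper16.ChainCancel1

/-!
# The toggling subgroup attached to a chain stabilised by a `p`-element
-/

set_option autoImplicit false

namespace Cfsg.Agent.Lib.Helper16

open Subgroup

section ChainToggle

variable {G : Type*} [Group G]

/-- The chains stabilised by `u` (including the empty one). -/
def chSet (p : ℕ) (u : G) : Set (Finset (Subgroup G)) :=
  {s | IsNCh p s ∧ u ∈ chStab s}

/-- The join of the top of the chain with `⟨u⟩`. -/
def chV (u : G) (s : Finset (Subgroup G)) : Subgroup G := s.sup id ⊔ Subgroup.zpowers u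

/-- The normal closure of `u` in `chV u s`. -/
def chW (u : G) (s : Finset (Subgroup G)) : Subgroup G :=
  Subgroup.closure ((fun t : G => t * u * t⁻¹) '' (chV u s : Set G))

open Classical in
/-- The largest member not containing `u` (or the trivial group). -/
noncomputable def chL (u : G) (s : Finset (Subgroup G)) : Subgroup G :=
  (s.filter (fun Q => u ∉ Q)).sup id

/-- The toggled subgroup. -/
noncomputable def chR (u : G) (s : Finset (Subgroup G)) : Subgroup G := chL u s ⊔ chW u s

variable {p : ℕ} {u : G} {s : Finset (Subgroup G)}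

theorem top_le_chV : s.sup id ≤ chV u s := le_sup_left

theorem u_mem_chV : u ∈ chV u s :=
  (le_sup_right : Subgroup.zpowers u ≤ chV u s) (Subgroup.mem_zpowers u)

theorem u_mem_chW : u ∈ chW u s := by
  apply Subgroup.subset_closure
  exact ⟨1, (chV u s).one_mem, by simp⟩

theorem chW_le_chV : chW u s ≤ chV u s := by
  unfold chW
  rw [Subgroup.closure_le]
  rintro _ ⟨t, ht, rfl⟩
  exact (chV u s).mul_mem ((chV u s).mul_mem ht u_mem_chV) ((chV u s).inv_mem ht)

theorem chV_le_normalizer_chW :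
    chV u s ≤ Subgroup.normalizer ((chW u s : Subgroup G) : Set G) := by
  unfold chW
  rw [Subgroup.le_normalizer_closure_iff]
  rintro h hh _ ⟨t, ht, rfl⟩
  apply Subgroup.subset_closure
  refine ⟨h * t, (chV u s).mul_mem hh ht, ?_⟩
  simp only [mul_inv_rev]
  group

theorem chW_le_of {X : Subgroup G} (huX : u ∈ X)
    (hX : chV u s ≤ Subgroup.normalizer ((X : Subgroup G) : Set G)) : chW u s ≤ X := by
  unfold chW
  rw [Subgroup.closure_le]
  rintro _ ⟨t, ht, rfl⟩
  exact (Subgroup.le_normalizer_iff.mp hX) t ht u huX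

theorem u_mem_chR : u ∈ chR u s := (le_sup_right : chW u s ≤ chR u s) u_mem_chW

theorem chR_ne_bot (hu1 : u ≠ 1) : chR u s ≠ ⊥ := by
  intro h
  have := u_mem_chR (u := u) (s := s)
  rw [h, Subgroup.mem_bot] at this
  exact hu1 this

theorem chL_le_top : chL u s ≤ s.sup id := by
  classical
  unfold chL
  exact Finset.sup_mono (Finset.filter_subset _ _)

theorem chR_le_chV : chR u s ≤ chV u s :=
  sup_le (chL_le_top.trans top_le_chV) chW_le_chV

theorem le_chL {Q : Subgroup G} (hQ : Q ∈ s) (hu : u ∉ Q) : Q ≤ chL u s := by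
  classical
  unfold chL
  exact Finset.le_sup (f := id) (Finset.mem_filter.mpr ⟨hQ, hu⟩)

theorem chL_le_of_total (htot : ∀ Q ∈ s, ∀ R ∈ s, Q ≤ R ∨ R ≤ Q) {Q : Subgroup G}
    (hQ : Q ∈ s) (hu : u ∈ Q) : chL u s ≤ Q := by
  classical
  unfold chL
  apply Finset.sup_le
  intro Q' hQ'
  obtain ⟨hQ's, hQ'u⟩ := Finset.mem_filter.mp hQ'
  rcases htot Q' hQ's Q hQ with h | h
  · exact h
  · exact absurd (h hu) hQ'u

theorem chL_eq_bot_or_mem (htot : ∀ Q ∈ s, ∀ R ∈ s, Q ≤ R ∨ R ≤ Q) :
    chL u s = ⊥ ∨ chL u s ∈ s := by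
  classical
  have h := sup_eq_bot_or_mem (s := s.filter (fun Q => u ∉ Q))
    (fun Q hQ R hR => htot Q (Finset.mem_filter.mp hQ).1 R (Finset.mem_filter.mp hR).1)
  rcases h with h | h
  · left; exact h
  · right; exact (Finset.mem_filter.mp h).1

/-! ### Facts for chains in `chSet p u` -/

theorem chV_le_normalizer_of_mem (hs : s ∈ chSet p u) {Q : Subgroup G} (hQ : Q ∈ s) :
    chV u s ≤ Subgroup.normalizer ((Q : Subgroup G) : Set G) := by
  apply sup_le (hs.1.2.2 Q hQ)
  rw [Subgroup.zpowers_le]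
  exact mem_chStab.mp hs.2 Q hQ

theorem chV_le_normalizer_chL (hs : s ∈ chSet p u) :
    chV u s ≤ Subgroup.normalizer ((chL u s : Subgroup G) : Set G) := by
  rcases chL_eq_bot_or_mem (u := u) hs.1.1 with h | h
  · rw [h, normalizer_bot_eq_top]
    exact le_top
  · exact chV_le_normalizer_of_mem hs h

theorem chV_le_normalizer_chR (hs : s ∈ chSet p u) :
    chV u s ≤ Subgroup.normalizer ((chR u s : Subgroup G) : Set G) :=
  le_normalizer_sup (chV_le_normalizer_chL hs) chV_le_normalizer_chW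

theorem top_isPGroup (hs : s ∈ chSet p u) : IsPGroup p (s.sup id : Subgroup G) := by
  rcases sup_eq_bot_or_mem hs.1.1 with h | h
  · rw [h]
    exact IsPGroup.of_bot
  · exact (hs.1.2.1 _ h).2

theorem chV_isPGroup (hs : s ∈ chSet p u) (hu : IsPGroup p (Subgroup.zpowers u)) :
    IsPGroup p (chV u s) := by
  apply IsPGroup.to_sup_of_normal_left' (top_isPGroup hs) hu
  rw [Subgroup.zpowers_le]
  rcases sup_eq_bot_or_mem hs.1.1 with h | h
  · rw [h, normalizer_bot_eq_top]
    exact Subgroup.mem_top u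
  · exact mem_chStab.mp hs.2 _ h

theorem chR_isPGroup (hs : s ∈ chSet p u) (hu : IsPGroup p (Subgroup.zpowers u)) :
    IsPGroup p (chR u s) :=
  (chV_isPGroup hs hu).to_le chR_le_chV

/-- `chR u s` is comparable with every member of the chain. -/
theorem chR_comparable (hs : s ∈ chSet p u) {Q : Subgroup G} (hQ : Q ∈ s) :
    Q ≤ chR u s ∨ chR u s ≤ Q := by
  by_cases hu : u ∈ Q
  · right
    exact sup_le (chL_le_of_total hs.1.1 hQ hu) (chW_le_of hu (chV_le_normalizer_of_mem hs hQ))
  · left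
    exact (le_chL hQ hu).trans le_sup_left

theorem chR_le_of_mem (hs : s ∈ chSet p u) {Q : Subgroup G} (hQ : Q ∈ s) (hu : u ∈ Q) :
    chR u s ≤ Q :=
  sup_le (chL_le_of_total hs.1.1 hQ hu) (chW_le_of hu (chV_le_normalizer_of_mem hs hQ))

end ChainToggle

end Cfsg.Agent.Lib.Helper16
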