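import Cfsg.Agent.Lib.Helper16.SectionLocal2

/-!
# `|H| (k - l)` for the union of the blocks of `H` inducing `b`, as a sum of section sums
-/

set_option autoImplicit false

namespace Cfsg.Agent.Lib.Helper16

open Cfsg Cfsg.Agent.Lib.Helper77 Cfsg.Agent.Lib.Helper75 Cfsg.Agent.Lib.Helper81
open scoped ComplexConjugate

universe u

section ChainLocal

variable {G : Type u} [Group G]

open Classical in
/-- The section sum attached to a subgroup `K` of `G`, an element `y` and a block `b` of `G`: the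
sum over the irreducible characters `η` of `K` in blocks inducing `b` of `|η(y)|²` (zero if
`y ∉ K`). -/
noncomputable def secPsi (M : Ideal AlgInt) (b : Set (IrrCharacter G)) (K : Subgroup G) (y : G) :
    ℂ :=
  if hy : y ∈ K then
    ∑ᶠ η ∈ {η : IrrCharacter K | IsInducedBlock M K (blockOf M (η : K → ℂ)) b},
      (η : K → ℂ) ⟨y, hy⟩ * conj ((η : K → ℂ) ⟨y, hy⟩)
  else 0

theorem secPsi_of_notMem {M : Ideal AlgInt} {b : Set (IrrCharacter G)} {K : Subgroup G} {y : G}
    (hy : y ∉ K) : secPsi M b K y = 0 := by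
  unfold secPsi
  rw [dif_neg hy]

open Classical in
theorem finsum_mem_eq_sum_filter_univ {ι A : Type*} [AddCommMonoid A] [Fintype ι] (B : Set ι)
    (f : ι → A) : ∑ᶠ i ∈ B, f i = ∑ i ∈ Finset.univ.filter (fun i => i ∈ B), f i := by
  apply finsum_mem_eq_sum_of_inter_support_eq
  congr 1
  ext χ
  simp

open Classical in
theorem secPsi_eq_sum {M : Ideal AlgInt} {b : Set (IrrCharacter G)} {K : Subgroup G} {y : G}
    [Fintype (IrrCharacter K)] (hy : y ∈ K) :
    secPsi M b K y =
      ∑ η ∈ Finset.univ.filter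
        (fun η : IrrCharacter K => IsInducedBlock M K (blockOf M (η : K → ℂ)) b),
      (η : K → ℂ) ⟨y, hy⟩ * conj ((η : K → ℂ) ⟨y, hy⟩) := by
  unfold secPsi
  rw [dif_pos hy, finsum_mem_eq_sum_filter_univ]
  rfl

variable [Fintype G]

open Classical in
/-- The global formula: `|G| (k(b) - l(b))` as a sum of section sums over `p`-singular
elements. -/
theorem global_section_formula {p : ℕ} [Fact p.Prime] {M : Ideal AlgInt} (hM : IsPModular p M)
    {b : Set (IrrCharacter G)} (hb : IsPBlock M b) {K₀ r N : ℕ}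
    (hcard : Nat.card G = p ^ K₀ * r) (hpr : ¬ p ∣ r) (hrN : r ∣ N) (hN1 : N ≡ 1 [MOD p ^ K₀]) :
    (Nat.card G : ℂ) * ((Nat.card b : ℂ) - (blockRank p b : ℂ)) =
      ∑ g : G, if p ∣ orderOf g then
        secPsi M b (Subgroup.centralizer ({g ^ N} : Set G)) ((g ^ N)⁻¹ * g) else 0 := by
  have hp : p.Prime := Fact.out
  have hMp : M.IsPrime := hM.2.1.isPrime
  have := Fintype.ofFinite (IrrCharacter G)
  have hcl : ∀ ψ ∈ b, ∀ φ : IrrCharacter G, SameBlock M (ψ : G → ℂ) (φ : G → ℂ) → φ ∈ b := by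
    obtain ⟨χ₀, rfl⟩ := hb
    intro ψ hψ φ hφ
    exact sameBlock_trans hMp hψ hφ
  rw [card_mul_card_sub_blockRank_union p M hM b hcl]
  apply Finset.sum_congr rfl
  intro g _
  split_ifs with hg
  · obtain ⟨y, hxy, hcomm, hx, hy⟩ := isPPart_pow hp hcard hpr hrN hN1 g
    have hy_eq : y = (g ^ N)⁻¹ * g := by
      calc y = (g ^ N)⁻¹ * (g ^ N * y) := (inv_mul_cancel_left _ _).symm
        _ = (g ^ N)⁻¹ * g := by rw [hxy]
    have hyC : y ∈ Subgroup.centralizer ({g ^ N} : Set G) := by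
      rw [Subgroup.mem_centralizer_singleton_iff]
      exact hcomm.eq.symm
    have := Fintype.ofFinite (Subgroup.centralizer ({g ^ N} : Set G))
    have := Fintype.ofFinite (IrrCharacter (Subgroup.centralizer ({g ^ N} : Set G)))
    have hyo : ¬ p ∣ orderOf (⟨y, hyC⟩ : Subgroup.centralizer ({g ^ N} : Set G)) := by
      rw [← Subgroup.orderOf_coe]
      exact hy
    have h1 := sum_block_section hM hx hb ⟨y, hyC⟩ hyo
    rw [← hy_eq, secPsi_eq_sum hyC, ← h1]
    apply Finset.sum_congr rfl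
    intro χ _
    show _ = (χ : G → ℂ) (g ^ N * y) * conj ((χ : G → ℂ) (g ^ N * y))
    rw [hxy]
  · rfl

open Classical in
/-- The local formula: `|H| (k(𝔅_H) - l(𝔅_H))` as a sum of section sums over the `p`-singular
elements of `H`. -/
theorem local_section_formula {p : ℕ} [Fact p.Prime] {M : Ideal AlgInt} (hM : IsPModular p M)
    (b : Set (IrrCharacter G)) (H : Subgroup G) {K₀ r N : ℕ}
    (hcard : Nat.card G = p ^ K₀ * r) (hpr : ¬ p ∣ r) (hrN : r ∣ N) (hN1 : N ≡ 1 [MOD p ^ K₀]) :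
    (Nat.card H : ℂ) * ((Nat.card (indUnion M H b) : ℂ) - (blockRank p (indUnion M H b) : ℂ)) =
      ∑ g : G, if g ∈ H ∧ p ∣ orderOf g then
        secPsi M b (H ⊓ Subgroup.centralizer ({g ^ N} : Set G)) ((g ^ N)⁻¹ * g) else 0 := by
  have hp : p.Prime := Fact.out
  have hMp : M.IsPrime := hM.2.1.isPrime
  have := Fintype.ofFinite H
  have := Fintype.ofFinite (IrrCharacter H)
  rw [card_mul_card_sub_blockRank_union p M hM (indUnion M H b) (indUnion_closed hMp)]
  set F : G → ℂ := fun g => if g ∈ H ∧ p ∣ orderOf g then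
        secPsi M b (H ⊓ Subgroup.centralizer ({g ^ N} : Set G)) ((g ^ N)⁻¹ * g) else 0 with hF
  have h1 : ∑ g : G, F g = ∑ g ∈ Finset.univ.filter (fun g : G => g ∈ H), F g := by
    symm
    apply Finset.sum_subset (Finset.filter_subset _ _)
    intro g _ hg
    rw [Finset.mem_filter] at hg
    have : g ∉ H := fun h => hg ⟨Finset.mem_univ _, h⟩
    rw [hF]
    simp only
    rw [if_neg (fun h => this h.1)]
  rw [h1, Finset.sum_subtype (p := fun g : G => g ∈ H) (Finset.univ.filter (fun g : G => g ∈ H))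
    (by intro g; simp)]
  apply Finset.sum_congr rfl
  intro h _
  rw [hF]
  simp only
  have hho : orderOf (h : G) = orderOf h := Subgroup.orderOf_coe h
  by_cases hg : p ∣ orderOf h
  · rw [if_pos hg, if_pos ⟨h.2, by rw [hho]; exact hg⟩]
    obtain ⟨y, hxy, hcomm, hx, hy⟩ := isPPart_pow hp hcard hpr hrN hN1 (h : G)
    have hy_eq : y = ((h : G) ^ N)⁻¹ * (h : G) := by
      calc y = ((h : G) ^ N)⁻¹ * ((h : G) ^ N * y) := (inv_mul_cancel_left _ _).symm
        _ = ((h : G) ^ N)⁻¹ * (h : G) := by rw [hxy]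
    have hyH : y ∈ H := by
      rw [hy_eq]
      exact H.mul_mem (H.inv_mem (H.pow_mem h.2 N)) h.2
    have hyK : y ∈ H ⊓ Subgroup.centralizer ({(h : G) ^ N} : Set G) := by
      refine Subgroup.mem_inf.mpr ⟨hyH, ?_⟩
      rw [Subgroup.mem_centralizer_singleton_iff]
      exact hcomm.eq.symm
    have := Fintype.ofFinite
      (IrrCharacter (H ⊓ Subgroup.centralizer ({(h : G) ^ N} : Set G) : Subgroup G))
    have hx' : ∃ k : ℕ, orderOf (h ^ N) = p ^ k := by
      rw [← Subgroup.orderOf_coe]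
      exact hx
    have hyo : ¬ p ∣ orderOf (⟨y, hyH⟩ : H) := by
      rw [← Subgroup.orderOf_coe]
      exact hy
    have h2 := sum_indUnion_section hM H (h ^ N) ⟨y, hyH⟩ hx'
      (H ⊓ Subgroup.centralizer ({(h : G) ^ N} : Set G)) rfl hyK hyo (b := b)
    rw [← hy_eq, secPsi_eq_sum hyK, ← h2]
    have hmul : h ^ N * ⟨y, hyH⟩ = h := by
      apply Subtype.ext
      exact hxy
    rw [hmul]
  · rw [if_neg hg, if_neg (fun hh => hg (by rw [← hho]; exact hh.2))]

end ChainLocal

end Cfsg.Agent.Lib.Helper16
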