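import Cfsg.Agent.Lib.Helper16.GagDefs
import Cfsg.Agent.S0900
import Cfsg.Agent.Lib.Helper79.Basic
import Cfsg.Agent.Lib.Helper25.Ind
import Cfsg.Agent.Lib.Helper81.Irr
import Cfsg.Agent.Lib.Helper76.CentralChar

set_option autoImplicit false
universe u

namespace Cfsg.Agent.Lib.Helper16.Gag
open Cfsg
open scoped IsMulCommutative ComplexConjugate

/-- E2: central type criterion -/
theorem exists_fully_ramified_of_theta {H : Type u} [Group H] [Finite H]
    (θ : Subgroup.center H →* ℂˣ) (hθ : Function.Injective θ)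
    (hpart : ∀ h : H, h ∉ Subgroup.center H →
      ∃ k : H, h * k * h⁻¹ * k⁻¹ ∈ Subgroup.center H ∧ h * k * h⁻¹ * k⁻¹ ≠ 1) :
    ∃ χ : Cfsg.IrrCharacter H, (∀ h : H, (χ : H → ℂ) h = (χ : H → ℂ) 1 → h = 1) ∧
      (Cfsg.charDegree (χ : H → ℂ)) ^ 2 = (Subgroup.center H).index := by
  classical
  haveI : Fintype H := Fintype.ofFinite H
  haveI : Fintype (Subgroup.center H) := Fintype.ofFinite _
  haveI : Fintype (IrrCharacter H) := Fintype.ofFinite _
  set ϑ : (Subgroup.center H) → ℂ := fun z => ((θ z : ℂˣ) : ℂ) with hϑdef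
  have hϑ : IsIrrCharacter (Subgroup.center H) ϑ := Cfsg.Agent.Lib.Helper79.isIrrCharacter_of_monoidHom θ
  have hϑ1 : ϑ 1 = 1 := by simp [hϑdef]
  -- a constituent of the induced character
  obtain ⟨m, hm, hsum⟩ := Cfsg.Agent.S0900.induced_degree_sum (Subgroup.center H)
    (Cfsg.Agent.Lib.Helper3.IsIrrCharacter.isCharacter hϑ)
  have hne : ∃ ψ : IrrCharacter H, m ψ ≠ 0 := by
    by_contra hcon
    push Not at hcon
    simp only [hcon, Nat.cast_zero, zero_mul, Finset.sum_const_zero, hϑ1, mul_one] at hsum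
    have : ((Subgroup.center H).index : ℂ) ≠ 0 := by
      exact_mod_cast Subgroup.index_ne_zero_of_finite
    exact this hsum.symm
  obtain ⟨χ, hχm⟩ := hne
  have hχcf : IsClassFunction H (χ : H → ℂ) :=
    Cfsg.Agent.Lib.Helper3.IsCharacter.isClassFunction
      (Cfsg.Agent.Lib.Helper3.IsIrrCharacter.isCharacter χ.2)
  have hcon : classInner (fun n : (Subgroup.center H) => (χ : H → ℂ) n) ϑ ≠ 0 := by
    rw [← Cfsg.Agent.Lib.Helper25.frobenius_reciprocity' (Subgroup.center H) ϑ (χ : H → ℂ) hχcf]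
    rw [← Cfsg.Agent.Lib.Helper25.classInner_conj_symm, hm χ]
    simpa using hχm
  -- central elements act as scalars on the class function values
  have hvanish : ∀ h : H, h ∉ (Subgroup.center H) → (χ : H → ℂ) h = 0 := by
    intro h hh
    obtain ⟨k, hk, hk1⟩ := hpart h hh
    by_contra hne
    set w : H := (h * k * h⁻¹ * k⁻¹)⁻¹ with hwdef
    have hw : w ∈ (Subgroup.center H) := inv_mem hk
    have hw1 : w ≠ 1 := by
      intro h1
      apply hk1
      rw [← inv_inj, ← hwdef, h1, inv_one]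
    have hconj : k * h * k⁻¹ = h * w := by
      rw [Subgroup.mem_center_iff.mp hw h, hwdef]
      group
    have h1 : (χ : H → ℂ) (h * w) = (χ : H → ℂ) h := by
      rw [← hconj]; exact hχcf h k
    have hom : (χ : H → ℂ) w / (χ : H → ℂ) 1 = 1 := by
      have h2 := Cfsg.Agent.Lib.Helper76.irr_mul_central χ w hw h
      rw [h1] at h2
      have h3 : ((χ : H → ℂ) w / (χ : H → ℂ) 1 - 1) * (χ : H → ℂ) h = 0 := by
        rw [sub_mul, one_mul, ← h2, sub_self]
      rcases mul_eq_zero.mp h3 with h4 | h4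
      · exact sub_eq_zero.mp h4
      · exact absurd h4 hne
    have hshift : ∀ g : H, (χ : H → ℂ) (g * w) = (χ : H → ℂ) g := by
      intro g
      rw [Cfsg.Agent.Lib.Helper76.irr_mul_central χ w hw g, hom, one_mul]
    apply hcon
    rw [Cfsg.Agent.Lib.Helper25.classInner_def]
    set S : ℂ := ∑ z : (Subgroup.center H), (χ : H → ℂ) z * conj (ϑ z) with hS
    have hS2 : S = conj ((θ ⟨w, hw⟩ : ℂˣ) : ℂ) * S := by
      rw [hS, Finset.mul_sum]
      refine (Fintype.sum_equiv (Equiv.mulRight (⟨w, hw⟩ : (Subgroup.center H))) _ _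
        (fun z => ?_)).symm
      simp only [Equiv.coe_mulRight, Subgroup.coe_mul, hshift, hϑdef, map_mul, Units.val_mul]
      ring
    have hθw : conj ((θ ⟨w, hw⟩ : ℂˣ) : ℂ) ≠ 1 := by
      intro h5
      have h6 : ((θ ⟨w, hw⟩ : ℂˣ) : ℂ) = 1 := by
        have := congrArg conj h5
        simpa using this
      have h7 : θ ⟨w, hw⟩ = 1 := Units.ext h6
      have h8 : (⟨w, hw⟩ : (Subgroup.center H)) = 1 := hθ (by rw [h7, map_one])
      exact hw1 (congrArg Subtype.val h8)
    have hS0 : S = 0 := by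
      have h9 : (1 - conj ((θ ⟨w, hw⟩ : ℂˣ) : ℂ)) * S = 0 := by
        rw [sub_mul, one_mul, ← hS2, sub_self]
      rcases mul_eq_zero.mp h9 with h10 | h10
      · exact absurd (sub_eq_zero.mp h10).symm hθw
      · exact h10
    rw [hS0, mul_zero]
  have hinv : ∀ (g : H) (n : (Subgroup.center H)), ϑ ⟨g * n * g⁻¹, Subgroup.Normal.conj_mem inferInstance (n : H) n.2 g⟩ = ϑ n := by
    intro g n
    congr 1
    apply Subtype.ext
    show g * (n : H) * g⁻¹ = n
    have := Subgroup.mem_center_iff.mp n.2 g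
    rw [this, mul_inv_cancel_right]
  obtain ⟨e, he, he2⟩ :=
    ((Cfsg.Agent.S0900.result (Subgroup.center H) (χ : H → ℂ) χ.2 ϑ hϑ hcon).1).mpr ⟨hvanish, hinv⟩
  have hχ1 : (χ : H → ℂ) 1 = (e : ℂ) := by
    have := congrFun he 1
    simpa [hϑ1] using this
  have hχne : (χ : H → ℂ) 1 ≠ 0 := Cfsg.Agent.Lib.Helper80.irr_one_ne_zero χ
  refine ⟨χ, ?_, ?_⟩
  · intro h hh
    by_cases hz : h ∈ (Subgroup.center H)
    · have h1 := congrFun he ⟨h, hz⟩
      simp only [Pi.smul_apply, smul_eq_mul] at h1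
      rw [hh, hχ1] at h1
      have he0 : (e : ℂ) ≠ 0 := by rw [← hχ1]; exact hχne
      have h2 : ϑ ⟨h, hz⟩ = 1 := by
        have h3 : (e : ℂ) * (ϑ ⟨h, hz⟩ - 1) = 0 := by rw [mul_sub, mul_one, ← h1, sub_self]
        rcases mul_eq_zero.mp h3 with h4 | h4
        · exact absurd h4 he0
        · exact sub_eq_zero.mp h4
      have h5 : θ ⟨h, hz⟩ = 1 := Units.ext h2
      have h6 : (⟨h, hz⟩ : (Subgroup.center H)) = 1 := hθ (by rw [h5, map_one])
      exact congrArg Subtype.val h6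
    · exfalso
      rw [hvanish h hz] at hh
      exact hχne hh.symm
  · rw [Cfsg.Agent.Lib.Helper81.charDegree_eq_of_apply_one hχ1, he2]

end Cfsg.Agent.Lib.Helper16.Gag
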