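import Cfsg.Agent.Lib.Helper16.GagDefs
import Cfsg.Agent.Lib.Helper16.GagE2
import Cfsg.Agent.Lib.Helper42.GagI0
import Cfsg.Agent.Lib.Helper27.GagBASE
import Cfsg.Agent.Lib.Helper84.GagT5
import Cfsg.Agent.Lib.Helper84.GagB
import Cfsg.Agent.Lib.Helper2.GagQ3
import Cfsg.Agent.Lib.Helper22.GagQ2
import Cfsg.Agent.Lib.Helper53.GagT4a
import Cfsg.Agent.Lib.Helper64.GagRAD
import Cfsg.Agent.Lib.Helper70.GagD
import Cfsg.Agent.Lib.Helper88.GagQ1
import Cfsg.Agent.Lib.Helper88.GagT0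
import Cfsg.Agent.Lib.Helper88.GagT4b
import Cfsg.Agent.Lib.Helper95.GagA
import Cfsg.Agent.Lib.Helper95.GagT2
import Cfsg.Agent.Lib.Helper95.GagT3
import Cfsg.Agent.Lib.Helper78.GagT4c
import Cfsg.Agent.Lib.Helper80.GagE1
import Cfsg.Statements.S4561

/-! Assembly for S4561 (Gagola-type embedding theorem). Leaves by helper42, helper27, helper84,
helper2, helper22, helper53, helper64, helper70, helper88, helper95, helper78, helper80. -/

set_option autoImplicit false
set_option linter.style.haveILetI false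
universe u v

namespace Cfsg.Agent.Lib.Helper16.Gag
open scoped IsMulCommutative

/-! ## ASSEMBLY (helper16) -/

theorem Tw.Mker_normal {H : Type u} [Group H] {p : ℕ} [NeZero p]
    (ι : Multiplicative (ZMod p) →* Subgroup.center H) : (Tw.Mker ι).Normal := by
  refine ⟨fun n hn g => ?_⟩
  have h1 := Tw.comm_mem_Mker ι n (Tw.Mker_le_Zhat ι hn) g
  have h2 : g * n * g⁻¹ = (g * n * g⁻¹ * n⁻¹) * n := by group
  rw [h2]
  exact Subgroup.mul_mem _ h1 hn

theorem Tw.partner {H : Type u} [Group H] {p : ℕ} [NeZero p]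
    (ι : Multiplicative (ZMod p) →* Subgroup.center H) (hι : Function.Injective ι)
    (hpart : ∀ h : H, h ∉ Subgroup.center H →
      ∃ k : H, h * k * h⁻¹ * k⁻¹ ∈ Subgroup.center H ∧ h * k * h⁻¹ * k⁻¹ ≠ 1)
    (h : Tw H p) (hh : h ∉ Tw.Zhat H p) :
    ∃ k : Tw H p, h * k * h⁻¹ * k⁻¹ ∈ Tw.Zhat H p ∧ h * k * h⁻¹ * k⁻¹ ∉ Tw.Mker ι := by
  by_cases ha : h.a = 0
  · by_cases hf : ∀ i, h.f i ∈ Subgroup.center H
    · by_cases hb : h.b = 0
      · exact absurd ⟨ha, hb, hf⟩ hh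
      · exact Tw.partner_b ι hι h ha hf hb
    · push Not at hf
      obtain ⟨i₀, hi₀⟩ := hf
      exact Tw.partner_f ι hpart h ha i₀ hi₀
  · exact Tw.partner_a ι hι h ha

theorem step {H : Type u} [Group H] {m p : ℕ} [hp : Fact p.Prime] (hH : Good m H) (hpm : p ∣ m) :
    ∃ (H₂ : Type u) (_ : Group H₂), Good m H₂ ∧
      ∃ f : Wr (H ⧸ Subgroup.center H) p →* H₂ ⧸ Subgroup.center H₂, Function.Injective f := by
  haveI := hH.fin
  haveI : NeZero p := ⟨hp.out.ne_zero⟩
  obtain ⟨ι, hι⟩ := exists_iota (K := Subgroup.center H) (p := p)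
    (by rw [hH.card_center]; exact hpm)
  haveI : (Tw.Mker ι).Normal := Tw.Mker_normal ι
  have hc := quot_center (Tw.Mker ι) (Tw.Zhat H p) (Tw.Mker_le_Zhat ι)
    (fun z hz g => Tw.comm_mem_Mker ι z hz g) (Tw.partner ι hι hH.partner)
  have hpt := quot_partner (Tw.Mker ι) (Tw.Zhat H p) (Tw.Mker_le_Zhat ι)
    (fun z hz g => Tw.comm_mem_Mker ι z hz g) (Tw.partner ι hι hH.partner)
  obtain ⟨e⟩ := quot_center_equiv (Tw.Mker ι) (Tw.Zhat H p) hc (Tw.phi ι)
    (Tw.phi_surjective ι) rfl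
  obtain ⟨ψ, hψs, hψk⟩ := Tw.exists_psi (H := H) (p := p)
  obtain ⟨e2⟩ := quot_mod_center_equiv (Tw.Mker ι) (Tw.Zhat H p) (Tw.Mker_le_Zhat ι) hc ψ hψs hψk
  obtain ⟨hfin, hprimes⟩ := Tw.finite_and_primes (H := H) (p := p)
  haveI := hfin
  haveI := hH.cyc
  refine ⟨Tw H p ⧸ Tw.Mker ι, inferInstance, ⟨inferInstance, ?_, ?_, hpt, ?_⟩, ?_⟩
  · exact isCyclic_of_surjective e.symm.toMonoidHom e.symm.surjective
  · rw [Nat.card_congr e.toEquiv, hH.card_center]
  · intro q hq hqd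
    have h1 : q ∣ Nat.card (Tw H p) := by
      refine dvd_trans hqd ?_
      exact Subgroup.card_quotient_dvd_card _
    rcases hprimes q hq h1 with h2 | h2
    · exact hH.primes q hq h2
    · rw [h2]; exact hpm
  · refine ⟨e2.toMonoidHom.comp (MonoidHom.inl _ _), ?_⟩
    intro x y hxy
    have := e2.injective hxy
    simpa using this

theorem main_induction : ∀ (n : ℕ) (G : Type u) [Group G] [Finite G], Group.IsSolvable G →
    Nat.card G = n → ∀ m : ℕ, Squarefree m → (∀ q : ℕ, q.Prime → q ∣ Nat.card G → q ∣ m) →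
    ∃ (H : Type u) (_ : Group H), Good m H ∧
      ∃ f : G →* H ⧸ Subgroup.center H, Function.Injective f := by
  intro n
  induction n using Nat.strong_induction_on with
  | _ n ih =>
    intro G _ _ hs hn m hm hq
    by_cases htriv : Subsingleton G
    · obtain ⟨H, hg, hH⟩ := base_good.{u} m hm.ne_zero
      exact ⟨H, hg, hH, 1, fun x y _ => Subsingleton.elim x y⟩
    · rw [not_subsingleton_iff_nontrivial] at htriv
      obtain ⟨p, hp, π, hπ⟩ := exists_prime_quotient hs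
      have hidx : π.ker.index = p := by
        rw [Subgroup.index_ker, MonoidHom.range_eq_top.mpr hπ, Subgroup.card_top]
        exact (Nat.card_congr Multiplicative.toAdd).trans (Nat.card_zmod p)
      have hcard : Nat.card π.ker * p = Nat.card G := by
        have := Subgroup.card_mul_index π.ker
        rwa [hidx] at this
      have hpos : 0 < Nat.card π.ker := Nat.card_pos
      have hlt : Nat.card π.ker < n := by
        rw [← hn, ← hcard]
        have := hp.out.one_lt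
        nlinarith
      have hpG : p ∣ Nat.card G := ⟨Nat.card π.ker, by rw [← hcard, mul_comm]⟩
      obtain ⟨H, hg, hH, j, hj⟩ := ih (Nat.card π.ker) hlt π.ker inferInstance rfl m hm
        (fun q hq' hqd => hq q hq' (dvd_trans hqd ⟨p, hcard.symm⟩))
      obtain ⟨H₂, hg₂, hH₂, f₂, hf₂⟩ := step hH (hq p hp.out hpG)
      obtain ⟨f₀, hf₀⟩ := kk_embed π hπ
      obtain ⟨f₁, hf₁⟩ := Wr.map_injective (p := p) j hj
      exact ⟨H₂, hg₂, hH₂, f₂.comp (f₁.comp f₀), hf₂.comp (hf₁.comp hf₀)⟩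

theorem exists_fully_ramified {H : Type u} [Group H] {m : ℕ} (hH : Good m H) :
    ∃ χ : Cfsg.IrrCharacter H, (∀ h : H, (χ : H → ℂ) h = (χ : H → ℂ) 1 → h = 1) ∧
      (Cfsg.charDegree (χ : H → ℂ)) ^ 2 = (Subgroup.center H).index := by
  haveI := hH.fin
  haveI := hH.cyc
  obtain ⟨θ, hθ⟩ := exists_injective_hom_units (Z := Subgroup.center H)
  exact exists_fully_ramified_of_theta θ hθ hH.partner

theorem final {G : Type u} [Group G] [Finite G] (hsolv : Group.IsSolvable G) :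
    ∃ (H : Type u) (_ : Group H) (_ : Finite H) (χ : Cfsg.IrrCharacter H),
      (∀ h : H, (χ : H → ℂ) h = (χ : H → ℂ) 1 → h = 1) ∧
      (Cfsg.charDegree (χ : H → ℂ)) ^ 2 = (Subgroup.center H).index ∧
      (∃ f : G →* H ⧸ Subgroup.center H, Function.Injective f) ∧
      (∀ p : ℕ, p.Prime → ((p ∣ Nat.card H ↔ p ∣ Nat.card G) ∧
        (p ∣ Nat.card (Subgroup.center H) ↔ p ∣ Nat.card G))) ∧
      Squarefree (Nat.card (Subgroup.center H)) := by
  obtain ⟨m, hm, hmq⟩ := exists_squarefree_same_primes (Nat.card G) Nat.card_pos.ne'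
  obtain ⟨H, hg, hH, f, hf⟩ := main_induction _ G hsolv rfl m hm
    (fun q hq hqd => (hmq q hq).mpr hqd)
  obtain ⟨χ, hfaith, hdeg⟩ := exists_fully_ramified hH
  haveI := hH.fin
  refine ⟨H, hg, hH.fin, χ, hfaith, hdeg, ⟨f, hf⟩, ?_, ?_⟩
  · intro q hq
    have h1 : q ∣ Nat.card (Subgroup.center H) ↔ q ∣ Nat.card G := by
      rw [hH.card_center]; exact hmq q hq
    exact ⟨⟨fun h => (hmq q hq).mp (hH.primes q hq h),
      fun h => dvd_trans (h1.mpr h) (Subgroup.card_subgroup_dvd_card _)⟩, h1⟩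
  · rw [hH.card_center]; exact hm

end Cfsg.Agent.Lib.Helper16.Gag
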