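import Mathlib
import Cfsg.Agent.Lib.Helper12.ZFpf
import Cfsg.Agent.Lib.Helper16.GagDefs

/-!
# S4840 hive: leaves GAG-B and GAG-C (helper16)
-/

set_option autoImplicit false
set_option linter.unusedSectionVars false

open Cfsg.Agent.Lib.Helper12.ZF

namespace Cfsg.Agent.Lib.Helper16.Gag

universe u v

variable {p : ℕ} [Fact p.Prime] {N : Type v} [CommGroup N] [Finite N] {Γ : Type u} [Group Γ]
  [Finite Γ] {φ : Γ →* MulAut N}

/-- GAG-B. `p'`-elements act semiregularly. -/
theorem semireg (h : TLHyp p φ) {g : Γ} (hg : (orderOf g).Coprime p) {a : N} (ha : a ≠ 1)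
    (hfix : φ g a = a) : g = 1 := by
  obtain ⟨k, hk⟩ := h.st a ha g hfix
  have h1 : orderOf g ∣ p ^ k := orderOf_dvd_of_pow_eq_one hk
  have h2 : (orderOf g).Coprime (p ^ k) := Nat.Coprime.pow_right k hg
  have h3 : orderOf g = 1 := Nat.Coprime.eq_one_of_dvd h2 h1
  exact orderOf_eq_one_iff.mp h3

/-- GAG-C. `p'`-subgroups are fpf groups in the sense of helper12. -/
theorem isFpf_of_coprime (h : TLHyp p φ) (H : Subgroup Γ) (hH : (Nat.card H).Coprime p) :
    IsFpf.{u, v} H := by
  refine ⟨N, inferInstance, inferInstance, φ.comp H.subtype, h.nontriv, ?_⟩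
  intro g hg n hn
  by_contra hn1
  apply hg
  have hcop : (orderOf (g : Γ)).Coprime p := by
    have h1 : orderOf (g : Γ) ∣ Nat.card H := by
      rw [Subgroup.orderOf_coe]
      exact orderOf_dvd_natCard g
    exact Nat.Coprime.coprime_dvd_left h1 hH
  have := semireg h hcop hn1 hn
  exact Subtype.ext this

end Cfsg.Agent.Lib.Helper16.Gag
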