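import Mathlib
import Cfsg.Prelude.Def_Solvable
import Cfsg.Prelude.Def_Transfer
import Cfsg.Agent.Lib.Helper12.ZFpf
import Cfsg.Agent.Lib.Helper10.FittingCent
import Cfsg.Agent.Lib.Helper22.Fitting
import Cfsg.Agent.Lib.Helper16.GagDefs
import Cfsg.Agent.Lib.Helper16.GagBC
import Cfsg.Agent.Lib.Helper75.GagE
import Cfsg.Agent.Lib.Helper55.GagJ
import Cfsg.Agent.Lib.Helper55.GagF
import Cfsg.Agent.Lib.Helper95.GagA

/-!
# S4840 hive: ASM-IIa (helper16)
-/

set_option autoImplicit false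
set_option linter.unusedSectionVars false
set_option linter.unusedVariables false
set_option linter.style.haveILetI false

open Cfsg.Agent.Lib.Helper12.ZF

namespace Cfsg.Agent.Lib.Helper16.Gag

universe u v

variable {p : ℕ} [Fact p.Prime] {N : Type v} [CommGroup N] [Finite N] {Γ : Type u} [Group Γ]
  [Finite Γ] {φ : Γ →* MulAut N}

/-- the image in `Γ` of the centre of a normal subgroup is normal -/
theorem center_map_normal (F : Subgroup Γ) [F.Normal] :
    ((Subgroup.center ↥F).map F.subtype).Normal := by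
  infer_instance

/-- ASM-IIa -/
theorem caseIIa [Group.IsSolvable Γ] (h : TLHyp p φ) (P : Sylow 2 ↥(Cfsg.fittingSubgroup Γ))
    (hodd : ∀ (r : ℕ) [Fact r.Prime], r ≠ 2 → ∀ R : Sylow r ↥(Cfsg.fittingSubgroup Γ),
      ∀ a ∈ (R : Subgroup ↥(Cfsg.fittingSubgroup Γ)),
        ∀ b ∈ (R : Subgroup ↥(Cfsg.fittingSubgroup Γ)), a * b = b * a)
    (hcen : ∀ g : Γ, (∃ k : ℕ, g ^ p ^ k = 1) → ∀ q : ↥(Cfsg.fittingSubgroup Γ),
      q ∈ (P : Subgroup ↥(Cfsg.fittingSubgroup Γ)) → g * q = q * g) :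
    Cfsg.HasNormalPComplement p Γ ∧ ∀ Q : Sylow p Γ, IsMulCommutative (Q : Subgroup Γ) := by
  classical
  have hp : p.Prime := Fact.out
  haveI hFn := Cfsg.Agent.Lib.Helper22.fittingSubgroup_normal Γ
  haveI hFnil : Group.IsNilpotent ↥(Cfsg.fittingSubgroup Γ) :=
    Cfsg.Agent.Lib.Helper22.fittingSubgroup_isNilpotent
  have hcop := fitting_coprime h
  haveI hZn : ((Subgroup.center ↥(Cfsg.fittingSubgroup Γ)).map
      (Cfsg.fittingSubgroup Γ).subtype).Normal := center_map_normal _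
  have hZle : (Subgroup.center ↥(Cfsg.fittingSubgroup Γ)).map (Cfsg.fittingSubgroup Γ).subtype ≤
      Cfsg.fittingSubgroup Γ := Subgroup.map_subtype_le _
  have hZcop : (Nat.card ↥((Subgroup.center ↥(Cfsg.fittingSubgroup Γ)).map
      (Cfsg.fittingSubgroup Γ).subtype)).Coprime p :=
    Nat.Coprime.coprime_dvd_left (Subgroup.card_dvd_of_le hZle) hcop
  have hZfpf := isFpf_of_coprime h _ hZcop
  haveI hZcyc : IsCyclic ↥((Subgroup.center ↥(Cfsg.fittingSubgroup Γ)).map
      (Cfsg.fittingSubgroup Γ).subtype) := by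
    have h1 := hZfpf.cyclic_of_comm ⊤ (by
      rintro ⟨a, z1, hz1, rfl⟩ _ ⟨b, z2, hz2, rfl⟩ _
      apply Subtype.ext
      show ((z1 : ↥(Cfsg.fittingSubgroup Γ)) : Γ) * (z2 : Γ) = (z2 : Γ) * (z1 : Γ)
      have := Subgroup.mem_center_iff.mp hz1 z2
      exact (congrArg Subtype.val this).symm)
    exact isCyclic_of_surjective (Subgroup.topEquiv (G := ↥((Subgroup.center
      ↥(Cfsg.fittingSubgroup Γ)).map (Cfsg.fittingSubgroup Γ).subtype)))
      Subgroup.topEquiv.surjective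
  haveI hBn : (Subgroup.centralizer (((Subgroup.center ↥(Cfsg.fittingSubgroup Γ)).map
      (Cfsg.fittingSubgroup Γ).subtype : Subgroup Γ) : Set Γ)).Normal := inferInstance
  have hBcop : (Nat.card ↥(Subgroup.centralizer (((Subgroup.center
      ↥(Cfsg.fittingSubgroup Γ)).map (Cfsg.fittingSubgroup Γ).subtype : Subgroup Γ) : Set Γ))).Coprime
      p := by
    rw [Nat.coprime_comm, Nat.Prime.coprime_iff_not_dvd hp]
    intro hdvd
    obtain ⟨g, hg⟩ := exists_prime_orderOf_dvd_card' (G := ↥(Subgroup.centralizer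
      (((Subgroup.center ↥(Cfsg.fittingSubgroup Γ)).map (Cfsg.fittingSubgroup Γ).subtype :
        Subgroup Γ) : Set Γ))) p hdvd
    have hgo : orderOf (g : Γ) = p := by rw [Subgroup.orderOf_coe]; exact hg
    have hgp : ∃ k : ℕ, (g : Γ) ^ p ^ k = 1 := ⟨1, by rw [pow_one, ← hgo]; exact pow_orderOf_eq_one _⟩
    have hgZ : ∀ z : ↥(Cfsg.fittingSubgroup Γ), z ∈ Subgroup.center ↥(Cfsg.fittingSubgroup Γ) →
        (g : Γ) * z = z * g := by
      intro z hz
      have hzZ : (z : Γ) ∈ (Subgroup.center ↥(Cfsg.fittingSubgroup Γ)).map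
          (Cfsg.fittingSubgroup Γ).subtype := ⟨z, hz, rfl⟩
      exact (Subgroup.mem_centralizer_iff.mp g.2 z hzZ).symm
    have hgF := centralizes_of_center_and_sylow (Cfsg.fittingSubgroup Γ) P hodd (g : Γ) hgZ
      (hcen g hgp)
    have hgcent : (g : Γ) ∈ Subgroup.centralizer (Cfsg.fittingSubgroup Γ : Set Γ) := by
      rw [Subgroup.mem_centralizer_iff]
      intro f hf
      exact (hgF ⟨f, hf⟩).symm
    have hgF' : (g : Γ) ∈ Cfsg.fittingSubgroup Γ :=
      Cfsg.Agent.Lib.Helper10.centralizer_fitting_le hgcent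
    have hpd : p ∣ Nat.card ↥(Cfsg.fittingSubgroup Γ) := by
      have h1 : orderOf (⟨(g : Γ), hgF'⟩ : ↥(Cfsg.fittingSubgroup Γ)) ∣
          Nat.card ↥(Cfsg.fittingSubgroup Γ) := orderOf_dvd_natCard _
      rwa [Subgroup.orderOf_mk, hgo] at h1
    exact (Nat.Prime.coprime_iff_not_dvd hp).mp hcop.symm hpd
  apply abq p _ hBcop
  intro g k
  exact comm_mem_centralizer_of_cyclic _ g k

end Cfsg.Agent.Lib.Helper16.Gag
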