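import Mathlib
import Cfsg.Prelude.Def_Solvable
import Cfsg.Prelude.Def_Transfer
import Cfsg.Agent.S2904
import Cfsg.Agent.Lib.Helper16.GagDefs
import Cfsg.Agent.Lib.Helper16.GagBC
import Cfsg.Agent.Lib.Helper78.GagP
import Cfsg.Agent.Lib.Helper78.GagS
import Cfsg.Agent.Lib.Helper75.GagNC
import Cfsg.Agent.Lib.Helper1.GagK
import Cfsg.Agent.Lib.Helper1.GagM

/-!
# S4840 hive: ASM-IIb (helper16)
-/

set_option autoImplicit false
set_option linter.unusedSectionVars false
set_option linter.unusedVariables false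
set_option linter.style.haveILetI false

namespace Cfsg.Agent.Lib.Helper16.Gag

universe u v

variable {p : ℕ} [Fact p.Prime] {N : Type v} [CommGroup N] [Finite N] {Γ : Type u} [Group Γ]
  [Finite Γ] {φ : Γ →* MulAut N}

theorem quat2_noncomm : (QuaternionGroup.a 1 : QuaternionGroup (2 ^ 1)) * QuaternionGroup.xa 0 ≠
    QuaternionGroup.xa 0 * QuaternionGroup.a 1 := by
  decide

/-- ASM-IIb -/
theorem caseIIb (h : TLHyp p φ) (hp3 : p = 3) (Q : Subgroup Γ) [Q.Normal]
    (e : Q ≃* QuaternionGroup (2 ^ 1)) : Nat.card N = 9 := by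
  classical
  subst hp3
  have hNp : IsPGroup 3 N := fun a => ⟨1, by rw [pow_one]; exact h.exp a⟩
  obtain ⟨d, hd⟩ := hNp.exists_card_eq
  have hQcard : Nat.card Q = 8 := by
    rw [Nat.card_congr e.toEquiv, Nat.card_eq_fintype_card, QuaternionGroup.card]
    norm_num
  have hQcop : (Nat.card Q).Coprime 3 := by rw [hQcard]; norm_num
  have h8 : 8 ∣ 3 ^ d - 1 := by
    have := card_dvd_of_coprime h Q hQcop
    rwa [hQcard, hd] at this
  haveI := h.nontriv
  have hN2 : 2 ≤ Nat.card N := Finite.one_lt_card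
  rcases Nat.lt_or_ge d 3 with hd3 | hd3
  · interval_cases d
    · rw [hd] at hN2; omega
    · norm_num at h8
    · rw [hd]; norm_num
  exfalso
  obtain ⟨l, hl, hldvd, hlprim⟩ := Cfsg.Agent.S2904.result 3 d (by norm_num) (by omega)
    (by omega) (by
      rintro ⟨h1, -⟩
      omega)
  haveI : Fact l.Prime := ⟨hl⟩
  have hl2 : l ≠ 2 := by
    intro h2
    apply hlprim 1 (by norm_num) (by omega)
    rw [h2]
    norm_num
  have hl3 : l ≠ 3 := by
    intro h3
    rw [h3] at hldvd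
    have h1 : 3 ∣ 3 ^ d := dvd_pow_self 3 (by omega)
    have h2 : 1 ≤ 3 ^ d := Nat.one_le_pow _ _ (by norm_num)
    have h4 : 3 ∣ 3 ^ d - (3 ^ d - 1) := Nat.dvd_sub h1 hldvd
    have h5 : 3 ^ d - (3 ^ d - 1) = 1 := by omega
    rw [h5] at h4
    norm_num at h4
  obtain ⟨a, ha⟩ := card_eq h
  have hlΓ : l ∣ Nat.card Γ := by
    rw [ha, hd]
    exact Dvd.dvd.mul_right hldvd _
  obtain ⟨w, hw⟩ := exists_prime_orderOf_dvd_card' (G := Γ) l hlΓ
  have hwl : w ^ l = 1 := by rw [← hw]; exact pow_orderOf_eq_one w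
  have hw1 : w ≠ 1 := by
    intro h1
    rw [h1, orderOf_one] at hw
    exact hl.one_lt.ne hw
  have hcopw : (orderOf w).Coprime 3 := by
    rw [hw]
    exact (Nat.coprime_primes hl Nat.prime_three).mpr hl3
  have hfpf : ∀ x : N, φ w x = x → x = 1 := by
    intro x hx
    by_contra hx1
    exact hw1 (semireg h hcopw hx1 hx)
  have hcentQ : ∀ q ∈ Q, w * q = q * w :=
    centralizes_quat Q 1 le_rfl e w l hwl (hl.odd_of_ne_two hl2)
      (fun _ h3 => hl3 ((Nat.prime_dvd_prime_iff_eq Nat.prime_three hl).mp h3).symm)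
  have hφw : (φ w) ^ l = 1 := by rw [← map_pow, hwl, map_one]
  have hirr := invariant_subgroup_of_ppd h.exp (φ w) l hφw hfpf d hd hlprim
  have hcomm : ∀ q1 ∈ Q, ∀ q2 ∈ Q, q1 * q2 = q2 * q1 := by
    intro q1 hq1 q2 hq2
    apply h.inj
    rw [map_mul, map_mul]
    apply comm_of_commute_irred (φ w) (φ q1) (φ q2) hirr
    · rw [← map_mul, ← map_mul, hcentQ q1 hq1]
    · rw [← map_mul, ← map_mul, hcentQ q2 hq2]
  apply quat2_noncomm
  have h1 := hcomm (e.symm (QuaternionGroup.a 1)) (e.symm (QuaternionGroup.a 1)).2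
    (e.symm (QuaternionGroup.xa 0)) (e.symm (QuaternionGroup.xa 0)).2
  have h2 : e.symm (QuaternionGroup.a 1) * e.symm (QuaternionGroup.xa 0) =
      e.symm (QuaternionGroup.xa 0) * e.symm (QuaternionGroup.a 1) := Subtype.ext h1
  have h3 := congrArg e h2
  simpa using h3

end Cfsg.Agent.Lib.Helper16.Gag
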