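import Mathlib
import Cfsg.Prelude.Def_Solvable
import Cfsg.Prelude.Def_Transfer
import Cfsg.Prelude.Def_CaseTheorems
import Cfsg.Agent.Lib.Helper12.ZFpf
import Cfsg.Agent.Lib.Helper10.FittingCent
import Cfsg.Agent.Lib.Helper22.Fitting
import Cfsg.Agent.Lib.Helper16.GagDefs
import Cfsg.Agent.Lib.Helper16.GagBC
import Cfsg.Agent.Lib.Helper16.GagIIa
import Cfsg.Agent.Lib.Helper16.GagIIb
import Cfsg.Agent.Lib.Helper74.GagQ
import Cfsg.Agent.Lib.Helper74.GagGR2
import Cfsg.Agent.Lib.Helper55.GagQN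
import Cfsg.Agent.Lib.Helper78.GagR
import Cfsg.Agent.Lib.Helper95.GagGR1
import Cfsg.Agent.Lib.Helper95.GagGR3

/-!
# S4840 (Gagola, solvable case): assembly of the hive leaves (helper16)
-/

set_option autoImplicit false
set_option linter.unusedSectionVars false
set_option linter.unusedVariables false
set_option linter.style.haveILetI false

open Cfsg.Agent.Lib.Helper12.ZF

namespace Cfsg.Agent.Lib.Helper16.Gag

universe u v

section action

variable {p : ℕ} [Fact p.Prime] {N : Type v} [CommGroup N] [Finite N] {Γ : Type u} [Group Γ]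
  [Finite Γ] {φ : Γ →* MulAut N}

/-- ASM-I: abelian Fitting subgroup -/
theorem caseI [Group.IsSolvable Γ] (h : TLHyp p φ)
    (hc : ∀ a ∈ Cfsg.fittingSubgroup Γ, ∀ b ∈ Cfsg.fittingSubgroup Γ, a * b = b * a) :
    Cfsg.HasNormalPComplement p Γ ∧ ∀ Q : Sylow p Γ, IsMulCommutative (Q : Subgroup Γ) := by
  haveI := Cfsg.Agent.Lib.Helper22.fittingSubgroup_normal Γ
  have hcop := fitting_coprime h
  have hfpf := isFpf_of_coprime h (Cfsg.fittingSubgroup Γ) hcop
  have hcyc : IsCyclic ↥(Cfsg.fittingSubgroup Γ) := by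
    have h1 := hfpf.cyclic_of_comm ⊤ (fun a _ b _ => Subtype.ext (hc a a.2 b b.2))
    exact isCyclic_of_surjective (Subgroup.topEquiv (G := ↥(Cfsg.fittingSubgroup Γ)))
      Subgroup.topEquiv.surjective
  apply abq p (Cfsg.fittingSubgroup Γ) hcop
  intro g k
  exact Cfsg.Agent.Lib.Helper10.centralizer_fitting_le
    (comm_mem_centralizer_of_cyclic (Cfsg.fittingSubgroup Γ) g k)

/-- the abstract theorem -/
theorem TL [Group.IsSolvable Γ] (h : TLHyp p φ) :
    Cfsg.HasNormalPComplement p Γ ∧ ∀ S : Sylow p Γ, IsMulCommutative (S : Subgroup Γ) := by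
  classical
  by_cases hc : ∀ a ∈ Cfsg.fittingSubgroup Γ, ∀ b ∈ Cfsg.fittingSubgroup Γ, a * b = b * a
  · exact caseI h hc
  haveI hFn := Cfsg.Agent.Lib.Helper22.fittingSubgroup_normal Γ
  haveI hFnil : Group.IsNilpotent ↥(Cfsg.fittingSubgroup Γ) :=
    Cfsg.Agent.Lib.Helper22.fittingSubgroup_isNilpotent
  have hcop := fitting_coprime h
  have hfpf := isFpf_of_coprime h (Cfsg.fittingSubgroup Γ) hcop
  have hnc : ¬ ∀ a b : ↥(Cfsg.fittingSubgroup Γ), a * b = b * a := by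
    intro hab
    apply hc
    intro a ha b hb
    exact congrArg Subtype.val (hab ⟨a, ha⟩ ⟨b, hb⟩)
  obtain ⟨n, P, hn, ⟨e⟩, hodd⟩ := exists_quat_sylow ↥(Cfsg.fittingSubgroup Γ) hfpf hnc
  have hPcard : Nat.card (P : Subgroup ↥(Cfsg.fittingSubgroup Γ)) = 4 * 2 ^ n := by
    rw [Nat.card_congr e.toEquiv, Nat.card_eq_fintype_card, QuaternionGroup.card]
  have hp2 : p ≠ 2 := by
    intro hp2
    have h2 : 2 ∣ Nat.card ↥(Cfsg.fittingSubgroup Γ) := by
      have h3 := Subgroup.card_subgroup_dvd_card (P : Subgroup ↥(Cfsg.fittingSubgroup Γ))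
      rw [hPcard] at h3
      exact (Dvd.intro (2 * 2 ^ n) (by ring)).trans h3
    rw [hp2] at hcop
    have := Nat.Coprime.eq_one_of_dvd hcop.symm h2
    omega
  haveI hQn : ((P : Subgroup ↥(Cfsg.fittingSubgroup Γ)).map
      (Cfsg.fittingSubgroup Γ).subtype).Normal := sylow_map_normal (Cfsg.fittingSubgroup Γ) 2 P
  have eQ : ↥((P : Subgroup ↥(Cfsg.fittingSubgroup Γ)).map (Cfsg.fittingSubgroup Γ).subtype) ≃*
      QuaternionGroup (2 ^ n) :=
    ((P : Subgroup ↥(Cfsg.fittingSubgroup Γ)).equivMapOfInjective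
      (Cfsg.fittingSubgroup Γ).subtype (Cfsg.fittingSubgroup Γ).subtype_injective).symm.trans e
  by_cases hx : n = 1 ∧ p = 3
  · obtain ⟨hn1, hp3⟩ := hx
    subst hn1
    have h9 := caseIIb h hp3 _ eQ
    apply final9 h hp3 h9 ((P : Subgroup ↥(Cfsg.fittingSubgroup Γ)).map
      (Cfsg.fittingSubgroup Γ).subtype)
    rw [Nat.card_congr eQ.toEquiv, Nat.card_eq_fintype_card, QuaternionGroup.card]
    norm_num
  · apply caseIIa h P hodd
    rintro g ⟨k, hk⟩ q hq
    have hmem : (q : Γ) ∈ (P : Subgroup ↥(Cfsg.fittingSubgroup Γ)).map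
        (Cfsg.fittingSubgroup Γ).subtype := ⟨q, hq, rfl⟩
    apply centralizes_quat _ n hn eQ g (p ^ k) hk ?_ ?_ (q : Γ) hmem
    · exact ((Fact.out : p.Prime).odd_of_ne_two hp2).pow
    · intro hn1 h3
      apply hx
      refine ⟨hn1, ?_⟩
      have h4 := Nat.Prime.dvd_of_dvd_pow Nat.prime_three h3
      exact ((Nat.prime_dvd_prime_iff_eq Nat.prime_three Fact.out).mp h4).symm

end action

/-- the abstract theorem, for a `Group` structure on `N` -/
theorem TL' {p : ℕ} [Fact p.Prime] {N : Type v} [Group N] [Finite N] {Γ : Type u} [Group Γ]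
    [Finite Γ] [Group.IsSolvable Γ] {φ : Γ →* MulAut N} (h : TLHyp p φ) :
    Cfsg.HasNormalPComplement p Γ ∧ ∀ S : Sylow p Γ, IsMulCommutative (S : Subgroup Γ) := by
  letI : CommGroup N := { (inferInstance : Group N) with mul_comm := h.comm }
  exact TL (N := N) h

/-! ## reduction from the Gagola situation -/

section reduction

variable {G : Type u} [Group G] [Finite G]

/-- the group-theoretic content of S4840 -/
theorem gagola_solvable [Group.IsSolvable G] (p : ℕ) [Fact p.Prime] (N : Subgroup G) [N.Normal]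
    (hN1 : N ≠ ⊥) (hmin : ∀ K : Subgroup G, K.Normal → K ≠ ⊥ → N ≤ K)
    (hel : Cfsg.IsElementaryAbelian p N)
    (hconj : ∀ x ∈ N, ∀ y ∈ N, x ≠ 1 → y ≠ 1 → ∃ g : G, g * x * g⁻¹ = y)
    (hcent : ∀ x ∈ N, x ≠ 1 → ∃ P : Sylow p G, Subgroup.centralizer ({x} : Set G) = P) :
    (∀ q : ℕ, q.Prime → (Cfsg.pCore q G ≠ ⊥ ↔ q = p)) ∧
      Cfsg.HasNormalPComplement p (G ⧸ Cfsg.pCore p G) ∧
      ∀ Q : Sylow p (G ⧸ Cfsg.pCore p G),
        IsMulCommutative (Q : Subgroup (G ⧸ Cfsg.pCore p G)) := by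
  have hexp : ∀ a : N, a ^ p = 1 := fun a => Subtype.ext (by simpa using hel.2 a a.2)
  have hcomm : ∀ a b : N, a * b = b * a := fun a b => hel.1.is_comm.comm a b
  have hNp : IsPGroup p N := fun a => ⟨1, by rw [pow_one]; exact hexp a⟩
  have hcore := pCore_eq_centralizer p N hN1 hmin hNp hcent
  obtain ⟨φ, hφ⟩ := tlHyp_of_gagola p N hN1 hcomm hexp hconj hcent hcore
  refine ⟨fun q hq => pCore_ne_bot_iff p N hN1 hmin hNp q hq, ?_⟩
  exact TL' hφ

end reduction

end Cfsg.Agent.Lib.Helper16.Gag
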