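import Mathlib
import Cfsg.Prelude.Def_Blocks

/-!
# Orbit sums
-/

set_option autoImplicit false

namespace Cfsg.Agent.Lib.Helper16

open Cfsg MulAction

/-- A sum of an invariant function over a finite set with a group action is `|Q|` times an
element of `C`, if each value is `|Stab|` times an element of `C` (`C` closed under sums). -/
theorem sum_eq_card_mul_of_action {Q X : Type*} [Group Q] [Fintype Q] [Fintype X] [MulAction Q X]
    (C : ℂ → Prop) (h0 : C 0) (hadd : ∀ x y, C x → C y → C (x + y))
    (F : X → ℂ) (hinv : ∀ (q : Q) (a : X), F (q • a) = F a)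
    (hF : ∀ a : X, ∃ s : ℂ, C s ∧ F a = (Nat.card (stabilizer Q a) : ℂ) * s) :
    ∃ s : ℂ, C s ∧ ∑ a, F a = (Nat.card Q : ℂ) * s := by
  classical
  have : Fintype (orbitRel.Quotient Q X) := Fintype.ofFinite _
  have hsum : ∀ (ι : Type _) (t : Finset ι) (f : ι → ℂ), (∀ i ∈ t, C (f i)) → C (∑ i ∈ t, f i) := by
    intro ι t f hf
    induction t using Finset.induction_on with
    | empty => simpa using h0
    | insert a t ha ih =>
      rw [Finset.sum_insert ha]
      exact hadd _ _ (hf a (Finset.mem_insert_self a t))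
        (ih fun i hi => hf i (Finset.mem_insert_of_mem hi))
  choose s hsC hs using hF
  have h1 : ∑ a, F a = ∑ x : (Σ ω : orbitRel.Quotient Q X, orbit Q ω.out), F (x.2 : X) :=
    (Fintype.sum_equiv (selfEquivSigmaOrbits Q X).symm _ _ (fun x => rfl)).symm
  rw [h1, Fintype.sum_sigma]
  have h2 : ∀ ω : orbitRel.Quotient Q X, ∑ a : orbit Q ω.out, F (a : X) =
      (Nat.card Q : ℂ) * s ω.out := by
    intro ω
    have h3 : ∀ a : orbit Q ω.out, F (a : X) = F ω.out := by
      intro a
      obtain ⟨q, hq⟩ := a.2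
      rw [← hq]
      exact hinv q _
    rw [Finset.sum_congr rfl (fun a _ => h3 a), Finset.sum_const, Finset.card_univ, nsmul_eq_mul,
      hs ω.out, ← mul_assoc, ← Nat.cast_mul]
    congr 2
    rw [← Nat.card_eq_fintype_card, Nat.card_coe_set_eq, ← index_stabilizer]
    exact Subgroup.index_mul_card _
  rw [Finset.sum_congr rfl (fun ω _ => h2 ω), ← Finset.mul_sum]
  exact ⟨_, hsum _ _ _ (fun ω _ => hsC ω.out), rfl⟩

end Cfsg.Agent.Lib.Helper16
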