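import Cfsg.Agent.Lib.Helper16.Green1
import Cfsg.Agent.Lib.Helper16.Degree
import Cfsg.Agent.Lib.Helper77.Clifford
import Cfsg.Agent.Lib.Helper77.BlockIdem
import Cfsg.Agent.Lib.Helper74.DZ4
import Cfsg.Agent.S0957

/-!
# Green's theorem for characters of defect zero
-/

set_option autoImplicit false

namespace Cfsg.Agent.Lib.Helper16

open Cfsg MulAction Cfsg.Agent.Lib.Helper77 Cfsg.Agent.Lib.Helper81
open scoped ComplexConjugate

universe u

variable {G : Type u} [Group G]

theorem mem_map_conj_iff {P : Subgroup G} {w q : G} :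
    q ∈ P.map (MulAut.conj w).toMonoidHom ↔ w⁻¹ * q * w ∈ P := by
  constructor
  · rintro ⟨c, hc, rfl⟩
    have : w⁻¹ * ((MulAut.conj w).toMonoidHom c) * w = c := by
      simp [MulAut.conj_apply, mul_assoc]
    rw [this]
    exact hc
  · intro h
    refine ⟨w⁻¹ * q * w, h, ?_⟩
    simp [MulAut.conj_apply, mul_assoc]

/-- The twisted action of `P ∩ wPw⁻¹` on `P`: `q • a = (w⁻¹ q w) a q⁻¹`. -/
@[reducible] def twistAction (P : Subgroup G) (w : G) :
    MulAction ↥(P ⊓ P.map (MulAut.conj w).toMonoidHom) P where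
  smul q a := ⟨w⁻¹ * (q : G) * w * (a : G) * (q : G)⁻¹,
    P.mul_mem (P.mul_mem (mem_map_conj_iff.mp q.2.2) a.2) (P.inv_mem q.2.1)⟩
  one_smul a := by
    apply Subtype.ext
    show w⁻¹ * ((1 : ↥(P ⊓ P.map (MulAut.conj w).toMonoidHom)) : G) * w * (a : G) *
      ((1 : ↥(P ⊓ P.map (MulAut.conj w).toMonoidHom)) : G)⁻¹ = a
    simp
  mul_smul q r a := by
    apply Subtype.ext
    show w⁻¹ * ((q * r : ↥(P ⊓ P.map (MulAut.conj w).toMonoidHom)) : G) * w * (a : G) *
      ((q * r : ↥(P ⊓ P.map (MulAut.conj w).toMonoidHom)) : G)⁻¹ =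
      w⁻¹ * (q : G) * w * (w⁻¹ * (r : G) * w * (a : G) * (r : G)⁻¹) * (q : G)⁻¹
    push_cast
    group

theorem twistAction_smul_coe (P : Subgroup G) (w : G)
    (q : ↥(P ⊓ P.map (MulAut.conj w).toMonoidHom)) (a : P) :
    (((twistAction P w).smul q a : P) : G) = w⁻¹ * (q : G) * w * (a : G) * (q : G)⁻¹ := rfl

/-- Conjugation action of `P` on the conjugacy class of `x`. -/
@[reducible] def conjClassAction (P : Subgroup G) (x : G) : MulAction P {v : G // IsConj x v} where
  smul b v := ⟨(b : G) * (v : G) * (b : G)⁻¹, v.2.trans (isConj_iff.mpr ⟨b, rfl⟩)⟩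
  one_smul v := by
    apply Subtype.ext
    show ((1 : P) : G) * (v : G) * ((1 : P) : G)⁻¹ = v
    simp
  mul_smul b c v := by
    apply Subtype.ext
    show ((b * c : P) : G) * (v : G) * ((b * c : P) : G)⁻¹ =
      (b : G) * ((c : G) * (v : G) * (c : G)⁻¹) * (b : G)⁻¹
    push_cast
    group

variable [Fintype G]

/-- The value of an irreducible character in terms of its central character. -/
theorem irr_eq_centralChar_mul (χ : IrrCharacter G) (k : ℕ)
    (hk : Nat.card G = charDegree (χ : G → ℂ) * k) (g : G) :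
    (χ : G → ℂ) g = centralChar (χ : G → ℂ) g *
      (Nat.card (Subgroup.centralizer ({g} : Set G)) : ℂ) / (k : ℂ) := by
  obtain ⟨d, hd0, hd1, hd2, -⟩ := irr_degree_spec χ
  rw [hd2] at hk
  have hG0 : Nat.card G ≠ 0 := Nat.card_pos.ne'
  have hk0 : (k : ℂ) ≠ 0 := by
    intro h
    have : k = 0 := by exact_mod_cast h
    rw [this, mul_zero] at hk
    exact hG0 hk
  have hd0' : (d : ℂ) ≠ 0 := Nat.cast_ne_zero.mpr hd0.ne'
  have hidx : ((Subgroup.centralizer ({g} : Set G)).index : ℂ) *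
      (Nat.card (Subgroup.centralizer ({g} : Set G)) : ℂ) = (d : ℂ) * (k : ℂ) := by
    rw [← Nat.cast_mul, Subgroup.index_mul_card, hk, Nat.cast_mul]
  have hidx0 : ((Subgroup.centralizer ({g} : Set G)).index : ℂ) ≠ 0 :=
    Nat.cast_ne_zero.mpr Subgroup.index_ne_zero_of_finite
  unfold centralChar
  rw [hd1]
  field_simp
  linear_combination (-(χ : G → ℂ) g) * hidx

/-- Stage 1: the sum of `χ` over the coset `wP` is divisible by `|P ∩ wPw⁻¹|` in the local ring. -/
theorem sum_coset_eq_card_mul {p : ℕ} [Fact p.Prime] {M : Ideal AlgInt} (hM : IsPModular p M)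
    (χ : IrrCharacter G) (k : ℕ) (hk : Nat.card G = charDegree (χ : G → ℂ) * k) (hpk : ¬ p ∣ k)
    (P : Subgroup G) [Fintype P] (w : G) :
    ∃ s : ℂ, MemLocalRing M s ∧ ∑ c : P, (χ : G → ℂ) (w * (c : G)) =
      (Nat.card ↥(P ⊓ P.map (MulAut.conj w).toMonoidHom) : ℂ) * s := by
  classical
  have hMp : M.IsPrime := isPrime_of_isPModular hM
  let _ := twistAction P w
  have : Fintype ↥(P ⊓ P.map (MulAut.conj w).toMonoidHom) := Fintype.ofFinite _
  have hcf : IsClassFunction G (χ : G → ℂ) := isClassFunction_of_isCharacter χ.2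
  refine sum_eq_card_mul_of_action (Q := ↥(P ⊓ P.map (MulAut.conj w).toMonoidHom)) (X := P)
    (MemLocalRing M) (memLocalRing_zero hMp) (fun x y hx hy => memLocalRing_add hMp hx hy)
    (fun c : P => (χ : G → ℂ) (w * (c : G))) ?_ ?_
  · intro q a
    have h1 : w * (((q • a : P)) : G) = (q : G) * (w * (a : G)) * (q : G)⁻¹ := by
      have : ((q • a : P) : G) = w⁻¹ * (q : G) * w * (a : G) * (q : G)⁻¹ := rfl
      rw [this]
      group
    show (χ : G → ℂ) (w * ((q • a : P) : G)) = _
    rw [h1, hcf]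
  · intro a
    -- the stabilizer embeds in the centralizer of `w * a`
    have hstab : ∀ q : ↥(P ⊓ P.map (MulAut.conj w).toMonoidHom), q ∈ stabilizer _ a →
        (q : G) ∈ Subgroup.centralizer ({w * (a : G)} : Set G) := by
      intro q hq
      rw [mem_stabilizer_iff] at hq
      have h1 : w⁻¹ * (q : G) * w * (a : G) * (q : G)⁻¹ = (a : G) := congrArg Subtype.val hq
      rw [Subgroup.mem_centralizer_singleton_iff]
      calc (q : G) * (w * (a : G)) = w * (w⁻¹ * (q : G) * w * (a : G) * (q : G)⁻¹) * (q : G) := by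
            group
        _ = w * (a : G) * (q : G) := by rw [h1]
    let f : stabilizer ↥(P ⊓ P.map (MulAut.conj w).toMonoidHom) a →*
        Subgroup.centralizer ({w * (a : G)} : Set G) :=
      { toFun := fun q => ⟨((q : ↥(P ⊓ P.map (MulAut.conj w).toMonoidHom)) : G), hstab q.1 q.2⟩
        map_one' := rfl
        map_mul' := fun _ _ => rfl }
    have hf : Function.Injective f := by
      intro q r hqr
      have : ((q : ↥(P ⊓ P.map (MulAut.conj w).toMonoidHom)) : G) =
          ((r : ↥(P ⊓ P.map (MulAut.conj w).toMonoidHom)) : G) := congrArg (fun z : Subgroup.centralizer ({w * (a : G)} : Set G) => (z : G)) hqr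
      exact Subtype.ext (Subtype.ext this)
    obtain ⟨m, hm⟩ := Subgroup.card_dvd_of_injective f hf
    refine ⟨(m : ℂ) * centralChar (χ : G → ℂ) (w * (a : G)) * (k : ℂ)⁻¹, ?_, ?_⟩
    · exact memLocalRing_mul hMp (memLocalRing_mul hMp (memLocalRing_natCast hMp m)
        (memLocalRing_centralChar hMp χ.2 _)) (memLocalRing_inv_natCast hM hpk)
    · rw [irr_eq_centralChar_mul χ k hk, hm, Nat.cast_mul]
      ring

end Cfsg.Agent.Lib.Helper16
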