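import Cfsg.Agent.Lib.Helper16.Green2

/-!
# Green's theorem for characters of defect zero (continued)
-/

set_option autoImplicit false

namespace Cfsg.Agent.Lib.Helper16

open Cfsg MulAction Cfsg.Agent.Lib.Helper77 Cfsg.Agent.Lib.Helper81
open scoped ComplexConjugate

universe u

variable {G : Type u} [Group G] [Fintype G]

/-- **Green's theorem, defect zero case.** If `χ` has defect zero, `x` has centralizer of order
prime to `p` and `ω_χ(x)` is a unit, then some conjugate `v` of `x` has `P ∩ vPv⁻¹ = 1`. -/
theorem green_defect_zero {p : ℕ} [Fact p.Prime] {M : Ideal AlgInt} (hM : IsPModular p M)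
    (χ : IrrCharacter G)
    (hdeg : (charDegree (χ : G → ℂ)).factorization p = (Nat.card G).factorization p)
    (x : G) (hC : ¬ p ∣ Nat.card (Subgroup.centralizer ({x} : Set G)))
    (hx : ¬ MemLocalIdeal M (centralChar (χ : G → ℂ) x)) (P : Sylow p G) :
    ∃ g : G, (P : Subgroup G) ⊓
      (P : Subgroup G).map (MulAut.conj (g * x * g⁻¹)).toMonoidHom = ⊥ := by
  classical
  have hp : p.Prime := Fact.out
  have hMp : M.IsPrime := isPrime_of_isPModular hM
  have hcf : IsClassFunction G (χ : G → ℂ) := isClassFunction_of_isCharacter χ.2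
  obtain ⟨d, hd0, hd1, hd2, ⟨k, hk⟩⟩ := irr_degree_spec χ
  have hG0 : Nat.card G ≠ 0 := Nat.card_pos.ne'
  have hpk : ¬ p ∣ k := by
    apply Cfsg.Agent.Lib.Helper74.not_dvd_cofactor hp hG0 hk
    rw [← hdeg, hd2]
    exact Nat.ordProj_dvd d p
  have hk' : Nat.card G = charDegree (χ : G → ℂ) * k := by rw [hd2]; exact hk
  have : Fintype (P : Subgroup G) := Fintype.ofFinite _
  by_contra hcon
  push Not at hcon
  -- Stage 1: all coset sums lie in the local ideal
  have hstage1 : ∀ v : G, IsConj x v →
      MemLocalIdeal M (∑ c : (P : Subgroup G), (χ : G → ℂ) (v * (c : G))) := by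
    intro v hv
    obtain ⟨g, rfl⟩ := isConj_iff.mp hv
    obtain ⟨s, hs, hsum⟩ := sum_coset_eq_card_mul hM χ k hk' hpk (P : Subgroup G) (g * x * g⁻¹)
    rw [hsum]
    apply memLocalIdeal_mul_right hMp _ hs
    rw [memLocalIdeal_natCast_iff hM]
    have hpg : IsPGroup p ↥((P : Subgroup G) ⊓
        (P : Subgroup G).map (MulAut.conj (g * x * g⁻¹)).toMonoidHom) :=
      P.isPGroup'.to_le inf_le_left
    obtain ⟨n, hn⟩ := IsPGroup.iff_card.mp hpg
    rw [hn]
    have hn0 : n ≠ 0 := by
      intro h0
      rw [h0, pow_zero] at hn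
      exact hcon g (Subgroup.eq_bot_of_card_eq _ hn)
    exact dvd_pow_self p hn0
  -- Stage 2
  let _ := conjClassAction (P : Subgroup G) x
  have : Fintype {v : G // IsConj x v} := Fintype.ofFinite _
  have hstage2 := sum_eq_card_mul_of_action (Q := (P : Subgroup G)) (X := {v : G // IsConj x v})
    (MemLocalIdeal M) (memLocalIdeal_zero hMp) (fun a b ha hb => memLocalIdeal_add hMp ha hb)
    (fun v => ∑ c : (P : Subgroup G), (χ : G → ℂ) ((v : G) * (c : G))) ?_ ?_
  · obtain ⟨s', hs', hsum⟩ := hstage2
    -- the identity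
    have hid : ∑ v : {v : G // IsConj x v}, ∑ c : (P : Subgroup G),
        (χ : G → ℂ) ((v : G) * (c : G)) = centralChar (χ : G → ℂ) x * (χ : G → ℂ) 1 := by
      rw [Finset.sum_comm]
      have h1 : ∀ c : (P : Subgroup G), ∑ v : {v : G // IsConj x v},
          (χ : G → ℂ) ((v : G) * (c : G)) = centralChar (χ : G → ℂ) x * (χ : G → ℂ) c := by
        intro c
        rw [← omega_classInd hcf x, ← sum_mul_char_mul χ.2 (classInd_isClassFunction x) (c : G)]
        rw [← Finset.sum_subtype (Finset.univ.filter (fun v : G => IsConj x v)) (by simp)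
          (fun v => (χ : G → ℂ) (v * (c : G))), Finset.sum_filter]
        refine Finset.sum_congr rfl fun v _ => ?_
        unfold classInd
        split_ifs <;> simp
      rw [Finset.sum_congr rfl (fun c _ => h1 c), ← Finset.mul_sum]
      congr 1
      rw [Finset.sum_eq_single (1 : (P : Subgroup G))]
      · rfl
      · intro c _ hc
        apply Cfsg.Agent.Lib.Helper74.dz_vanish χ p hp
        · rw [← hdeg]
          exact Nat.ordProj_dvd _ _
        · obtain ⟨n, hn⟩ := P.isPGroup' c
          have hc1 : (c : G) ≠ 1 := fun h => hc (Subtype.ext h)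
          have h2 : orderOf (c : G) ∣ p ^ n := by
            apply orderOf_dvd_of_pow_eq_one
            have := congrArg Subtype.val hn
            simpa using this
          obtain ⟨j, -, hj⟩ := (Nat.dvd_prime_pow hp).mp h2
          rw [hj]
          have hj0 : j ≠ 0 := by
            intro h0
            rw [h0, pow_zero, orderOf_eq_one_iff] at hj
            exact hc1 hj
          exact dvd_pow_self p hj0
      · intro h; exact absurd (Finset.mem_univ _) h
    rw [hid] at hsum
    -- |P| divides χ(1) with p'-cofactor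
    have hPcard : Nat.card (P : Subgroup G) = p ^ (Nat.card G).factorization p := P.card_eq_multiplicity
    have hdd : p ^ (Nat.card G).factorization p ∣ d := by
      rw [← hdeg, hd2]
      exact Nat.ordProj_dvd d p
    obtain ⟨m', hm'⟩ := hdd
    have hpm' : ¬ p ∣ m' := by
      intro h
      have h1 : p ^ ((Nat.card G).factorization p + 1) ∣ d := by
        rw [hm', pow_succ]
        exact Nat.mul_dvd_mul_left _ h
      have h2 := (Nat.Prime.pow_dvd_iff_le_factorization hp hd0.ne').mp h1
      rw [← hd2, hdeg] at h2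
      omega
    have hP0 : (Nat.card (P : Subgroup G) : ℂ) ≠ 0 := Nat.cast_ne_zero.mpr Nat.card_pos.ne'
    have hfin : centralChar (χ : G → ℂ) x * (m' : ℂ) = s' := by
      apply mul_left_cancel₀ hP0
      rw [← hsum, hd1, hm', hPcard]
      push_cast
      ring
    have hm'J : MemLocalIdeal M (m' : ℂ) := by
      apply memLocalIdeal_of_mul_of_not_memLocalIdeal hMp (memLocalRing_centralChar hMp χ.2 x) hx
      rw [hfin]
      exact hs'
    exact hpm' ((memLocalIdeal_natCast_iff hM m').mp hm'J)
  · -- invariance
    intro b v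
    show ∑ c : (P : Subgroup G), (χ : G → ℂ) (((b • v : {v : G // IsConj x v}) : G) * (c : G)) =
      ∑ c : (P : Subgroup G), (χ : G → ℂ) ((v : G) * (c : G))
    have hbv : ((b • v : {v : G // IsConj x v}) : G) = (b : G) * (v : G) * (b : G)⁻¹ := rfl
    rw [hbv]
    refine Fintype.sum_equiv (MulAut.conj b⁻¹).toEquiv _ _ ?_
    intro c
    have h1 : (((MulAut.conj b⁻¹).toEquiv c : (P : Subgroup G)) : G) =
        (b : G)⁻¹ * (c : G) * (b : G) := by
      simp [MulAut.conj_apply]
    rw [h1]
    have h2 : (b : G) * (v : G) * (b : G)⁻¹ * (c : G) =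
        (b : G) * ((v : G) * ((b : G)⁻¹ * (c : G) * (b : G))) * (b : G)⁻¹ := by group
    rw [h2, hcf]
  · -- stabilizers are trivial
    intro v
    refine ⟨_, hstage1 v v.2, ?_⟩
    have hstab : Nat.card (stabilizer (P : Subgroup G) v) = 1 := by
      have hpg : IsPGroup p (stabilizer (P : Subgroup G) v) := P.isPGroup'.to_subgroup _
      obtain ⟨n, hn⟩ := IsPGroup.iff_card.mp hpg
      -- embed in the centralizer of `v`
      have hmem : ∀ b : (P : Subgroup G), b ∈ stabilizer (P : Subgroup G) v →
          (b : G) ∈ Subgroup.centralizer ({(v : G)} : Set G) := by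
        intro b hb
        rw [mem_stabilizer_iff] at hb
        have h1 : (b : G) * (v : G) * (b : G)⁻¹ = (v : G) := congrArg Subtype.val hb
        rw [Subgroup.mem_centralizer_singleton_iff]
        calc (b : G) * (v : G) = (b : G) * (v : G) * (b : G)⁻¹ * (b : G) := by group
          _ = (v : G) * (b : G) := by rw [h1]
      let f : stabilizer (P : Subgroup G) v →* Subgroup.centralizer ({(v : G)} : Set G) :=
        { toFun := fun b => ⟨((b : (P : Subgroup G)) : G), hmem b.1 b.2⟩
          map_one' := rfl
          map_mul' := fun _ _ => rfl }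
      have hf : Function.Injective f := by
        intro q r hqr
        have : ((q : (P : Subgroup G)) : G) = ((r : (P : Subgroup G)) : G) :=
          congrArg (fun z : Subgroup.centralizer ({(v : G)} : Set G) => (z : G)) hqr
        exact Subtype.ext (Subtype.ext this)
      have hdvd := Subgroup.card_dvd_of_injective f hf
      obtain ⟨g, hg⟩ := isConj_iff.mp v.2
      rw [← hg, Cfsg.Agent.S0957.card_centralizer_conj] at hdvd
      rw [hn] at hdvd ⊢
      by_contra hne
      have hn0 : n ≠ 0 := by
        intro h0
        rw [h0, pow_zero] at hne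
        exact hne rfl
      exact hC ((dvd_pow_self p hn0).trans hdvd)
    rw [hstab, Nat.cast_one, one_mul]

end Cfsg.Agent.Lib.Helper16
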