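import Cfsg.Agent.Lib.Helper16.Green3
import Cfsg.Agent.Lib.Helper16.NormalDefect
import Cfsg.Agent.S0941

/-!
# Green's theorem: the case of a normal defect group
-/

set_option autoImplicit false

namespace Cfsg.Agent.Lib.Helper16

open Cfsg MulAction Cfsg.Agent.Lib.Helper77 Cfsg.Agent.Lib.Helper81
open scoped ComplexConjugate

universe u

/-- Green's theorem when the defect group `D` is normal. -/
theorem green_normal {G : Type u} [Group G] [Finite G] (p : ℕ) [Fact p.Prime]
    (M : Ideal AlgInt) (hM : IsPModular p M) (B : Set (IrrCharacter G)) (hB : IsPBlock M B)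
    (D : Subgroup G) [hDn : D.Normal] (hD : IsDefectGroup p M B D) (P : Sylow p G) :
    ∃ x : G, ¬ p ∣ orderOf x ∧ (∀ u ∈ D, u * x = x * u) ∧
      (Nat.card (Subgroup.centralizer ({x} : Set G))).factorization p =
        (Nat.card D).factorization p ∧
      (P : Subgroup G) ⊓ (P : Subgroup G).map (MulAut.conj x).toMonoidHom = D := by
  classical
  have := Fintype.ofFinite G
  have := Fintype.ofFinite (G ⧸ D)
  have hp : p.Prime := Fact.out
  have hMp : M.IsPrime := isPrime_of_isPModular hM
  obtain ⟨χ, hχB, hχker, hχdeg⟩ := exists_ker_height_zero p M hM D B hB hD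
  have hcardD := Cfsg.Agent.S0908.result p M hM B hB D hD
  have hDp : IsPGroup p D := IsPGroup.of_card hcardD
  obtain ⟨y, hy, S, hDS⟩ := hD
  have hyreg := isPRegular_of_isDefectClass p M hM hB hy
  have hDle : D ≤ Subgroup.centralizer ({y} : Set G) := by
    rw [hDS]
    intro u hu
    obtain ⟨u', -, rfl⟩ := Subgroup.mem_map.mp hu
    exact u'.2
  have hcomm : ∀ u ∈ D, u * y = y * u := by
    intro u hu
    have := hDle hu
    rw [Subgroup.mem_centralizer_singleton_iff] at this
    exact this
  -- valuation of the centralizer of `y`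
  have hvalC : (Nat.card (Subgroup.centralizer ({y} : Set G))).factorization p =
      (Nat.card D).factorization p := by
    rw [val_centralizer_of_isDefectClass p M hM hB hy, hcardD, blockDefect_eq]
    simp [hp.factorization]
  -- deflate
  obtain ⟨ξ, hξirr, hξval⟩ := Cfsg.Agent.Lib.Helper79.isIrrCharacter_deflate χ.2 D hχker
  have hdeg' : charDegree ξ = charDegree (χ : G → ℂ) := by
    unfold charDegree
    have := hξval 1
    rw [QuotientGroup.mk_one] at this
    rw [this]
  have hcardq : Nat.card G = Nat.card (G ⧸ D) * Nat.card D :=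
    Subgroup.card_eq_card_quotient_mul_card_subgroup D
  have hfac : (Nat.card G).factorization p =
      (Nat.card (G ⧸ D)).factorization p + (Nat.card D).factorization p := by
    rw [hcardq, Nat.factorization_mul Nat.card_pos.ne' Nat.card_pos.ne']
    rfl
  have hdz : (charDegree ((⟨ξ, hξirr⟩ : IrrCharacter (G ⧸ D)) : G ⧸ D → ℂ)).factorization p =
      (Nat.card (G ⧸ D)).factorization p := by
    show (charDegree ξ).factorization p = _
    rw [hdeg']
    omega
  -- centralizer of the image of `y`
  have hidx := Cfsg.Agent.S0941.index_centralizer_quotient p D hDp y hyreg hcomm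
  have hCq : ¬ p ∣ Nat.card (Subgroup.centralizer ({(y : G ⧸ D)} : Set (G ⧸ D))) := by
    have h1 := Subgroup.index_mul_card (Subgroup.centralizer ({(y : G ⧸ D)} : Set (G ⧸ D)))
    have h2 := Subgroup.index_mul_card (Subgroup.centralizer ({y} : Set G))
    rw [hidx] at h1
    have hi0 : (Subgroup.centralizer ({y} : Set G)).index ≠ 0 := Subgroup.index_ne_zero_of_finite
    have h3 : Nat.card (Subgroup.centralizer ({(y : G ⧸ D)} : Set (G ⧸ D))) * Nat.card D =
        Nat.card (Subgroup.centralizer ({y} : Set G)) := by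
      apply Nat.eq_of_mul_eq_mul_left (Nat.pos_of_ne_zero hi0)
      rw [h2, hcardq, ← h1]
      ring
    have h4 := congrArg (fun n => n.factorization p) h3
    beta_reduce at h4
    rw [Nat.factorization_mul Nat.card_pos.ne' Nat.card_pos.ne', Finsupp.add_apply, hvalC] at h4
    have h5 : (Nat.card (Subgroup.centralizer ({(y : G ⧸ D)} : Set (G ⧸ D)))).factorization p = 0 := by
      omega
    intro hdvd
    have := (Nat.Prime.dvd_iff_one_le_factorization hp Nat.card_pos.ne').mp hdvd
    omega
  have hcc : ¬ MemLocalIdeal M (centralChar ((⟨ξ, hξirr⟩ : IrrCharacter (G ⧸ D)) : G ⧸ D → ℂ)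
      (y : G ⧸ D)) := by
    have h1 : centralChar ξ (y : G ⧸ D) = centralChar (χ : G → ℂ) y := by
      unfold centralChar
      rw [hidx, hξval y]
      have := hξval 1
      rw [QuotientGroup.mk_one] at this
      rw [this]
    show ¬ MemLocalIdeal M (centralChar ξ (y : G ⧸ D))
    rw [h1]
    exact hy.2.2 χ hχB
  obtain ⟨gq, hgq⟩ := green_defect_zero hM (⟨ξ, hξirr⟩ : IrrCharacter (G ⧸ D)) hdz (y : G ⧸ D)
    hCq hcc (P.mapSurjective (QuotientGroup.mk'_surjective D))
  obtain ⟨g, rfl⟩ := QuotientGroup.mk_surjective gq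
  rw [Sylow.coe_mapSurjective] at hgq
  refine ⟨g * y * g⁻¹, ?_, ?_, ?_, ?_⟩
  · have := orderOf_injective (MulAut.conj g).toMonoidHom (MulAut.conj g).injective y
    have h2 : (MulAut.conj g).toMonoidHom y = g * y * g⁻¹ := by simp [MulAut.conj_apply]
    rw [h2] at this
    rw [this]
    exact hyreg
  · intro u hu
    have h1 : g⁻¹ * u * g ∈ D := by
      have := hDn.conj_mem u hu g⁻¹
      simpa using this
    have h2 := hcomm _ h1
    calc u * (g * y * g⁻¹) = g * ((g⁻¹ * u * g) * y) * g⁻¹ := by group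
      _ = g * (y * (g⁻¹ * u * g)) * g⁻¹ := by rw [h2]
      _ = g * y * g⁻¹ * u := by group
  · rw [Cfsg.Agent.S0957.card_centralizer_conj, hvalC]
  · apply le_antisymm
    · intro r hr
      obtain ⟨hr1, hr2⟩ := Subgroup.mem_inf.mp hr
      rw [mem_map_conj_iff] at hr2
      have h1 : (r : G ⧸ D) ∈ ((P : Subgroup G).map (QuotientGroup.mk' D)) ⊓
          ((P : Subgroup G).map (QuotientGroup.mk' D)).map
            (MulAut.conj ((g : G ⧸ D) * (y : G ⧸ D) * (g : G ⧸ D)⁻¹)).toMonoidHom := by
        refine Subgroup.mem_inf.mpr ⟨Subgroup.mem_map_of_mem _ hr1, ?_⟩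
        rw [mem_map_conj_iff]
        have : ((g : G ⧸ D) * (y : G ⧸ D) * (g : G ⧸ D)⁻¹)⁻¹ * (r : G ⧸ D) *
            ((g : G ⧸ D) * (y : G ⧸ D) * (g : G ⧸ D)⁻¹) =
            (QuotientGroup.mk' D) ((g * y * g⁻¹)⁻¹ * r * (g * y * g⁻¹)) := by
          simp
        rw [this]
        exact Subgroup.mem_map_of_mem _ hr2
      rw [hgq, Subgroup.mem_bot] at h1
      exact (QuotientGroup.eq_one_iff r).mp h1
    · have hDP : D ≤ (P : Subgroup G) := hDp.le_sylow_of_normal P
      intro u hu
      refine Subgroup.mem_inf.mpr ⟨hDP hu, ?_⟩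
      rw [mem_map_conj_iff]
      apply hDP
      have := hDn.conj_mem u hu (g * y * g⁻¹)⁻¹
      simpa using this

end Cfsg.Agent.Lib.Helper16
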