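import Mathlib.Algebra.MonoidAlgebra.Basic
import Mathlib.Algebra.MonoidAlgebra.Module
import Mathlib.RingTheory.LocalRing.Basic
import Mathlib.RingTheory.LocalRing.MaximalIdeal.Basic
import Mathlib.RingTheory.LocalRing.ResidueField.Basic
import Mathlib.RingTheory.Ideal.GoingUp
import Mathlib.RingTheory.Finiteness.Basic
import Mathlib.Algebra.CharP.Lemmas
import Mathlib.GroupTheory.PGroup

/-!
# The group ring of a finite abelian `p`-group over a local ring of residue characteristic `p`
is local
-/

set_option autoImplicit false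

namespace Cfsg.Agent.Lib.Helper16

open MonoidAlgebra

variable {S : Type*} [CommRing S] {Q : Type*} [CommGroup Q]

/-- The augmentation map of the group ring. -/
noncomputable def aug (S : Type*) [CommRing S] (Q : Type*) [CommGroup Q] :
    MonoidAlgebra S Q →ₐ[S] S :=
  MonoidAlgebra.lift S S Q 1

@[simp] theorem aug_of (c : Q) : aug S Q (MonoidAlgebra.of S Q c) = 1 := by
  simp [aug]

@[simp] theorem aug_single (c : Q) (s : S) : aug S Q (MonoidAlgebra.single c s) = s := by
  simp [aug]

theorem aug_surjective : Function.Surjective (aug S Q) := fun s =>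
  ⟨MonoidAlgebra.single 1 s, aug_single 1 s⟩

instance [Finite Q] : Module.Finite S (MonoidAlgebra S Q) :=
  Module.Finite.of_basis (MonoidAlgebra.basis Q S)

/-- In a maximal ideal containing `p`, every `of c - 1` with `c` of `p`-power order lies in it. -/
theorem of_sub_one_mem {p : ℕ} [Fact p.Prime] {I : Ideal (MonoidAlgebra S Q)} [I.IsPrime]
    (hpI : (p : MonoidAlgebra S Q) ∈ I) (c : Q) {n : ℕ} (hc : c ^ (p ^ n) = 1) :
    MonoidAlgebra.of S Q c - 1 ∈ I := by
  obtain ⟨r, hr⟩ := exists_add_pow_prime_pow_eq (Fact.out : p.Prime)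
    (MonoidAlgebra.of S Q c - 1) 1 n
  rw [sub_add_cancel, ← map_pow, hc, map_one, one_pow] at hr
  have h2 : (MonoidAlgebra.of S Q c - 1) ^ p ^ n =
      - ((p : MonoidAlgebra S Q) * ((MonoidAlgebra.of S Q c - 1) * 1 * r)) := by
    have : (MonoidAlgebra.of S Q c - 1) ^ p ^ n + (1 +
        (p : MonoidAlgebra S Q) * (MonoidAlgebra.of S Q c - 1) * 1 * r) = 1 := by
      rw [← add_assoc]; exact hr.symm
    linear_combination this
  have h3 : (MonoidAlgebra.of S Q c - 1) ^ p ^ n ∈ I := by
    rw [h2]
    exact I.neg_mem (I.mul_mem_right _ hpI)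
  exact Ideal.IsPrime.mem_of_pow_mem inferInstance _ h3

/-- The group ring of a finite abelian `p`-group over a local ring in which `p` is not a unit is a
local ring. -/
theorem isLocalRing_monoidAlgebra [IsLocalRing S] [Finite Q] (p : ℕ) [Fact p.Prime]
    (hp : (p : S) ∈ IsLocalRing.maximalIdeal S) (hQ : IsPGroup p Q) :
    IsLocalRing (MonoidAlgebra S Q) := by
  have : Algebra.IsIntegral S (MonoidAlgebra S Q) := Algebra.IsIntegral.of_finite S _
  let π : MonoidAlgebra S Q →+* IsLocalRing.ResidueField S :=
    (IsLocalRing.residue S).comp (aug S Q : MonoidAlgebra S Q →+* S)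
  have hπ : Function.Surjective π :=
    (IsLocalRing.residue_surjective).comp aug_surjective
  have hmax : (RingHom.ker π).IsMaximal := RingHom.ker_isMaximal_of_surjective π hπ
  apply IsLocalRing.of_unique_max_ideal
  refine ⟨RingHom.ker π, hmax, ?_⟩
  intro I hI
  have : I.IsMaximal := hI
  symm
  apply hmax.eq_of_le hI.ne_top
  -- the contraction of `I` to `S` is the maximal ideal
  have hcomap : I.comap (algebraMap S (MonoidAlgebra S Q)) = IsLocalRing.maximalIdeal S :=
    IsLocalRing.eq_maximalIdeal (Ideal.isMaximal_comap_of_isIntegral_of_isMaximal I)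
  have hS : ∀ s ∈ IsLocalRing.maximalIdeal S, algebraMap S (MonoidAlgebra S Q) s ∈ I := by
    intro s hs
    rw [← hcomap] at hs
    exact hs
  have hpI : (p : MonoidAlgebra S Q) ∈ I := by
    have := hS _ hp
    simpa using this
  have hof : ∀ c : Q, MonoidAlgebra.of S Q c - 1 ∈ I := by
    intro c
    obtain ⟨n, hn⟩ := hQ c
    exact of_sub_one_mem hpI c hn
  have hall : ∀ a : MonoidAlgebra S Q,
      a - algebraMap S (MonoidAlgebra S Q) (aug S Q a) ∈ I := by
    intro a
    induction a using MonoidAlgebra.induction_on with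
    | of c =>
      rw [aug_of, map_one]
      exact hof c
    | add x y hx hy =>
      rw [map_add, map_add]
      have := I.add_mem hx hy
      convert this using 1
      ring
    | smul r x hx =>
      rw [map_smul, smul_eq_mul, map_mul, ← Algebra.smul_def, ← smul_sub]
      exact Submodule.smul_of_tower_mem I r hx
  intro a ha
  rw [RingHom.mem_ker] at ha
  have h1 : aug S Q a ∈ IsLocalRing.maximalIdeal S := by
    rw [← IsLocalRing.residue_eq_zero_iff]
    exact ha
  have := I.add_mem (hall a) (hS _ h1)
  rwa [sub_add_cancel] at this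

end Cfsg.Agent.Lib.Helper16
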