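import Cfsg.Agent.Lib.Helper16.TraceSpectral
import Mathlib.LinearAlgebra.Matrix.ToLin
import Mathlib.LinearAlgebra.StdBasis

/-!
# The trace argument on the regular module of a finite group

`G` is a finite group, `Q` a finite abelian group mapped to `G` by `j`, and `τ : G ≃ T × Q` a
trivialisation of the right action of `Q` on `G`.  Then `G → S` becomes the free `S[Q]`-module
`T → S[Q]`, and operators on `G → S` commuting with the right translations by `Q` become
`S[Q]`-linear.
-/

set_option autoImplicit false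
set_option linter.unusedSectionVars false

namespace Cfsg.Agent.Lib.Helper16

open MonoidAlgebra

variable {S : Type*} [CommRing S] {G : Type*} [Group G] [Fintype G] [DecidableEq G]
  {Q : Type*} [CommGroup Q] [Fintype Q] [DecidableEq Q] {T : Type*} [Fintype T] [DecidableEq T]

/-- The trivialisation as a linear equivalence. -/
noncomputable def thetaEquiv (S : Type*) [CommRing S] (τ : G ≃ T × Q) :
    (T → MonoidAlgebra S Q) ≃ₗ[S] (G → S) where
  toFun v g := (v (τ g).1).coeff (τ g).2
  invFun φ t := ∑ c : Q, MonoidAlgebra.single c (φ (τ.symm (t, c)))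
  map_add' v w := by
    funext g
    simp
  map_smul' s v := by
    funext g
    simp
  left_inv v := by
    funext t
    apply MonoidAlgebra.ext
    ext c'
    simp
  right_inv φ := by
    funext g
    simp [Finsupp.single_apply]

theorem thetaEquiv_apply (τ : G ≃ T × Q) (v : T → MonoidAlgebra S Q) (g : G) :
    thetaEquiv S τ v g = (v (τ g).1).coeff (τ g).2 := rfl

/-- Right translation on functions. -/
noncomputable def opR (S : Type*) [CommRing S] (a : G) : Module.End S (G → S) :=
  LinearMap.funLeft S S (fun g => g * a)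

@[simp] theorem opR_apply (a : G) (φ : G → S) (g : G) : opR S a φ g = φ (g * a) := rfl

/-- Two-sided translation on functions. -/
noncomputable def opW (S : Type*) [CommRing S] (x y : G) : Module.End S (G → S) :=
  LinearMap.funLeft S S (fun g => x⁻¹ * g * y)

@[simp] theorem opW_apply (x y : G) (φ : G → S) (g : G) : opW S x y φ g = φ (x⁻¹ * g * y) := rfl

/-- Left multiplication by the group ring element with coefficient function `e`. -/
noncomputable def opE (e : G → S) : Module.End S (G → S) :=
  ∑ h : G, e h • LinearMap.funLeft S S (fun g => h⁻¹ * g)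

@[simp] theorem opE_apply (e : G → S) (φ : G → S) (g : G) :
    opE e φ g = ∑ h : G, e h * φ (h⁻¹ * g) := by
  simp [opE, LinearMap.sum_apply, LinearMap.funLeft_apply]

theorem opW_pow (x y : G) (n : ℕ) : (opW S x y) ^ n = opW S (x ^ n) (y ^ n) := by
  induction n with
  | zero =>
    refine LinearMap.ext fun φ => funext fun g => ?_
    simp [opW]
  | succ n ih =>
    rw [pow_succ, ih]
    refine LinearMap.ext fun φ => funext fun g => ?_
    simp only [Module.End.mul_apply, opW_apply]
    congr 1
    rw [pow_succ, pow_succ, mul_inv_rev]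
    simp only [mul_assoc]

theorem opW_pow_eq_one {x y : G} {r : ℕ} (hx : x ^ r = 1) (hy : y ^ r = 1) :
    (opW S x y) ^ r = 1 := by
  rw [opW_pow, hx, hy]
  refine LinearMap.ext fun φ => funext fun g => ?_
  simp [opW]

theorem opW_comm_opR {x y a : G} (h : y * a = a * y) :
    opW S x y * opR S a = opR S a * opW S x y := by
  refine LinearMap.ext fun φ => funext fun g => ?_
  simp only [Module.End.mul_apply, opW_apply, opR_apply]
  congr 1
  simp only [mul_assoc, h]

theorem opE_comm_opR (e : G → S) (a : G) : opE e * opR S a = opR S a * opE e := by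
  refine LinearMap.ext fun φ => funext fun g => ?_
  simp only [Module.End.mul_apply, opE_apply, opR_apply, mul_assoc]

theorem opW_comm_opE {e : G → S} (he : ∀ g h : G, e (h * g * h⁻¹) = e g) (x y : G) :
    Commute (opW S x y) (opE e) := by
  refine LinearMap.ext fun φ => funext fun g => ?_
  simp only [Module.End.mul_apply, opE_apply, opW_apply]
  refine Fintype.sum_equiv (MulAut.conj x).toEquiv _ _ ?_
  intro h
  simp only [MulEquiv.toEquiv_eq_coe, MulEquiv.coe_toEquiv, MulAut.conj_apply]
  rw [he]
  congr 2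
  group

theorem opE_idem {e : G → S} (he : ∀ g : G, ∑ h : G, e h * e (h⁻¹ * g) = e g) :
    IsIdempotentElem (opE e) := by
  refine LinearMap.ext fun φ => funext fun g => ?_
  simp only [Module.End.mul_apply, opE_apply]
  simp_rw [Finset.mul_sum]
  rw [Finset.sum_comm]
  have : ∀ k : G, ∑ h : G, e h * (e k * φ (k⁻¹ * (h⁻¹ * g))) =
      ∑ h : G, e h * (e (h⁻¹ * (h * k)) * φ ((h * k)⁻¹ * g)) := by
    intro k
    refine Finset.sum_congr rfl fun h _ => ?_
    rw [inv_mul_cancel_left, mul_inv_rev, mul_assoc]
  simp_rw [this]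
  rw [Finset.sum_comm]
  have h2 : ∀ h : G, ∑ k : G, e h * (e (h⁻¹ * (h * k)) * φ ((h * k)⁻¹ * g)) =
      ∑ m : G, e h * (e (h⁻¹ * m) * φ (m⁻¹ * g)) := by
    intro h
    exact Fintype.sum_equiv (Equiv.mulLeft h) _ _ fun k => rfl
  simp_rw [h2]
  rw [Finset.sum_comm]
  refine Finset.sum_congr rfl fun m _ => ?_
  rw [← he m, Finset.sum_mul]
  refine Finset.sum_congr rfl fun h _ => ?_
  ring

/-- The trace of `opR a * opW x y * opE e`. -/
theorem trace_opR_opW_opE (e : G → S) (a x y : G) :
    LinearMap.trace S (G → S) (opR S a * opW S x y * opE e) =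
      ∑ g : G, e (x⁻¹ * (g * a) * y * g⁻¹) := by
  rw [LinearMap.trace_eq_matrix_trace S (Pi.basisFun S G), Matrix.trace]
  refine Finset.sum_congr rfl fun g _ => ?_
  rw [Matrix.diag_apply, LinearMap.toMatrix_apply, Pi.basisFun_repr, Pi.basisFun_apply]
  simp only [Module.End.mul_apply, opR_apply, opW_apply, opE_apply]
  rw [Finset.sum_eq_single (x⁻¹ * (g * a) * y * g⁻¹)]
  · rw [Pi.single_apply, if_pos, mul_one]
    group
  · intro h _ hne
    rw [Pi.single_apply, if_neg, mul_zero]
    intro hh
    apply hne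
    rw [inv_mul_eq_iff_eq_mul] at hh
    rw [hh]
    group
  · intro h
    exact absurd (Finset.mem_univ _) h

section Lift

variable (j : Q →* G) (τ : G ≃ T × Q)

theorem thetaEquiv_of_smul (hτ : ∀ g c, τ (g * j c) = ((τ g).1, (τ g).2 * c)) (c : Q)
    (v : T → MonoidAlgebra S Q) :
    thetaEquiv S τ (MonoidAlgebra.of S Q c • v) = opR S (j c)⁻¹ (thetaEquiv S τ v) := by
  funext g
  rw [thetaEquiv_apply, opR_apply, thetaEquiv_apply, Pi.smul_apply, smul_eq_mul,
    MonoidAlgebra.of_apply, MonoidAlgebra.coeff_single_mul_apply, one_mul]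
  have := hτ g c⁻¹
  rw [map_inv] at this
  rw [this, mul_comm]

/-- An `S`-linear operator on `G → S` commuting with the right translations by `Q` gives an
`S[Q]`-linear operator on `T → S[Q]`. -/
noncomputable def liftEnd (hτ : ∀ g c, τ (g * j c) = ((τ g).1, (τ g).2 * c))
    (f : Module.End S (G → S)) (hf : ∀ c : Q, f * opR S (j c)⁻¹ = opR S (j c)⁻¹ * f) :
    Module.End (MonoidAlgebra S Q) (T → MonoidAlgebra S Q) where
  toFun v := (thetaEquiv S τ).symm (f (thetaEquiv S τ v))
  map_add' v w := by simp
  map_smul' r v := by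
    simp only [RingHom.id_apply]
    induction r using MonoidAlgebra.induction_on with
    | of c =>
      rw [thetaEquiv_of_smul j τ hτ]
      have := congrArg (fun F : Module.End S (G → S) => F (thetaEquiv S τ v)) (hf c)
      simp only [Module.End.mul_apply] at this
      rw [this]
      apply (thetaEquiv S τ).injective
      rw [LinearEquiv.apply_symm_apply, thetaEquiv_of_smul j τ hτ, LinearEquiv.apply_symm_apply]
    | add x y hx hy => rw [add_smul, map_add, map_add, map_add, hx, hy, add_smul]
    | smul s x hx => rw [smul_assoc, map_smul, map_smul, map_smul, hx, smul_assoc]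

theorem liftEnd_apply (hτ : ∀ g c, τ (g * j c) = ((τ g).1, (τ g).2 * c))
    (f : Module.End S (G → S)) (hf : ∀ c : Q, f * opR S (j c)⁻¹ = opR S (j c)⁻¹ * f)
    (v : T → MonoidAlgebra S Q) :
    liftEnd j τ hτ f hf v = (thetaEquiv S τ).symm (f (thetaEquiv S τ v)) := rfl

theorem liftEnd_pow_apply (hτ : ∀ g c, τ (g * j c) = ((τ g).1, (τ g).2 * c))
    (f : Module.End S (G → S)) (hf : ∀ c : Q, f * opR S (j c)⁻¹ = opR S (j c)⁻¹ * f)
    (n : ℕ) (v : T → MonoidAlgebra S Q) :
    (liftEnd j τ hτ f hf ^ n) v = (thetaEquiv S τ).symm ((f ^ n) (thetaEquiv S τ v)) := by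
  induction n generalizing v with
  | zero => simp
  | succ n ih =>
    rw [pow_succ, Module.End.mul_apply, ih, liftEnd_apply, LinearEquiv.apply_symm_apply,
      pow_succ, Module.End.mul_apply]

/-- The core vanishing statement. -/
theorem sum_eq_zero_of_isLocalRing [IsLocalRing (MonoidAlgebra S Q)]
    (hτ : ∀ g c, τ (g * j c) = ((τ g).1, (τ g).2 * c))
    {e : G → S} (he : ∀ g h : G, e (h * g * h⁻¹) = e g)
    (he2 : ∀ g : G, ∑ h : G, e h * e (h⁻¹ * g) = e g)
    {x y : G} {r : ℕ} (hr : 0 < r) (hx : x ^ r = 1) (hy : y ^ r = 1)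
    (hyQ : ∀ c : Q, y * (j c)⁻¹ = (j c)⁻¹ * y)
    {ζ θ ρ : S} (hζθ : ζ * θ = 1) (hρ : (r : S) * ρ = 1) (hθ : θ ^ r = 1)
    (horth : ∀ i, 0 < i → i < r → ∑ k ∈ Finset.range r, (θ ^ i) ^ k = 0)
    {c : Q} (hc : c ≠ 1) :
    ∑ g : G, e (x⁻¹ * (g * (j c)⁻¹) * y * g⁻¹) = 0 := by
  rw [← trace_opR_opW_opE]
  set E' := liftEnd j τ hτ (opE e) (fun c => opE_comm_opR e _) with hE'
  set W' := liftEnd j τ hτ (opW S x y) (fun c => opW_comm_opR (hyQ c)) with hW'
  have hE'idem : IsIdempotentElem E' := by
    refine LinearMap.ext fun v => ?_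
    rw [Module.End.mul_apply, hE', liftEnd_apply, liftEnd_apply, LinearEquiv.apply_symm_apply]
    have := congrArg (fun F : Module.End S (G → S) => F (thetaEquiv S τ v)) (opE_idem he2).eq
    simp only [Module.End.mul_apply] at this
    rw [this]
  have hWE : Commute W' E' := by
    refine LinearMap.ext fun v => ?_
    rw [Module.End.mul_apply, Module.End.mul_apply, hE', hW', liftEnd_apply, liftEnd_apply,
      liftEnd_apply, liftEnd_apply, LinearEquiv.apply_symm_apply, LinearEquiv.apply_symm_apply]
    have := congrArg (fun F : Module.End S (G → S) => F (thetaEquiv S τ v))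
      (opW_comm_opE he x y).eq
    simp only [Module.End.mul_apply] at this
    rw [this]
  have hW'r : W' ^ r = 1 := by
    refine LinearMap.ext fun v => ?_
    rw [hW', liftEnd_pow_apply, opW_pow_eq_one hx hy]
    simp
  have key := trace_smul_mul_idem_eq_zero hE'idem hWE hr hW'r hζθ hρ hθ horth hc
  have hconj : ((LinearMap.lsmul (MonoidAlgebra S Q) (T → MonoidAlgebra S Q)
      (MonoidAlgebra.of S Q c)).comp (W' * E')).restrictScalars S =
      (thetaEquiv S τ).symm.conj (opR S (j c)⁻¹ * opW S x y * opE e) := by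
    refine LinearMap.ext fun v => ?_
    rw [LinearEquiv.conj_apply]
    simp only [LinearMap.coe_restrictScalars, LinearMap.coe_comp, Function.comp_apply,
      LinearMap.lsmul_apply, Module.End.mul_apply, LinearEquiv.coe_coe, LinearEquiv.symm_symm]
    rw [hE', hW', liftEnd_apply, liftEnd_apply, LinearEquiv.apply_symm_apply]
    apply (thetaEquiv S τ).injective
    rw [thetaEquiv_of_smul j τ hτ, LinearEquiv.apply_symm_apply, LinearEquiv.apply_symm_apply]
  rw [hconj, LinearMap.trace_conj'] at key
  exact key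

end Lift

end Cfsg.Agent.Lib.Helper16
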