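import Cfsg.Agent.Lib.Helper74.PReg6
import Cfsg.Agent.Lib.Helper74.PReg4
import Cfsg.Agent.Lib.Helper16.DefectVal

/-!
# Constituents of height zero with multiplicity prime to `p`
-/

set_option autoImplicit false

open Cfsg
open scoped ComplexConjugate

namespace Cfsg.Agent.Lib.Helper16

open Cfsg.Agent.Lib.Helper74 Cfsg.Agent.Lib.Helper81

universe u

/-- If `[χ'~, ψ] / ψ(1)` is a local unit for a member `ψ` of height zero of the block `b`, then
the character `χ'` has a constituent of height zero in `b` with multiplicity prime to `p`. -/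
theorem exists_height_zero_constituent {H : Type u} [Group H] [Fintype H] (p : ℕ) [Fact p.Prime]
    (M : Ideal AlgInt) (hM : IsPModular p M) (b : Set (IrrCharacter H))
    (χ' : H → ℂ) (hχ' : IsCharacter H χ') (ψ : IrrCharacter H) (hψ : ψ ∈ b)
    (hb : b = blockOf M (ψ : H → ℂ))
    (hψ0 : blockHeight p b (ψ : H → ℂ) = 0)
    (hunit : ¬ MemLocalIdeal M (classInner (pTilde p χ') (ψ : H → ℂ) / (ψ : H → ℂ) 1)) :
    ∃ ξ ∈ b, blockHeight p b (ξ : H → ℂ) = 0 ∧ ∃ n : ℕ,
      classInner χ' (ξ : H → ℂ) = (n : ℂ) ∧ ¬ p ∣ n := by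
  classical
  have := Fintype.ofFinite (IrrCharacter H)
  have hp : p.Prime := Fact.out
  have hMp : M.IsPrime := isPrime_of_isPModular hM
  set bf := Finset.univ.filter (fun ξ : IrrCharacter H => ξ ∈ b) with hbf
  obtain ⟨m, hm, hdecomp⟩ := Cfsg.Agent.Lib.Helper15.exists_nat_decomp hχ'
  have h2 : classInner (pTilde p χ') (ψ : H → ℂ) =
      ∑ ξ ∈ bf, (m ξ : ℂ) * classInner (pTilde p (ξ : H → ℂ)) (ψ : H → ℂ) := by
    have hχ'fun : χ' = fun x => ∑ ξ ∈ (Finset.univ : Finset (IrrCharacter H)),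
        (m ξ : ℂ) * (ξ : H → ℂ) x := by
      funext x
      conv_lhs => rw [hdecomp]
      simp [Finset.sum_apply]
    conv_lhs => rw [hχ'fun]
    rw [pTilde_sum, Cfsg.Agent.Lib.Helper25.classInner_sum_left, hbf, Finset.sum_filter]
    apply Finset.sum_congr rfl
    intro ξ _
    rw [Cfsg.Agent.Lib.Helper25.classInner_smul_left]
    split_ifs with hξ
    · rfl
    · have hns : ¬ SameBlock M (ξ : H → ℂ) (ψ : H → ℂ) := by
        intro hs
        apply hξ
        rw [hb]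
        exact sameBlock_symm hs
      rw [pTilde_eq_zero_of_not_sameBlock p M hM ξ ψ hns, mul_zero]
  have hint : ∀ ξ : IrrCharacter H, ∃ t : ℤ,
      classInner (pTilde p (ξ : H → ℂ)) (ψ : H → ℂ) = (t : ℂ) := fun ξ => pTilde_int p ξ ψ
  choose t ht using hint
  obtain ⟨dψ, hdψ0, hdψ1, hdψc, -⟩ := irr_degree_spec ψ
  have ha : dψ.factorization p = minDegVal p b := by
    rw [blockHeight_eq, hdψc] at hψ0
    have := minDegVal_le p hψ
    rw [hdψc] at this
    omega
  set T : ℤ := ∑ ξ ∈ bf, (m ξ : ℤ) * t ξ with hT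
  have hTc : classInner (pTilde p χ') (ψ : H → ℂ) = (T : ℂ) := by
    rw [h2, hT]
    push_cast
    refine Finset.sum_congr rfl fun ξ _ => ?_
    rw [ht]
  have hdvdt : ∀ ξ : IrrCharacter H, ((p ^ dψ.factorization p : ℕ) : ℤ) ∣ t ξ := by
    intro ξ
    have := pTilde_dvd_right p ξ ψ (t ξ) (ht ξ)
    rwa [hdψc] at this
  have hdvdT : ((p ^ dψ.factorization p : ℕ) : ℤ) ∣ T := by
    apply Finset.dvd_sum
    intro ξ _
    exact Dvd.dvd.mul_left (hdvdt ξ) _
  have hiff := memLocalIdeal_div_iff hM dψ hdψ0.ne' T hdvdT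
  rw [hTc, hdψ1] at hunit
  have hnd : ¬ ((p ^ (dψ.factorization p + 1) : ℕ) : ℤ) ∣ T := fun h => hunit (hiff.mpr h)
  have hex : ∃ ξ ∈ bf, ¬ ((p ^ (dψ.factorization p + 1) : ℕ) : ℤ) ∣ (m ξ : ℤ) * t ξ := by
    by_contra hcon
    push Not at hcon
    exact hnd (Finset.dvd_sum hcon)
  obtain ⟨ξ, hξbf, hξnd⟩ := hex
  have hξb : ξ ∈ b := (Finset.mem_filter.mp hξbf).2
  refine ⟨ξ, hξb, ?_, m ξ, hm ξ, ?_⟩
  · -- height zero
    have h1 := pTilde_dvd_left p ξ ψ (t ξ) (ht ξ)
    rw [blockHeight_eq]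
    by_contra hne
    have h3 : dψ.factorization p + 1 ≤ (charDegree (ξ : H → ℂ)).factorization p := by
      rw [ha]; omega
    apply hξnd
    apply Dvd.dvd.mul_left
    refine dvd_trans ?_ h1
    have : p ^ (dψ.factorization p + 1) ∣ p ^ (charDegree (ξ : H → ℂ)).factorization p :=
      pow_dvd_pow p h3
    exact_mod_cast this
  · intro hpm
    apply hξnd
    have h4 : ((p ^ (dψ.factorization p + 1) : ℕ) : ℤ) =
        (p : ℤ) * ((p ^ dψ.factorization p : ℕ) : ℤ) := by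
      push_cast
      rw [pow_succ]
      ring
    rw [h4]
    exact mul_dvd_mul (by exact_mod_cast hpm) (hdvdt ξ)

end Cfsg.Agent.Lib.Helper16
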