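import Cfsg.Agent.Lib.Helper16.PC7
import Cfsg.Agent.Lib.Helper77.InducedOmega
import Cfsg.Agent.Lib.Helper77.DefectConj
import Cfsg.Agent.Lib.Helper76.CentralChar
import Cfsg.Agent.Lib.Helper3.Ortho

/-!
# A character vanishing on the elements of order `p` has a trivial defect group
-/

set_option autoImplicit false

open Cfsg
open scoped ComplexConjugate

namespace Cfsg.Agent.Lib.Helper16

open Cfsg.Agent.Lib.Helper77 Cfsg.Agent.Lib.Helper80 Cfsg.Agent.Lib.Helper81

universe u

/-- In `L = P C_G(P)` the subgroup `P` together with its centralizer generates `L`. -/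
theorem subgroupOf_sup_centralizer_eq_top {G : Type u} [Group G] (P L : Subgroup G)
    (hL : L = P ⊔ Subgroup.centralizer (P : Set G)) :
    P.subgroupOf L ⊔ Subgroup.centralizer ((P.subgroupOf L : Subgroup L) : Set L) = ⊤ := by
  have hPL : P ≤ L := by rw [hL]; exact le_sup_left
  have hCL : Subgroup.centralizer (P : Set G) ≤ L := by rw [hL]; exact le_sup_right
  rw [eq_top_iff]
  intro l _
  have hK : L ≤ (P.subgroupOf L ⊔
      Subgroup.centralizer ((P.subgroupOf L : Subgroup L) : Set L)).map L.subtype := by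
    refine hL.le.trans ?_
    apply sup_le
    · intro u hu
      refine ⟨⟨u, hPL hu⟩, ?_, rfl⟩
      exact (le_sup_left : P.subgroupOf L ≤ _) (Subgroup.mem_subgroupOf.mpr hu)
    · intro c hc
      refine ⟨⟨c, hCL hc⟩, ?_, rfl⟩
      apply (le_sup_right : Subgroup.centralizer ((P.subgroupOf L : Subgroup L) : Set L) ≤ _)
      rw [Subgroup.mem_centralizer_iff]
      intro x hx
      apply Subtype.ext
      exact Subgroup.mem_centralizer_iff.mp hc (x : G) (Subgroup.mem_subgroupOf.mp hx)
  obtain ⟨l', hl', hll'⟩ := hK l.2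
  have : l' = l := Subtype.ext hll'
  rw [← this]
  exact hl'

/-- The key contradiction, with `L = D C_G(D)` abstracted. -/
theorem false_of_vanish_aux {G : Type u} [Group G] [Fintype G] (p : ℕ) [Fact p.Prime]
    (M : Ideal AlgInt) (hM : IsPModular p M) (χ : IrrCharacter G)
    (hvan : ∀ g : G, orderOf g = p → (χ : G → ℂ) g = 0)
    (D L : Subgroup G) [Fintype L] (hLeq : L = D ⊔ Subgroup.centralizer (D : Set G))
    (b : Set (IrrCharacter L)) (hbD : IsDefectGroup p M b (D.subgroupOf L))
    (hind : IsInducedBlock M L b (blockOf M (χ : G → ℂ)))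
    (z : G) (hzD : z ∈ D) (hzc : ∀ u ∈ D, u * z = z * u) (hz : orderOf z = p) : False := by
  classical
  have hp : p.Prime := Fact.out
  have hMp : M.IsPrime := isPrime_of_isPModular hM
  have := Fintype.ofFinite (IrrCharacter L)
  have := Fintype.ofFinite (D.subgroupOf L)
  have := Fintype.ofFinite (IrrCharacter (D.subgroupOf L))
  have hDL : D ≤ L := by rw [hLeq]; exact le_sup_left
  have hzL : z ∈ L := hDL hzD
  -- `z` is central in `L`
  have hzcent : (⟨z, hzL⟩ : L) ∈ Subgroup.center L := by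
    rw [Subgroup.mem_center_iff]
    intro l
    have hle : L ≤ Subgroup.centralizer ({z} : Set G) := by
      rw [hLeq]
      apply sup_le
      · intro u hu
        rw [Subgroup.mem_centralizer_iff]
        intro w hw
        rw [Set.mem_singleton_iff.mp hw]
        exact (hzc u hu).symm
      · intro c hc
        rw [Subgroup.mem_centralizer_iff]
        intro w hw
        rw [Set.mem_singleton_iff.mp hw]
        exact Subgroup.mem_centralizer_iff.mp hc z hzD
    have h1 := Subgroup.mem_centralizer_iff.mp (hle l.2) z (Set.mem_singleton z)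
    apply Subtype.ext
    exact h1.symm
  have hG' := subgroupOf_sup_centralizer_eq_top D L hLeq
  have hDLp : IsPGroup p (D.subgroupOf L) := isPGroup_of_isDefectGroup hbD
  have hz1 : z ≠ 1 := by
    intro h
    rw [h, orderOf_one] at hz
    exact hp.one_lt.ne hz
  -- a character of `D` not trivial at `z`
  set zD : D.subgroupOf L := ⟨⟨z, hzL⟩, Subgroup.mem_subgroupOf.mpr hzD⟩ with hzDdef
  have hzD1 : zD ≠ 1 := by
    intro h
    apply hz1
    have h' : (((zD : D.subgroupOf L) : L) : G) = (((1 : D.subgroupOf L) : L) : G) := by rw [h]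
    exact h'
  obtain ⟨μ, hμ⟩ : ∃ μ : IrrCharacter (D.subgroupOf L),
      (μ : D.subgroupOf L → ℂ) zD ≠ (μ : D.subgroupOf L → ℂ) 1 := by
    by_contra hcon
    push Not at hcon
    have h1 := Cfsg.Agent.Lib.Helper3.column_orthogonality zD (1 : D.subgroupOf L)
    rw [if_neg (by rw [isConj_one_left]; exact hzD1)] at h1
    have h2 : ∑ μ : IrrCharacter (D.subgroupOf L), (μ : D.subgroupOf L → ℂ) zD *
        conj ((μ : D.subgroupOf L → ℂ) 1) = (Nat.card (D.subgroupOf L) : ℂ) := by
      rw [← Cfsg.Agent.Lib.Helper3.sum_sq_degree (G := D.subgroupOf L)]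
      refine Finset.sum_congr rfl fun μ _ => ?_
      rw [hcon μ]
      obtain ⟨d, -, hd, -, -⟩ := irr_degree_spec μ
      rw [hd, Complex.conj_natCast]
      ring
    rw [h2] at h1
    exact (Nat.cast_ne_zero.mpr Nat.card_pos.ne') h1
  -- the member of `b` over `μ`
  obtain ⟨ψ₀, hψ₀⟩ := hind.1
  rw [hψ₀] at hbD
  obtain ⟨ψ, hψ⟩ := exists_fiber_eq_singleton (D.subgroupOf L) hM hDLp hG' ψ₀ hbD μ
  have hψmem : ψ ∈ ((Finset.univ.filter
      (fun θ : IrrCharacter L => θ ∈ blockOf M (ψ₀ : L → ℂ))).filter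
      (fun θ => LiesOver (D.subgroupOf L) θ μ)) := by rw [hψ]; exact Finset.mem_singleton_self _
  have hψb : ψ ∈ b := by
    rw [hψ₀]
    exact (Finset.mem_filter.mp (Finset.mem_filter.mp hψmem).1).2
  have hlo : LiesOver (D.subgroupOf L) ψ μ := (Finset.mem_filter.mp hψmem).2
  have hψ1 : (ψ : L → ℂ) 1 ≠ 0 := Cfsg.Agent.Lib.Helper77.irr_one_ne_zero ψ.2
  have hμ1 : (μ : D.subgroupOf L → ℂ) 1 ≠ 0 := Cfsg.Agent.Lib.Helper77.irr_one_ne_zero μ.2
  have hom : Cfsg.Agent.Lib.Helper76.om ψ ⟨z, hzL⟩ ≠ 1 := by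
    intro h
    unfold Cfsg.Agent.Lib.Helper76.om at h
    rw [div_eq_one_iff_eq hψ1] at h
    have h1 := hlo zD
    have h2 : ((zD : D.subgroupOf L) : L) = ⟨z, hzL⟩ := rfl
    rw [h2, h] at h1
    apply hμ
    apply mul_right_cancel₀ hψ1
    rw [← h1]
    ring
  -- the test function
  set a : G → ℂ := fun g => if g ^ p = 1 then 1 else 0 with ha
  have haZS : ZS M a := by
    refine ⟨?_, fun g => ?_⟩
    · intro g h
      simp only [ha]
      have : (h * g * h⁻¹) ^ p = 1 ↔ g ^ p = 1 := by
        rw [conj_pow]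
        constructor
        · intro h1
          have := congrArg (fun t => h⁻¹ * t * h) h1
          simpa [mul_assoc] using this
        · intro h1
          rw [h1]; simp
      simp only [this]
    · simp only [ha]
      split_ifs
      · exact memLocalRing_one hMp
      · exact memLocalRing_zero hMp
  have hχB : χ ∈ blockOf M (χ : G → ℂ) := sameBlock_refl hMp _
  have hkey := memLocalIdeal_omega_restrict_sub hMp L hind hψb hχB haZS
  -- the value at `χ`
  have hχ1 : (χ : G → ℂ) 1 ≠ 0 := Cfsg.Agent.Lib.Helper77.irr_one_ne_zero χ.2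
  have h1 : omega (χ : G → ℂ) a = 1 := by
    unfold omega
    rw [div_eq_one_iff_eq hχ1, Finset.sum_eq_single (1 : G)]
    · simp [ha]
    · intro g _ hg
      simp only [ha]
      split_ifs with hgp
      · have hdvd : orderOf g ∣ p := orderOf_dvd_of_pow_eq_one hgp
        rcases (Nat.dvd_prime hp).mp hdvd with h | h
        · exact absurd (orderOf_eq_one_iff.mp h) hg
        · rw [hvan g h, mul_zero]
      · rw [zero_mul]
    · intro h
      exact absurd (Finset.mem_univ _) h
  -- the value at `ψ`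
  have h2 : omega (ψ : L → ℂ) (fun l : L => a l) = 0 := by
    unfold omega
    rw [div_eq_zero_iff]
    left
    set S₀ := ∑ l : L, a (l : G) * (ψ : L → ℂ) l with hS₀
    have h3 : S₀ = Cfsg.Agent.Lib.Helper76.om ψ ⟨z, hzL⟩ * S₀ := by
      have h4 : S₀ = ∑ l : L, a ((l * ⟨z, hzL⟩ : L) : G) * (ψ : L → ℂ) (l * ⟨z, hzL⟩) := by
        rw [hS₀]
        exact (Fintype.sum_equiv (Equiv.mulRight (⟨z, hzL⟩ : L))
          (fun l => a ((l * ⟨z, hzL⟩ : L) : G) * (ψ : L → ℂ) (l * ⟨z, hzL⟩))
          (fun l => a (l : G) * (ψ : L → ℂ) l) (fun _ => rfl)).symm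
      rw [Finset.mul_sum]
      conv_lhs => rw [h4]
      refine Finset.sum_congr rfl fun l _ => ?_
      rw [Cfsg.Agent.Lib.Helper76.irr_mul_central' ψ ⟨z, hzL⟩ hzcent l]
      have h5 : a ((l * ⟨z, hzL⟩ : L) : G) = a (l : G) := by
        simp only [ha]
        have hcomm : Commute (l : G) z := by
          have := Subgroup.mem_center_iff.mp hzcent l
          exact (congrArg Subtype.val this)
        have hzp : z ^ p = 1 := by rw [← hz]; exact pow_orderOf_eq_one z
        have : ((l : G) * z) ^ p = (l : G) ^ p := by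
          rw [hcomm.mul_pow, hzp, mul_one]
        simp only [Subgroup.coe_mul, this]
      rw [h5]
      ring
    have h6 : (1 - Cfsg.Agent.Lib.Helper76.om ψ ⟨z, hzL⟩) * S₀ = 0 := by
      rw [sub_mul, one_mul, ← h3, sub_self]
    rcases mul_eq_zero.mp h6 with h7 | h7
    · exact absurd (sub_eq_zero.mp h7).symm hom
    · exact h7
  rw [h1, h2, zero_sub] at hkey
  have := memLocalIdeal_neg hkey
  rw [neg_neg] at this
  exact not_memLocalIdeal_one hMp this

end Cfsg.Agent.Lib.Helper16
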