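import Cfsg.Agent.Lib.Helper16.PC7
import Cfsg.Agent.Lib.Helper16.NormalDefect
import Cfsg.Agent.Lib.Helper16.VanishP
import Cfsg.Agent.Lib.Helper15.LinearChar
import Cfsg.Agent.Lib.Helper74.PReg4
import Cfsg.Agent.Lib.Helper76.CentralChar
import Cfsg.Agent.Lib.Helper77.DefectConj

/-!
# Height zero characters of `P C_G(P)` lie over linear characters of `P` (helper16)
-/

set_option autoImplicit false

namespace Cfsg.Agent.Lib.Helper16

open Cfsg Cfsg.Agent.Lib.Helper74 Cfsg.Agent.Lib.Helper76 Cfsg.Agent.Lib.Helper77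
  Cfsg.Agent.Lib.Helper81
open scoped ComplexConjugate

universe u

/-- `H = Q C_H(Q)`, `b` a block of `H` with defect group `Q`, `ξ ∈ b` of height zero: the
restriction of `ξ` to `Q` is a multiple of a linear character. -/
theorem exists_hom_of_height_zero {H : Type u} [Group H] [Finite H] (p : ℕ) [Fact p.Prime]
    (M : Ideal AlgInt) (hM : IsPModular p M) (Q : Subgroup H)
    (hG : Q ⊔ Subgroup.centralizer (Q : Set H) = ⊤) (b : Set (IrrCharacter H))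
    (hb : IsPBlock M b) (hQ : IsDefectGroup p M b Q) (ξ : IrrCharacter H) (hξ : ξ ∈ b)
    (h0 : blockHeight p b (ξ : H → ℂ) = 0) :
    ∃ μ : Q →* ℂˣ, ∀ u : Q, (ξ : H → ℂ) (u : H) = ((μ u : ℂˣ) : ℂ) * (ξ : H → ℂ) 1 := by
  classical
  have := Fintype.ofFinite H
  have := Fintype.ofFinite (IrrCharacter H)
  have := Fintype.ofFinite Q
  have := Fintype.ofFinite (IrrCharacter Q)
  have hp : p.Prime := Fact.out
  have hQp : IsPGroup p Q := isPGroup_of_isDefectGroup hQ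
  have hQn : Q.Normal := normal_of_sup_centralizer_eq_top Q hG
  obtain ⟨χ₀, rfl⟩ := hb
  obtain ⟨θ, hθb, hθker, hθdeg⟩ := exists_ker_height_zero p M hM Q _ ⟨χ₀, rfl⟩ hQ
  obtain ⟨μ, hμ⟩ := exists_liesOver Q hG ξ
  have hdeg := degree_eq_of_liesOver Q hM hQp hG χ₀ hQ θ hθb hθker ξ hξ μ hμ
  obtain ⟨dμ, hdμ0, hdμ1, hdμc, hdμdvd⟩ := irr_degree_spec μ
  obtain ⟨dθ, hdθ0, hdθ1, hdθc, _⟩ := irr_degree_spec θ
  obtain ⟨dξ, hdξ0, hdξ1, hdξc, _⟩ := irr_degree_spec ξ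
  have hnat : dξ = dμ * dθ := by
    rw [hdξ1, hdμ1, hdθ1] at hdeg
    exact_mod_cast hdeg
  have hinf := sInf_le_of_mem p (blockOf M (χ₀ : H → ℂ)) θ hθb
  unfold blockHeight at h0
  rw [hdξc] at h0
  rw [hdθc] at hinf
  have hle : dξ.factorization p ≤ dθ.factorization p := by omega
  rw [hnat, Nat.factorization_mul hdμ0.ne' hdθ0.ne'] at hle
  have hμ0 : dμ.factorization p = 0 := by
    simp only [Finsupp.coe_add, Pi.add_apply] at hle
    omega
  obtain ⟨k, hk⟩ := hQp.exists_card_eq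
  rw [hk] at hdμdvd
  obtain ⟨j, hj, rfl⟩ := (Nat.dvd_prime_pow hp).1 hdμdvd
  have hj0 : j = 0 := by
    rwa [hp.factorization_pow, Finsupp.single_eq_same] at hμ0
  subst hj0
  have hμ1 : (μ : Q → ℂ) 1 = 1 := by rw [hdμ1]; simp
  have hlin : IsCharacter Q (μ : Q → ℂ) ∧ (μ : Q → ℂ) 1 = 1 :=
    ⟨Cfsg.Agent.Lib.Helper3.IsIrrCharacter.isCharacter μ.2, hμ1⟩
  refine ⟨Cfsg.Agent.Lib.Helper15.linCharUnitsHom hlin, fun u => ?_⟩
  rw [Cfsg.Agent.Lib.Helper15.linCharUnitsHom_apply]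
  have h := hμ u
  rw [hμ1, mul_one] at h
  exact h

/-- A central element acts by the same scalar on `χ` and on every constituent of a restriction
of `χ`. -/
theorem om_eq_of_classInner_ne_zero {G : Type u} [Group G] [Fintype G] (L : Subgroup G)
    [Fintype L] (χ : IrrCharacter G) (ξ : IrrCharacter L) (z : G)
    (hz : z ∈ Subgroup.center G) (hzL : z ∈ L)
    (hne : classInner (fun h : L => (χ : G → ℂ) h) (ξ : L → ℂ) ≠ 0) :
    (ξ : L → ℂ) ⟨z, hzL⟩ / (ξ : L → ℂ) 1 = (χ : G → ℂ) z / (χ : G → ℂ) 1 := by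
  have hz' : (⟨z, hzL⟩ : L) ∈ Subgroup.center L := by
    rw [Subgroup.mem_center_iff]
    intro l
    apply Subtype.ext
    exact Subgroup.mem_center_iff.1 hz l
  set S : ℂ := ∑ h : L, (χ : G → ℂ) h * conj ((ξ : L → ℂ) h) with hS
  have hS0 : S ≠ 0 := by
    intro h
    apply hne
    unfold classInner
    rw [← hS, h, mul_zero]
  have h1 : S = om χ z * conj (om ξ ⟨z, hzL⟩) * S := by
    rw [hS, Finset.mul_sum]
    rw [← Equiv.sum_comp (Equiv.mulRight (⟨z, hzL⟩ : L))]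
    apply Finset.sum_congr rfl
    intro h _
    simp only [Equiv.coe_mulRight]
    rw [irr_mul_central' ξ ⟨z, hzL⟩ hz' h]
    have : ((h * ⟨z, hzL⟩ : L) : G) = (h : G) * z := rfl
    rw [this, irr_mul_central' χ z hz (h : G), map_mul]
    ring
  have h2 : om χ z * conj (om ξ ⟨z, hzL⟩) = 1 := by
    have h3 : (om χ z * conj (om ξ ⟨z, hzL⟩) - 1) * S = 0 := by
      rw [sub_mul, one_mul, ← h1, sub_self]
    rcases mul_eq_zero.1 h3 with h4 | h4
    · exact sub_eq_zero.1 h4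
    · exact absurd h4 hS0
  rw [om_conj] at h2
  have h5 := om_mul_inv ξ ⟨z, hzL⟩ hz'
  have h6 : om χ z = om ξ ⟨z, hzL⟩ := by
    calc om χ z = om χ z * (om ξ ⟨z, hzL⟩ * om ξ (⟨z, hzL⟩ : L)⁻¹) := by rw [h5, mul_one]
      _ = (om χ z * om ξ (⟨z, hzL⟩ : L)⁻¹) * om ξ ⟨z, hzL⟩ := by ring
      _ = om ξ ⟨z, hzL⟩ := by rw [h2, one_mul]
  exact h6.symm

end Cfsg.Agent.Lib.Helper16
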