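import Cfsg.Agent.S4661
import Cfsg.Agent.Lib.Helper52.PairUp
import Cfsg.Agent.Lib.Helper52.Subpairs
import Cfsg.Agent.Lib.Helper52.DefectPairs
import Cfsg.Agent.Lib.Helper77.NilA
import Cfsg.Agent.Lib.Helper77.FusA
import Cfsg.Agent.Lib.Helper77.BPairG
import Cfsg.Agent.Lib.Helper77.BPairJ
import Cfsg.Agent.Lib.Helper77.BPairM
import Cfsg.Agent.Lib.Helper77.BPairK
import Cfsg.Agent.Lib.Helper77.BrauerPair
import Cfsg.Agent.Lib.Helper77.TransportDefect
import Cfsg.Agent.Lib.Helper77.DefectConj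
import Cfsg.Agent.Lib.Helper77.ExtFirstMain

/-!
# Inducing a block from a subgroup containing the centralizer of its defect group (helper16)

If `b` is a block of `H ≤ G` with defect group `D₀` and `C_G(D₀) ≤ H`, then `b` induces a block
of `G` having a defect group `D ≥ D₀` with `D ∩ C_G(D₀) ≤ D₀`.
-/

set_option autoImplicit false

namespace Cfsg.Agent.Lib.Helper16

open Cfsg Cfsg.Agent.Lib.Helper77 Cfsg.Agent.Lib.Helper81
open scoped Pointwise

universe u

variable {G : Type u} [Group G]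

/-- A Brauer pair of `B` on a defect group `D`: the block has defect group `Z(D)`. -/
theorem center_isDefectGroup_of_top_pair [Fintype G] {p : ℕ} [Fact p.Prime] {M : Ideal AlgInt}
    (hpM : IsPModular p M) {B : Set (IrrCharacter G)} {D : Subgroup G}
    {f : Set (IrrCharacter (Subgroup.centralizer (D : Set G)))}
    (hD : IsDefectGroup p M B D) (hDf : IsBrauerPairOf p M B D f) :
    IsDefectGroup p M f ((D ⊓ Subgroup.centralizer (D : Set G)).subgroupOf
      (Subgroup.centralizer (D : Set G))) := by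
  have hmax := isMaximalBrauerPair_of_isDefectGroup hpM hDf hD
  obtain ⟨-, x, hle, hdef⟩ := Cfsg.Agent.S4661.result p M hpM B D D f f hmax le_rfl hDf.1.2
    Relation.ReflTransGen.refl
  have h1 : D.map (MulAut.conj x).toMonoidHom ≤ D :=
    Cfsg.Agent.Lib.Helper52.Subpairs.le_of_reflTransGen hle
  have h2 : D.map (MulAut.conj x).toMonoidHom = D := by
    apply Subgroup.eq_of_le_of_card_ge h1
    rw [Subgroup.card_map_of_injective (MulAut.conj x).injective]
  have h3 : D ⊓ Subgroup.centralizer ((D.map (MulAut.conj x).toMonoidHom : Subgroup G) : Set G) =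
      D.map (MulAut.conj x).toMonoidHom ⊓
        Subgroup.centralizer ((D.map (MulAut.conj x).toMonoidHom : Subgroup G) : Set G) := by
    rw [h2]
  apply isDefectGroup_of_conjBlock x
  rw [← h3]
  exact hdef

/-- Transport of block induction along an equality of subgroups. -/
theorem isInducedBlock_of_eq {M : Ideal AlgInt} {K₁ K₂ : Subgroup G} (h : K₁ = K₂)
    {b₁ : Set (IrrCharacter K₁)} {B : Set (IrrCharacter G)}
    (hind : IsInducedBlock M K₁ b₁ B) :
    IsInducedBlock M K₂ (irrMap (MulEquiv.subgroupCongr h.symm) '' b₁) B := by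
  subst h
  have h1 : irrMap (MulEquiv.subgroupCongr (rfl : K₁ = K₁)) '' b₁ = b₁ := by
    have h2 : ∀ ξ : IrrCharacter K₁, irrMap (MulEquiv.subgroupCongr (rfl : K₁ = K₁)) ξ = ξ := by
      intro ξ
      apply Subtype.ext
      funext c
      rw [irrMap_apply]
      rfl
    ext ξ
    constructor
    · rintro ⟨ξ', hξ', rfl⟩
      rw [h2]
      exact hξ'
    · intro hξ
      exact ⟨ξ, hξ, h2 ξ⟩
  rw [h1]
  exact hind

/-- **Main lemma.** -/
theorem induced_defect_main [Fintype G] (p : ℕ) [Fact p.Prime] (M : Ideal AlgInt)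
    (hpM : IsPModular p M) (H : Subgroup G) (b : Set (IrrCharacter H)) (hb : IsPBlock M b)
    (D₀ : Subgroup H) (hD₀ : IsDefectGroup p M b D₀)
    (hC : Subgroup.centralizer ((D₀.map H.subtype : Subgroup G) : Set G) ≤ H) :
    ∃ B : Set (IrrCharacter G), IsInducedBlock M H b B ∧ ∃ D : Subgroup G,
      IsDefectGroup p M B D ∧ D₀.map H.subtype ≤ D ∧
      D ⊓ Subgroup.centralizer ((D₀.map H.subtype : Subgroup G) : Set G) ≤ D₀.map H.subtype := by
  classical
  have hM : M.IsPrime := isPrime_of_isPModular hpM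
  have := Fintype.ofFinite H
  obtain ⟨g', hg'⟩ := exists_isBrauerPairOf_of_isDefectGroup hpM hb hD₀
  have hZ₀ := center_isDefectGroup_of_top_pair hpM hD₀ hg'
  have hP₀p : IsPGroup p (D₀.map H.subtype) := hg'.1.1.map _
  have hf : IsPBlock M (irrMap (centEquiv D₀ hC) '' g') := isPBlock_irrMap_image _ hg'.1.2
  obtain ⟨B₁, hB₁, -⟩ := existsUnique_isBrauerPairOf hpM
    (⟨hP₀p, hf⟩ : IsBrauerPair p M (D₀.map H.subtype) (irrMap (centEquiv D₀ hC) '' g'))
  have hind1 := isInducedBlock_of_isBrauerPairOf hpM hB₁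
  have hindH := isInducedBlock_of_isBrauerPairOf hpM hg'
  -- the two copies of the centralizer inside `H`
  have heq : Subgroup.centralizer (D₀ : Set H) =
      (Subgroup.centralizer ((D₀.map H.subtype : Subgroup G) : Set G)).subgroupOf H := by
    ext h
    rw [Subgroup.mem_subgroupOf, Subgroup.mem_centralizer_iff, Subgroup.mem_centralizer_iff]
    constructor
    · rintro hh _ ⟨d, hd, rfl⟩
      exact congrArg Subtype.val (hh d hd)
    · intro hh d hd
      apply Subtype.ext
      exact hh (d : G) ⟨d, hd, rfl⟩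
  have h1 : IsInducedBlock M
      ((Subgroup.centralizer ((D₀.map H.subtype : Subgroup G) : Set G)).subgroupOf H)
      (irrMap (Subgroup.subgroupOfEquivOfLe hC) '' (irrMap (centEquiv D₀ hC) '' g')) b := by
    have h2 := isInducedBlock_of_eq heq hindH
    have h3 : irrMap (Subgroup.subgroupOfEquivOfLe hC) '' (irrMap (centEquiv D₀ hC) '' g') =
        irrMap (MulEquiv.subgroupCongr heq.symm) '' g' := by
      rw [Set.image_image]
      apply Set.image_congr
      intro ξ _
      apply Subtype.ext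
      funext c
      rw [irrMap_apply, irrMap_apply, irrMap_apply]
      rfl
    rw [h3]
    exact h2
  have hind : IsInducedBlock M H b B₁ := isInducedBlock_of_trans hM hC h1 hind1
  refine ⟨B₁, hind, ?_⟩
  -- a maximal pair above
  obtain ⟨D, e, hmax, hle⟩ := exists_isMaximalBrauerPair_ge (p := p) (M := M) (B := B₁) _
    (D₀.map H.subtype) (irrMap (centEquiv D₀ hC) '' g') rfl hB₁
  have hDdef := isDefectGroup_of_isMaximalBrauerPair hpM hmax
  have hP₀D : D₀.map H.subtype ≤ D := Cfsg.Agent.Lib.Helper52.Subpairs.le_of_reflTransGen hle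
  obtain ⟨D_f, hD_f, hle_f⟩ :=
    Cfsg.Agent.Lib.Helper52.DefectPairs.exists_isDefectGroup_ge_inf_centralizer hpM hmax.1.1 hP₀D hle
  refine ⟨D, hDdef, hP₀D, ?_⟩
  -- the defect group of the lifted block
  have hZf := isDefectGroup_irrMap_image (centEquiv D₀ hC) hZ₀
  obtain ⟨ξ₀, hξ₀⟩ := hf
  rw [hξ₀] at hD_f hZf
  obtain ⟨y, hy⟩ := exists_conj_le_of_isDefectGroup hpM ξ₀ hZf hD_f
  intro z hz
  have hzC : z ∈ Subgroup.centralizer ((D₀.map H.subtype : Subgroup G) : Set G) := hz.2
  have hzD : (⟨z, hzC⟩ : Subgroup.centralizer ((D₀.map H.subtype : Subgroup G) : Set G)) ∈ D_f :=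
    hle_f (Subgroup.mem_subgroupOf.mpr hz)
  have h4 : y * ⟨z, hzC⟩ * y⁻¹ ∈ MulAut.conj y • D_f :=
    Subgroup.smul_mem_pointwise_smul _ _ _ hzD
  have h5 := hy h4
  rw [Subgroup.mem_comap, Subgroup.mem_subgroupOf] at h5
  -- `y z y⁻¹` lies in `Z(D₀)`, hence commutes with `y`
  have h6 : (((centEquiv D₀ hC).toMonoidHom
      (y * ⟨z, hzC⟩ * y⁻¹) : Subgroup.centralizer (D₀ : Set H)) : H) ∈ D₀ := h5.1
  have h7 : ((y * ⟨z, hzC⟩ * y⁻¹ :
      Subgroup.centralizer ((D₀.map H.subtype : Subgroup G) : Set G)) : G) ∈ D₀.map H.subtype :=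
    ⟨_, h6, rfl⟩
  have h8 : (y : G) * z * (y : G)⁻¹ ∈ D₀.map H.subtype := h7
  have h9 : (y : G)⁻¹ * ((y : G) * z * (y : G)⁻¹) = ((y : G) * z * (y : G)⁻¹) * (y : G)⁻¹ :=
    ((Subgroup.mem_centralizer_iff.mp (Subgroup.inv_mem _ y.2)) _ h8).symm
  have h10 : z = (y : G) * z * (y : G)⁻¹ := by
    calc z = (y : G)⁻¹ * ((y : G) * z * (y : G)⁻¹) * (y : G) := by group
      _ = ((y : G) * z * (y : G)⁻¹) * (y : G)⁻¹ * (y : G) := by rw [h9]
      _ = (y : G) * z * (y : G)⁻¹ := by group
  rw [h10]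
  exact h8

end Cfsg.Agent.Lib.Helper16
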