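import Cfsg.Agent.Lib.Helper16.KerTop
import Cfsg.Agent.Lib.Helper16.InducedDefect
import Cfsg.Agent.Lib.Helper77.AbLocal

/-!
# The kernel condition on all Brauer pairs of a block (helper16)
-/

set_option autoImplicit false

namespace Cfsg.Agent.Lib.Helper16

open Cfsg Representation
open Cfsg.Agent.Lib.Helper77 Cfsg.Agent.Lib.Helper80 Cfsg.Agent.Lib.Helper81

universe u

variable {G : Type u} [Group G] [Finite G] {p : ℕ} [Fact p.Prime] {M : Ideal AlgInt}

/-- If `O_σ(N_G(D))` lies in the kernel of the Brauer correspondent, then `O_σ(C_G(Q))` lies in the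
kernel of `f` for every Brauer pair `(Q, f)` of `B`. -/
theorem kerP_of_isBrauerPairOf (hpM : IsPModular p M) {σ : Set ℕ} (hpσ : p ∉ σ)
    {B : Set (IrrCharacter G)} (hB : IsPBlock M B) {D : Subgroup G}
    (hBD : IsDefectGroup p M B D)
    {B₁ : Set (IrrCharacter (Subgroup.normalizer (D : Set G)))}
    (hB₁ : IsInducedBlock M (Subgroup.normalizer (D : Set G)) B₁ B)
    (hB₁D : IsDefectGroup p M B₁ (D.subgroupOf (Subgroup.normalizer (D : Set G))))
    (hker : ∀ n : Subgroup.normalizer (D : Set G),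
      n ∈ piCore σ (Subgroup.normalizer (D : Set G)) → n ∈ blockKer B₁)
    {Q : Subgroup G} {f : Set (IrrCharacter (Subgroup.centralizer (Q : Set G)))}
    (hQf : IsBrauerPairOf p M B Q f) : KerP σ (⟨Q, f⟩ : BrauerPairIdx G) := by
  classical
  have := Fintype.ofFinite G
  obtain ⟨e, hDe⟩ := exists_isBrauerPairOf_of_isDefectGroup hpM hB hBD
  have hmax := isMaximalBrauerPair_of_isDefectGroup hpM hDe hBD
  have htop := (kerP_top_iff hpM hpσ hB hBD hB₁ hB₁D hDe).mp hker
  obtain ⟨x, hle⟩ := exists_conj_subpairLE hpM hmax hQf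
  have h1 := kerP_of_le hpM hpσ hle htop
  exact (kerP_conj_iff σ Q x f).mp h1

/-- A block `b` of `H` with defect group `D₀` such that `C_G(D₀) ≤ H` is induced from a block of
`C_G(D₀)`. -/
theorem exists_centralizer_block_of_defect (hpM : IsPModular p M) (H : Subgroup G)
    (b : Set (IrrCharacter H)) (hb : IsPBlock M b)
    (D₀ : Subgroup H) (hD₀ : IsDefectGroup p M b D₀)
    (hC : Subgroup.centralizer ((D₀.map H.subtype : Subgroup G) : Set G) ≤ H) :
    ∃ f : Set (IrrCharacter (Subgroup.centralizer ((D₀.map H.subtype : Subgroup G) : Set G))),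
      IsPBlock M f ∧ IsPGroup p (D₀.map H.subtype) ∧
      IsInducedBlock M
        ((Subgroup.centralizer ((D₀.map H.subtype : Subgroup G) : Set G)).subgroupOf H)
        (irrMap (Subgroup.subgroupOfEquivOfLe hC) '' f) b := by
  classical
  have := Fintype.ofFinite G
  have hM : M.IsPrime := isPrime_of_isPModular hpM
  have := Fintype.ofFinite H
  obtain ⟨g', hg'⟩ := exists_isBrauerPairOf_of_isDefectGroup hpM hb hD₀
  have hP₀p : IsPGroup p (D₀.map H.subtype) := hg'.1.1.map _
  have hf : IsPBlock M (irrMap (centEquiv D₀ hC) '' g') := isPBlock_irrMap_image _ hg'.1.2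
  have hindH := isInducedBlock_of_isBrauerPairOf hpM hg'
  have heq : Subgroup.centralizer (D₀ : Set H) =
      (Subgroup.centralizer ((D₀.map H.subtype : Subgroup G) : Set G)).subgroupOf H := by
    ext h
    rw [Subgroup.mem_subgroupOf, Subgroup.mem_centralizer_iff, Subgroup.mem_centralizer_iff]
    constructor
    · rintro hh _ ⟨d, hd, rfl⟩
      exact congrArg Subtype.val (hh d hd)
    · intro hh d hd
      apply Subtype.ext
      exact hh (d : G) ⟨d, hd, rfl⟩
  refine ⟨irrMap (centEquiv D₀ hC) '' g', hf, hP₀p, ?_⟩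
  have h2 := isInducedBlock_of_eq heq hindH
  have h3 : irrMap (Subgroup.subgroupOfEquivOfLe hC) '' (irrMap (centEquiv D₀ hC) '' g') =
      irrMap (MulEquiv.subgroupCongr heq.symm) '' g' := by
    rw [Set.image_image]
    apply Set.image_congr
    intro ξ _
    apply Subtype.ext
    funext c
    rw [irrMap_apply, irrMap_apply, irrMap_apply]
    rfl
  rw [h3]
  exact h2

/-- **Descent to local blocks.** -/
theorem ker_of_local_block (hpM : IsPModular p M) {σ : Set ℕ} (hpσ : p ∉ σ)
    {B : Set (IrrCharacter G)} (hB : IsPBlock M B) {D : Subgroup G}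
    (hBD : IsDefectGroup p M B D)
    {B₁ : Set (IrrCharacter (Subgroup.normalizer (D : Set G)))}
    (hB₁ : IsInducedBlock M (Subgroup.normalizer (D : Set G)) B₁ B)
    (hB₁D : IsDefectGroup p M B₁ (D.subgroupOf (Subgroup.normalizer (D : Set G))))
    (hker : ∀ n : Subgroup.normalizer (D : Set G),
      n ∈ piCore σ (Subgroup.normalizer (D : Set G)) → n ∈ blockKer B₁)
    (G₀ : Subgroup G) (B₀ : Set (IrrCharacter G₀)) (hB₀ : IsInducedBlock M G₀ B₀ B)
    (D₀ : Subgroup G₀) (hD₀ : IsDefectGroup p M B₀ D₀)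
    (hC : Subgroup.centralizer ((D₀.map G₀.subtype : Subgroup G) : Set G) ≤ G₀) :
    ∀ x : G₀, x ∈ piCore σ G₀ → x ∈ blockKer B₀ := by
  classical
  have := Fintype.ofFinite G
  have hM : M.IsPrime := isPrime_of_isPModular hpM
  obtain ⟨f, hf, hP₀p, h1⟩ := exists_centralizer_block_of_defect hpM G₀ B₀ hB₀.1 D₀ hD₀ hC
  have hfB : IsInducedBlock M _ f B := isInducedBlock_trans hM hC hf h1 hB₀
  have hQf : IsBrauerPairOf p M B (D₀.map G₀.subtype) f :=
    isBrauerPairOf_of_isInducedBlock hpM hP₀p hfB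
  have hK := kerP_of_isBrauerPairOf hpM hpσ hB hBD hB₁ hB₁D hker hQf
  exact ker_up_of_induced hpM hpσ hC h1 hK

end Cfsg.Agent.Lib.Helper16
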