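import Cfsg.Agent.Lib.Helper16.KerPairs
import Cfsg.Agent.Lib.Helper62.Subnormal

/-!
# The `π'`-core of centralizers and kernels of Brauer pairs along inclusion (helper16)
-/

set_option autoImplicit false

namespace Cfsg.Agent.Lib.Helper16

open Cfsg Representation
open Cfsg.Agent.Lib.Helper77 Cfsg.Agent.Lib.Helper80 Cfsg.Agent.Lib.Helper81
open Cfsg.Agent.S4681 (centConj)

universe u

/-- The `σ`-core is preserved by group isomorphisms (one inclusion). -/
theorem comap_piCore_le {K K' : Type*} [Group K] [Group K'] [Finite K']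
    (σ : Set ℕ) (φ : K ≃* K') : (piCore σ K').comap φ.toMonoidHom ≤ piCore σ K := by
  apply Cfsg.Agent.Lib.Helper62.le_piCore
  · exact Subgroup.Normal.comap inferInstance _
  · intro q hq hdvd
    rw [card_comap_mulEquiv] at hdvd
    exact Cfsg.Agent.Lib.Helper62.isPi_piCore σ q hq hdvd

theorem mem_piCore_mulEquiv {K K' : Type*} [Group K] [Group K'] [Finite K] [Finite K']
    (σ : Set ℕ) (φ : K ≃* K') (x : K) : φ x ∈ piCore σ K' ↔ x ∈ piCore σ K := by
  constructor
  · intro h
    exact comap_piCore_le σ φ (Subgroup.mem_comap.mpr h)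
  · intro h
    have h1 : φ x ∈ (piCore σ K).comap φ.symm.toMonoidHom := by
      rw [Subgroup.mem_comap]
      show φ.symm (φ x) ∈ piCore σ K
      rw [φ.symm_apply_apply]
      exact h
    exact comap_piCore_le σ φ.symm h1

theorem not_dvd_card_piCore {K : Type*} [Group K] [Finite K] {σ : Set ℕ} {p : ℕ}
    (hp : p.Prime) (hpσ : p ∉ σ) : ¬ p ∣ Nat.card (piCore σ K) :=
  fun h => hpσ (Cfsg.Agent.Lib.Helper62.isPi_piCore σ p hp h)

/-- A normal `σ`-subgroup obtained by pulling back the core along an injective homomorphism with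
normal... : the pullback of `O_σ(K)` along an injective hom lies in `O_σ(H)`. -/
theorem comap_piCore_le_of_injective {H K : Type*} [Group H] [Group K] [Finite K]
    (σ : Set ℕ) (φ : H →* K) (hφ : Function.Injective φ) :
    (piCore σ K).comap φ ≤ piCore σ H := by
  apply Cfsg.Agent.Lib.Helper62.le_piCore
  · exact Subgroup.Normal.comap inferInstance _
  · intro q hq hdvd
    exact Cfsg.Agent.Lib.Helper62.isPi_piCore σ q hq
      (hdvd.trans (card_comap_dvd_of_injective φ hφ (piCore σ K)))

/-- Elements of the core are `σ`-elements. -/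
theorem prime_dvd_orderOf_mem_piCore {K : Type*} [Group K] [Finite K] {σ : Set ℕ} {x : K}
    (hx : x ∈ piCore σ K) : ∀ q : ℕ, q.Prime → q ∣ orderOf x → q ∈ σ := by
  intro q hq hdvd
  apply Cfsg.Agent.Lib.Helper62.isPi_piCore (G := K) σ q hq
  have h1 : orderOf (⟨x, hx⟩ : piCore σ K) = orderOf x := Subgroup.orderOf_mk x hx
  rw [← h1] at hdvd
  exact hdvd.trans (orderOf_dvd_natCard _)

variable {G : Type u} [Group G]

/-- The `σ`-core of the centralizer lies in the kernel of the block. -/
def KerP (σ : Set ℕ) (a : BrauerPairIdx G) : Prop :=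
  ∀ c : Subgroup.centralizer (a.1 : Set G),
    c ∈ piCore σ (Subgroup.centralizer (a.1 : Set G)) →
    ∀ θ ∈ a.2, (θ : Subgroup.centralizer (a.1 : Set G) → ℂ) c =
      (θ : Subgroup.centralizer (a.1 : Set G) → ℂ) 1

/-- The `σ`-core of the centralizer contains all `σ`-elements of the centralizer. -/
def HallP (σ : Set ℕ) (a : BrauerPairIdx G) : Prop :=
  ∀ c : Subgroup.centralizer (a.1 : Set G),
    (∀ q : ℕ, q.Prime → q ∣ orderOf c → q ∈ σ) →
    c ∈ piCore σ (Subgroup.centralizer (a.1 : Set G))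

/-- The core of `C_G(Q)` is invariant under conjugation by elements normalizing `Q`. -/
theorem piCore_centralizer_stable [Finite G] (σ : Set ℕ) {Q P : Subgroup G}
    (hPN : P ≤ Subgroup.normalizer (Q : Set G)) :
    ∀ q ∈ P, ∀ k k' : Subgroup.centralizer (Q : Set G), (k' : G) = q * (k : G) * q⁻¹ →
      (k ∈ piCore σ (Subgroup.centralizer (Q : Set G)) ↔
        k' ∈ piCore σ (Subgroup.centralizer (Q : Set G))) := by
  intro q hq k k' hk
  have hqN : q ∈ Subgroup.normalizer ((Subgroup.centralizer (Q : Set G) : Subgroup G) : Set G) :=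
    normalizer_le_normalizer_centralizer_of_le hPN hq
  have h1 := mem_piCore_mulEquiv σ (Cfsg.Agent.S4691.conjAut _ q hqN) k'
  have h2 : Cfsg.Agent.S4691.conjAut _ q hqN k' = k := by
    apply Subtype.ext
    rw [coe_conjAut, hk]
    group
  rw [h2] at h1
  exact h1

variable [Fintype G] {p : ℕ} [Fact p.Prime] {M : Ideal AlgInt}

theorem kerP_down (hpM : IsPModular p M) {σ : Set ℕ} (hpσ : p ∉ σ) {a b : BrauerPairIdx G}
    (h : NormalSubpairRel p M a b) (hb : KerP σ b) : KerP σ a := by
  obtain ⟨Q, f⟩ := a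
  obtain ⟨P, e⟩ := b
  have h' : IsNormalSubpair p M Q f P e := h
  have hp : p.Prime := Fact.out
  have hCK : Subgroup.centralizer (P : Set G) ≤ Subgroup.centralizer (Q : Set G) :=
    Subgroup.centralizer_le h'.2.2.1
  have key := (normalSubpair_ker_iff hpM h' (piCore σ (Subgroup.centralizer (Q : Set G)))
    (not_dvd_card_piCore hp hpσ) (piCore_centralizer_stable σ h'.2.2.2.1)).mpr
  intro c hc θ hθ
  refine key ?_ θ hθ c hc
  intro ξ hξ c' k hkc hkL
  apply hb c' _ ξ hξ
  apply comap_piCore_le_of_injective σ (Subgroup.inclusion hCK) (Subgroup.inclusion_injective hCK)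
  rw [Subgroup.mem_comap]
  have : Subgroup.inclusion hCK c' = k := Subtype.ext hkc.symm
  rw [this]
  exact hkL

theorem kerP_up (hpM : IsPModular p M) {σ : Set ℕ} (hpσ : p ∉ σ) {a b : BrauerPairIdx G}
    (h : NormalSubpairRel p M a b) (hH : HallP σ a) (hK : KerP σ a) :
    HallP σ b ∧ KerP σ b := by
  obtain ⟨Q, f⟩ := a
  obtain ⟨P, e⟩ := b
  have h' : IsNormalSubpair p M Q f P e := h
  have hp : p.Prime := Fact.out
  have hCK : Subgroup.centralizer (P : Set G) ≤ Subgroup.centralizer (Q : Set G) :=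
    Subgroup.centralizer_le h'.2.2.1
  have hinj := Subgroup.inclusion_injective hCK
  have key := (normalSubpair_ker_iff hpM h' (piCore σ (Subgroup.centralizer (Q : Set G)))
    (not_dvd_card_piCore hp hpσ) (piCore_centralizer_stable σ h'.2.2.2.1)).mp
    (fun θ hθ l hl => hK l hl θ hθ)
  have hmem : ∀ c : Subgroup.centralizer (P : Set G),
      (∀ q : ℕ, q.Prime → q ∣ orderOf c → q ∈ σ) →
      Subgroup.inclusion hCK c ∈ piCore σ (Subgroup.centralizer (Q : Set G)) := by
    intro c hc
    apply hH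
    intro q hq hdvd
    rw [orderOf_injective (Subgroup.inclusion hCK) hinj c] at hdvd
    exact hc q hq hdvd
  constructor
  · intro c hc
    apply comap_piCore_le_of_injective σ (Subgroup.inclusion hCK) hinj
    rw [Subgroup.mem_comap]
    exact hmem c hc
  · intro c hc ξ hξ
    exact key ξ hξ c (Subgroup.inclusion hCK c) rfl
      (hmem c (prime_dvd_orderOf_mem_piCore hc))

theorem kerP_of_le (hpM : IsPModular p M) {σ : Set ℕ} (hpσ : p ∉ σ) {a b : BrauerPairIdx G}
    (h : Relation.ReflTransGen (NormalSubpairRel p M) a b) (hb : KerP σ b) : KerP σ a := by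
  induction h using Relation.ReflTransGen.head_induction_on with
  | refl => exact hb
  | head h' _ ih => exact kerP_down hpM hpσ h' ih

theorem hall_kerP_of_le (hpM : IsPModular p M) {σ : Set ℕ} (hpσ : p ∉ σ)
    {a b : BrauerPairIdx G}
    (h : Relation.ReflTransGen (NormalSubpairRel p M) a b) (ha : HallP σ a ∧ KerP σ a) :
    HallP σ b ∧ KerP σ b := by
  induction h with
  | refl => exact ha
  | tail _ h' ih => exact kerP_up hpM hpσ h' ih.1 ih.2

omit [Fintype G] [Fact p.Prime] in
theorem kerP_conj_iff [Finite G] (σ : Set ℕ) (Q : Subgroup G) (x : G)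
    (f : Set (IrrCharacter (Subgroup.centralizer (Q : Set G)))) :
    KerP σ (⟨Q.map (MulAut.conj x).toMonoidHom, conjBlock Q x f⟩ : BrauerPairIdx G) ↔
      KerP σ (⟨Q, f⟩ : BrauerPairIdx G) := by
  constructor
  · intro h c hc θ hθ
    have h1 : (centConj Q x).symm c ∈ piCore σ _ := by
      rw [← mem_piCore_mulEquiv σ (centConj Q x), MulEquiv.apply_symm_apply]
      exact hc
    have h2 : irrMap (centConj Q x) θ ∈ conjBlock Q x f := by
      rw [conjBlock_eq_image]
      exact ⟨θ, hθ, rfl⟩
    have h3 := h _ h1 _ h2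
    rw [irrMap_apply, irrMap_apply, MulEquiv.apply_symm_apply, map_one] at h3
    exact h3
  · intro h c hc θ' hθ'
    rw [conjBlock_eq_image] at hθ'
    obtain ⟨θ, hθ, rfl⟩ := hθ'
    rw [irrMap_apply, irrMap_apply, map_one]
    exact h _ ((mem_piCore_mulEquiv σ (centConj Q x) c).mpr hc) θ hθ

omit [Fintype G] [Fact p.Prime] in
theorem hallP_conj_iff [Finite G] (σ : Set ℕ) (Q : Subgroup G) (x : G)
    (f : Set (IrrCharacter (Subgroup.centralizer (Q : Set G)))) :
    HallP σ (⟨Q.map (MulAut.conj x).toMonoidHom, conjBlock Q x f⟩ : BrauerPairIdx G) ↔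
      HallP σ (⟨Q, f⟩ : BrauerPairIdx G) := by
  constructor
  · intro h c hc
    have h1 := h ((centConj Q x).symm c) (by
      intro q hq hdvd
      rw [MulEquiv.orderOf_eq] at hdvd
      exact hc q hq hdvd)
    rw [← mem_piCore_mulEquiv σ (centConj Q x), MulEquiv.apply_symm_apply] at h1
    exact h1
  · intro h c hc
    rw [← mem_piCore_mulEquiv σ (centConj Q x)]
    apply h
    intro q hq hdvd
    rw [MulEquiv.orderOf_eq] at hdvd
    exact hc q hq hdvd

end Cfsg.Agent.Lib.Helper16
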