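import Cfsg.Agent.Lib.Helper77.InducedOmega
import Cfsg.Agent.Lib.Helper77.Osima
import Cfsg.Agent.Lib.Helper77.BPairG

/-!
# Kernel criterion through the averaged indicator of a normal `p'`-subgroup (helper16)

For a normal subgroup `L` of a finite group and an irreducible character `θ`, the central
character of `θ` at the idempotent `|L|⁻¹ ∑_{l ∈ L} l` is `1` or `0` according to whether `L` lies in
the kernel of `θ`.  When `p ∤ |L|` this value is constant on `p`-blocks and compatible with block
induction.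
-/

set_option autoImplicit false

namespace Cfsg.Agent.Lib.Helper16

open Cfsg Representation
open Cfsg.Agent.Lib.Helper77 Cfsg.Agent.Lib.Helper80 Cfsg.Agent.Lib.Helper81

universe u

variable {G : Type u} [Group G]

open Classical in
/-- The normalized indicator function of a subgroup: the coefficient function of
`|L|⁻¹ ∑_{l ∈ L} l`. -/
noncomputable def avgInd (L : Subgroup G) : G → ℂ :=
  fun x => if x ∈ L then (Nat.card L : ℂ)⁻¹ else 0

theorem avgInd_mem {L : Subgroup G} {x : G} (hx : x ∈ L) :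
    avgInd L x = (Nat.card L : ℂ)⁻¹ := by
  classical
  unfold avgInd
  rw [if_pos hx]

theorem avgInd_not_mem {L : Subgroup G} {x : G} (hx : x ∉ L) : avgInd L x = 0 := by
  classical
  unfold avgInd
  rw [if_neg hx]

theorem avgInd_isClassFunction (L : Subgroup G) [hL : L.Normal] :
    IsClassFunction G (avgInd L) := by
  intro g h
  by_cases hg : g ∈ L
  · rw [avgInd_mem hg, avgInd_mem (hL.conj_mem g hg h)]
  · have : h * g * h⁻¹ ∉ L := by
      intro h'
      apply hg
      have := hL.conj_mem _ h' h⁻¹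
      have e : h⁻¹ * (h * g * h⁻¹) * h⁻¹⁻¹ = g := by group
      rwa [e] at this
    rw [avgInd_not_mem hg, avgInd_not_mem this]

theorem avgInd_ZS {p : ℕ} {M : Ideal AlgInt} (hpM : IsPModular p M) (L : Subgroup G)
    [L.Normal] (hL : ¬ p ∣ Nat.card L) : ZS M (avgInd L) := by
  have hM : M.IsPrime := isPrime_of_isPModular hpM
  refine ⟨avgInd_isClassFunction L, fun g => ?_⟩
  by_cases hg : g ∈ L
  · rw [avgInd_mem hg]
    exact memLocalRing_inv_natCast hpM hL
  · rw [avgInd_not_mem hg]
    exact memLocalRing_zero hM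

theorem sum_avgInd_mul [Fintype G] (L : Subgroup G) [Fintype L] (F : G → ℂ) :
    ∑ g : G, avgInd L g * F g = (Nat.card L : ℂ)⁻¹ * ∑ l : L, F (l : G) := by
  rw [← sum_subgroup_eq (H := L) (fun g => avgInd L g * F g)
    (fun x hx => by rw [avgInd_not_mem hx, zero_mul]), Finset.mul_sum]
  refine Finset.sum_congr rfl fun l _ => ?_
  rw [avgInd_mem l.2]

theorem omega_avgInd_eq_one [Fintype G] {θ : G → ℂ} (h1 : θ 1 ≠ 0) (L : Subgroup G)
    (hker : ∀ l ∈ L, θ l = θ 1) : omega θ (avgInd L) = 1 := by
  classical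
  have := Fintype.ofFinite L
  unfold omega
  rw [sum_avgInd_mul, Finset.sum_congr rfl (fun (l : L) _ => hker (l : G) l.2), Finset.sum_const,
    Finset.card_univ, nsmul_eq_mul, ← Nat.card_eq_fintype_card, ← mul_assoc,
    inv_mul_cancel₀, one_mul, div_self h1]
  have : 0 < Nat.card L := Nat.card_pos
  exact_mod_cast this.ne'

/-- If the central character of the irreducible `θ` does not vanish at the averaged indicator of the
normal subgroup `L`, then `L` lies in the kernel of `θ`. -/
theorem ker_of_omega_avgInd_ne_zero [Fintype G] {θ : G → ℂ} (hθ : IsIrrCharacter G θ)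
    (L : Subgroup G) [hL : L.Normal] (hne : omega θ (avgInd L) ≠ 0) :
    ∀ l ∈ L, θ l = θ 1 := by
  classical
  obtain ⟨n, ρ, hirr, rfl⟩ := hθ
  have := hirr
  have hS := sum_classFun_smul ρ (avgInd L) (avgInd_isClassFunction L)
  have hω : omega ρ.character (avgInd L) =
      (∑ g : G, avgInd L g * ρ.character g) / (Module.finrank ℂ (Fin n → ℂ) : ℂ) := by
    unfold omega; rw [char_one]
  rw [← hω] at hS
  intro l hl
  have h2 : ρ l * (∑ g : G, avgInd L g • ρ g) = ∑ g : G, avgInd L g • ρ g := by
    rw [Finset.mul_sum]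
    have h3 : ∀ g : G, ρ l * (avgInd L g • ρ g) = avgInd L (l * g) • ρ (l * g) := by
      intro g
      rw [mul_smul_comm, ← map_mul]
      have : avgInd L (l * g) = avgInd L g := by
        by_cases hg : g ∈ L
        · rw [avgInd_mem hg, avgInd_mem (L.mul_mem hl hg)]
        · have : l * g ∉ L := by
            intro h'
            apply hg
            have := L.mul_mem (L.inv_mem hl) h'
            rwa [inv_mul_cancel_left] at this
          rw [avgInd_not_mem hg, avgInd_not_mem this]
      rw [this]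
    rw [Finset.sum_congr rfl (fun g _ => h3 g)]
    exact Fintype.sum_equiv (Equiv.mulLeft l) _ _ (fun g => rfl)
  rw [hS, show (LinearMap.id : (Fin n → ℂ) →ₗ[ℂ] (Fin n → ℂ)) = 1 from rfl, mul_smul_comm,
    mul_one] at h2
  have h4 : ρ l = 1 := smul_right_injective _ hne h2
  show ρ.character l = ρ.character 1
  unfold Representation.character
  rw [h4, map_one ρ]

theorem card_subgroupOf_dvd (H L : Subgroup G) [Finite G] :
    Nat.card (L.subgroupOf H) ∣ Nat.card L := by
  have h1 : Nat.card (L.subgroupOf H) = Nat.card (L ⊓ H : Subgroup G) := by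
    rw [← Subgroup.inf_subgroupOf_right]
    exact Nat.card_congr (Subgroup.subgroupOfEquivOfLe inf_le_right).toEquiv
  rw [h1]
  exact Subgroup.card_dvd_of_le inf_le_left

/-- Kernel condition for a normal `p'`-subgroup is constant on a block. -/
theorem ker_of_sameBlock [Fintype G] {p : ℕ} {M : Ideal AlgInt} (hpM : IsPModular p M)
    (L : Subgroup G) [L.Normal] (hL : ¬ p ∣ Nat.card L) {θ θ' : G → ℂ}
    (hθ : IsIrrCharacter G θ) (hθ' : IsIrrCharacter G θ') (hsame : SameBlock M θ θ')
    (hker : ∀ l ∈ L, θ l = θ 1) : ∀ l ∈ L, θ' l = θ' 1 := by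
  have hM : M.IsPrime := isPrime_of_isPModular hpM
  have hz := avgInd_ZS hpM L hL
  have h1 := memLocalIdeal_omega_sub hM (isClassFunction_of_isCharacter hθ)
    (isClassFunction_of_isCharacter hθ') hsame hz.1 hz.2
  rw [omega_avgInd_eq_one (irr_one_ne_zero hθ) L hker] at h1
  apply ker_of_omega_avgInd_ne_zero hθ' L
  intro h0
  rw [h0, sub_zero] at h1
  exact not_memLocalIdeal_one hM h1

theorem omega_restrict_avgInd [Fintype G] (H : Subgroup G) [Fintype H] (L : Subgroup G)
    (ξ : H → ℂ) :
    omega ξ (fun h : H => avgInd L (h : G)) =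
      ((Nat.card (L.subgroupOf H) : ℂ) / (Nat.card L : ℂ)) *
        omega ξ (avgInd (L.subgroupOf H)) := by
  unfold omega
  rw [← mul_div_assoc, Finset.mul_sum]
  congr 1
  refine Finset.sum_congr rfl fun h _ => ?_
  show avgInd L (h : G) * ξ h = _
  by_cases hh : (h : G) ∈ L
  · rw [avgInd_mem hh, avgInd_mem (Subgroup.mem_subgroupOf.mpr hh)]
    have h0 : (Nat.card (L.subgroupOf H) : ℂ) ≠ 0 := by
      have : 0 < Nat.card (L.subgroupOf H) := Nat.card_pos
      exact_mod_cast this.ne'
    field_simp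
  · rw [avgInd_not_mem hh, avgInd_not_mem (fun h' => hh (Subgroup.mem_subgroupOf.mp h'))]
    ring

/-- **Kernel criterion under block induction.**  If `b` (block of `H`) induces `B` and `L` is a
normal `p'`-subgroup of `G`, then `L` lies in the kernel of `B` iff `L ∩ H` lies in the kernel of
`b`. -/
theorem ker_induced_iff [Fintype G] {p : ℕ} [Fact p.Prime] {M : Ideal AlgInt}
    (hpM : IsPModular p M) (H : Subgroup G) {b : Set (IrrCharacter H)}
    {B : Set (IrrCharacter G)} (hind : IsInducedBlock M H b B) (L : Subgroup G) [L.Normal]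
    (hL : ¬ p ∣ Nat.card L) :
    (∀ χ ∈ B, ∀ l ∈ L, (χ : G → ℂ) l = (χ : G → ℂ) 1) ↔
      (∀ ξ ∈ b, ∀ h : H, (h : G) ∈ L → (ξ : H → ℂ) h = (ξ : H → ℂ) 1) := by
  classical
  have hM : M.IsPrime := isPrime_of_isPModular hpM
  have := Fintype.ofFinite H
  have hz := avgInd_ZS hpM L hL
  constructor
  · intro hB ξ hξ h hh
    obtain ⟨χ₀, hχ₀⟩ := isPBlock_nonempty hM hind.2.1
    have h1 := memLocalIdeal_omega_restrict_sub hM H hind hξ hχ₀ hz
    rw [omega_avgInd_eq_one (irr_one_ne_zero χ₀.2) L (hB χ₀ hχ₀), omega_restrict_avgInd] at h1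
    refine ker_of_omega_avgInd_ne_zero ξ.2 (L.subgroupOf H) ?_ h (Subgroup.mem_subgroupOf.mpr hh)
    intro h0
    rw [h0, mul_zero, zero_sub] at h1
    have := memLocalIdeal_neg h1
    rw [neg_neg] at this
    exact not_memLocalIdeal_one hM this
  · intro hb χ hχ
    obtain ⟨ξ₀, hξ₀⟩ := isPBlock_nonempty hM hind.1
    have h1 := memLocalIdeal_omega_restrict_sub hM H hind hξ₀ hχ hz
    have h2 : omega (ξ₀ : H → ℂ) (avgInd (L.subgroupOf H)) = 1 :=
      omega_avgInd_eq_one (irr_one_ne_zero ξ₀.2) _
        (fun h hh => hb ξ₀ hξ₀ h (Subgroup.mem_subgroupOf.mp hh))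
    rw [omega_restrict_avgInd, h2, mul_one] at h1
    apply ker_of_omega_avgInd_ne_zero χ.2 L
    intro h0
    rw [h0, sub_zero] at h1
    have hLne : (Nat.card L : ℂ) ≠ 0 := by
      have : 0 < Nat.card L := Nat.card_pos
      exact_mod_cast this.ne'
    have h3 := memLocalIdeal_mul_left hM (memLocalRing_natCast hM (Nat.card L)) h1
    rw [mul_div_cancel₀ _ hLne] at h3
    rw [memLocalIdeal_natCast_iff hpM] at h3
    exact hL (h3.trans (card_subgroupOf_dvd H L))

end Cfsg.Agent.Lib.Helper16
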