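import Cfsg.Agent.Lib.Helper16.KerCrit
import Cfsg.Agent.Lib.Helper77.BPairN

/-!
# Kernels of Brauer pairs along normal inclusion (helper16)

For a normal inclusion `(Q, f) ⊴ (P, e)` of Brauer pairs and a `P`-invariant normal `p'`-subgroup `L`
of `C_G(Q)`: `L` lies in the kernel of `f` iff `L ∩ C_G(P)` lies in the kernel of `e`.
-/

set_option autoImplicit false

namespace Cfsg.Agent.Lib.Helper16

open Cfsg Representation
open Cfsg.Agent.Lib.Helper77 Cfsg.Agent.Lib.Helper80 Cfsg.Agent.Lib.Helper81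

universe u

variable {G : Type u} [Group G]

theorem card_comap_dvd_of_injective {H : Type*} [Group H] [Finite G] (φ : H →* G)
    (hφ : Function.Injective φ) (L : Subgroup G) : Nat.card (L.comap φ) ∣ Nat.card L := by
  let ψ : (L.comap φ) →* L :=
    { toFun := fun x => ⟨φ (x : H), x.2⟩
      map_one' := by apply Subtype.ext; simp
      map_mul' := by intro x y; apply Subtype.ext; simp }
  apply Subgroup.card_dvd_of_injective ψ
  intro x y hxy
  apply Subtype.ext
  apply hφ
  exact congrArg Subtype.val hxy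

theorem omega_comp_avgInd {H : Type*} [Group H] [Fintype H] (φ : H →* G) (L : Subgroup G)
    (ξ : H → ℂ) :
    omega ξ (fun h : H => avgInd L (φ h)) =
      ((Nat.card (L.comap φ) : ℂ) / (Nat.card L : ℂ)) * omega ξ (avgInd (L.comap φ)) := by
  unfold omega
  rw [← mul_div_assoc, Finset.mul_sum]
  congr 1
  refine Finset.sum_congr rfl fun h _ => ?_
  show avgInd L (φ h) * ξ h = _
  by_cases hh : φ h ∈ L
  · rw [avgInd_mem hh, avgInd_mem (Subgroup.mem_comap.mpr hh)]
    have h0 : (Nat.card (L.comap φ) : ℂ) ≠ 0 := by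
      have : 0 < Nat.card (L.comap φ) := Nat.card_pos
      exact_mod_cast this.ne'
    field_simp
  · rw [avgInd_not_mem hh, avgInd_not_mem (fun h' => hh (Subgroup.mem_comap.mp h'))]
    ring

variable [Fintype G] {p : ℕ} [Fact p.Prime] {M : Ideal AlgInt}

/-- **Kernel transfer along a normal inclusion of Brauer pairs.** -/
theorem normalSubpair_ker_iff (hpM : IsPModular p M) {Q P : Subgroup G}
    {f : Set (IrrCharacter (Subgroup.centralizer (Q : Set G)))}
    {e : Set (IrrCharacter (Subgroup.centralizer (P : Set G)))}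
    (h : IsNormalSubpair p M Q f P e)
    (L : Subgroup (Subgroup.centralizer (Q : Set G))) [hLn : L.Normal] (hL : ¬ p ∣ Nat.card L)
    (hst : ∀ q ∈ P, ∀ k k' : Subgroup.centralizer (Q : Set G),
      (k' : G) = q * (k : G) * q⁻¹ → (k ∈ L ↔ k' ∈ L)) :
    (∀ θ ∈ f, ∀ l ∈ L, (θ : Subgroup.centralizer (Q : Set G) → ℂ) l =
        (θ : Subgroup.centralizer (Q : Set G) → ℂ) 1) ↔
      (∀ ξ ∈ e, ∀ (c : Subgroup.centralizer (P : Set G)) (k : Subgroup.centralizer (Q : Set G)),
        (k : G) = (c : G) → k ∈ L →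
        (ξ : Subgroup.centralizer (P : Set G) → ℂ) c =
          (ξ : Subgroup.centralizer (P : Set G) → ℂ) 1) := by
  classical
  have hM : M.IsPrime := isPrime_of_isPModular hpM
  obtain ⟨hQf, hPe, hQP, hPN, hstf, hbr⟩ := h
  have := Fintype.ofFinite (Subgroup.centralizer (Q : Set G))
  have := Fintype.ofFinite (Subgroup.centralizer (P : Set G))
  have hPK : P ≤ Subgroup.normalizer ((Subgroup.centralizer (Q : Set G) : Subgroup G) : Set G) :=
    normalizer_le_normalizer_centralizer_of_le hPN
  have hCK : Subgroup.centralizer (P : Set G) ≤ Subgroup.centralizer (Q : Set G) :=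
    Subgroup.centralizer_le hQP
  have hz : ZS M (blockCoeff f) := by
    obtain ⟨θ₀, rfl⟩ := hQf.2; exact ZS.blockCoeff hpM θ₀
  have hz' := avgInd_ZS hpM L hL
  have hks := kStable_blockCoeff hM hPK hQf.2 hstf
  have hks' : KStable P (Subgroup.centralizer (Q : Set G)) (avgInd L) := by
    intro q hq k k' hk
    by_cases hkL : k ∈ L
    · rw [avgInd_mem hkL, avgInd_mem ((hst q hq k k' hk).mp hkL)]
    · rw [avgInd_not_mem hkL, avgInd_not_mem (fun h' => hkL ((hst q hq k k' hk).mpr h'))]
  -- the restriction of the averaged indicator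
  set φ : Subgroup.centralizer (P : Set G) →* Subgroup.centralizer (Q : Set G) :=
    Subgroup.inclusion hCK with hφ
  have hφinj : Function.Injective φ := Subgroup.inclusion_injective hCK
  have hres : ∀ ξ : Subgroup.centralizer (P : Set G) → ℂ,
      omega ξ (resC hCK (avgInd L)) =
        ((Nat.card (L.comap φ) : ℂ) / (Nat.card L : ℂ)) * omega ξ (avgInd (L.comap φ)) := by
    intro ξ
    exact omega_comp_avgInd φ L ξ
  have hLne : (Nat.card L : ℂ) ≠ 0 := by
    have : 0 < Nat.card L := Nat.card_pos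
    exact_mod_cast this.ne'
  have hL' : ¬ p ∣ Nat.card (L.comap φ) :=
    fun h' => hL (h'.trans (card_comap_dvd_of_injective φ hφinj L))
  have hA : ∀ ξ ∈ e, MemLocalIdeal M
      (omega (ξ : Subgroup.centralizer (P : Set G) → ℂ) (resC hCK (blockCoeff f)) - 1) := by
    intro ξ hξ
    have := hbr ξ hξ
    rwa [brauerOmega_sbc hCK] at this
  have hAr : ∀ ξ : IrrCharacter (Subgroup.centralizer (P : Set G)), MemLocalRing M
      (omega (ξ : Subgroup.centralizer (P : Set G) → ℂ) (resC hCK (blockCoeff f))) := by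
    intro ξ
    have hr := resC_ZS hCK hz
    exact memLocalRing_omega hM ξ.2 hr.1 hr.2
  have hcf : IsClassFunction _ (conv (blockCoeff f) (avgInd L)) :=
    conv_isClassFunction hz.1 hz'.1
  constructor
  · intro hker ξ hξ c k hkc hkL
    have hconv : conv (blockCoeff f) (avgInd L) = blockCoeff f := by
      apply eq_of_omega_eq hcf hz.1
      intro θ
      rw [omega_conv θ.2 hz.1 hz'.1, omega_blockCoeff]
      by_cases hθ : θ ∈ f
      · rw [if_pos hθ, one_mul]
        exact omega_avgInd_eq_one (irr_one_ne_zero θ.2) L (hker θ hθ)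
      · rw [if_neg hθ, zero_mul]
    have hlam := lam_mul hpM hPe.1 hPK hCK hz hz' hks hks' ξ.2
    rw [hconv, hres] at hlam
    have hcL' : c ∈ L.comap φ := by
      rw [Subgroup.mem_comap]
      have : φ c = k := Subtype.ext hkc.symm
      rw [this]
      exact hkL
    refine ker_of_omega_avgInd_ne_zero ξ.2 (L.comap φ) ?_ c hcL'
    intro h0
    rw [h0, mul_zero, mul_zero, sub_zero] at hlam
    have h2 := memLocalIdeal_sub hM hlam (hA ξ hξ)
    rw [sub_sub_cancel] at h2
    exact not_memLocalIdeal_one hM h2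
  · intro hker
    by_contra hcon
    push Not at hcon
    obtain ⟨θ₁, hθ₁, l₁, hl₁, hne₁⟩ := hcon
    have hzero : ∀ θ ∈ f, omega (θ : Subgroup.centralizer (Q : Set G) → ℂ) (avgInd L) = 0 := by
      intro θ hθ
      by_contra hne
      have h1 := ker_of_omega_avgInd_ne_zero θ.2 L hne
      obtain ⟨θ₀, rfl⟩ := hQf.2
      have hsame : SameBlock M (θ : Subgroup.centralizer (Q : Set G) → ℂ)
          (θ₁ : Subgroup.centralizer (Q : Set G) → ℂ) :=
        sameBlock_trans hM (sameBlock_symm hθ) hθ₁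
      exact hne₁ (ker_of_sameBlock hpM L hL θ.2 θ₁.2 hsame h1 l₁ hl₁)
    have hconv : conv (blockCoeff f) (avgInd L) = 0 := by
      apply eq_of_omega_eq hcf (fun _ _ => rfl)
      intro θ
      rw [omega_conv θ.2 hz.1 hz'.1, omega_blockCoeff, omega_zero]
      by_cases hθ : θ ∈ f
      · rw [hzero θ hθ, mul_zero]
      · rw [if_neg hθ, zero_mul]
    obtain ⟨ξ, hξ⟩ := isPBlock_nonempty hM hPe.2
    have hlam := lam_mul hpM hPe.1 hPK hCK hz hz' hks hks' ξ.2
    have e0 : resC hCK (0 : Subgroup.centralizer (Q : Set G) → ℂ) = 0 := rfl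
    have hs : omega (ξ : Subgroup.centralizer (P : Set G) → ℂ) (avgInd (L.comap φ)) = 1 := by
      apply omega_avgInd_eq_one (irr_one_ne_zero ξ.2)
      intro c hc
      exact hker ξ hξ c (φ c) rfl (Subgroup.mem_comap.mp hc)
    rw [hconv, e0, omega_zero, zero_sub, hres, hs, mul_one] at hlam
    have h2 := memLocalIdeal_neg hlam
    rw [neg_neg] at h2
    -- `A * u ∈ J` and `A ≡ 1`, so `u ∈ J`
    have hu : MemLocalRing M ((Nat.card (L.comap φ) : ℂ) / (Nat.card L : ℂ)) := by
      rw [div_eq_mul_inv]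
      exact memLocalRing_mul hM (memLocalRing_natCast hM _) (memLocalRing_inv_natCast hpM hL)
    have h3 := memLocalIdeal_mul_right hM (hA ξ hξ) hu
    have h4 := memLocalIdeal_sub hM h2 h3
    have e1 : omega (ξ : Subgroup.centralizer (P : Set G) → ℂ) (resC hCK (blockCoeff f)) *
        ((Nat.card (L.comap φ) : ℂ) / (Nat.card L : ℂ)) -
        (omega (ξ : Subgroup.centralizer (P : Set G) → ℂ) (resC hCK (blockCoeff f)) - 1) *
        ((Nat.card (L.comap φ) : ℂ) / (Nat.card L : ℂ)) =
        (Nat.card (L.comap φ) : ℂ) / (Nat.card L : ℂ) := by ring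
    rw [e1] at h4
    have h5 := memLocalIdeal_mul_left hM (memLocalRing_natCast hM (Nat.card L)) h4
    rw [mul_div_cancel₀ _ hLne, memLocalIdeal_natCast_iff hpM] at h5
    exact hL' h5

end Cfsg.Agent.Lib.Helper16
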