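import Cfsg.Agent.Lib.Helper16.KerAll
import Cfsg.Agent.Lib.Helper77.BlockDecomp
import Cfsg.Agent.Lib.Helper77.DefectGroup
import Cfsg.Agent.Lib.Helper84.PCore
import Cfsg.Agent.S0912
import Cfsg.Agent.S0923

/-!
# Constancy of characters on `π'`-cosets via the second main theorem (helper16)
-/

set_option autoImplicit false

namespace Cfsg.Agent.Lib.Helper16

open Cfsg Representation
open Cfsg.Agent.Lib.Helper77 Cfsg.Agent.Lib.Helper80 Cfsg.Agent.Lib.Helper81

universe u

variable {G : Type u} [Group G]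

/-- If all block parts of a class function agree at two points, so does the function. -/
theorem eq_of_forall_blockPart_eq [Fintype G] {M : Ideal AlgInt} (hM : M.IsPrime) {ϑ : G → ℂ}
    (hϑ : IsClassFunction G ϑ) (x y : G)
    (h : ∀ ξ₀ : IrrCharacter G, blockPart (blockOf M (ξ₀ : G → ℂ)) ϑ x =
      blockPart (blockOf M (ξ₀ : G → ℂ)) ϑ y) : ϑ x = ϑ y := by
  classical
  have := Fintype.ofFinite (IrrCharacter G)
  have h1 := congrFun (Cfsg.Agent.Lib.Helper3.classFunction_eq_sum hϑ) x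
  have h1' := congrFun (Cfsg.Agent.Lib.Helper3.classFunction_eq_sum hϑ) y
  rw [Finset.sum_apply] at h1 h1'
  rw [h1, h1']
  let gmap : IrrCharacter G → Set (IrrCharacter G) := fun ξ => blockOf M (ξ : G → ℂ)
  rw [← Finset.sum_fiberwise_of_maps_to (s := Finset.univ) (t := Finset.univ.image gmap)
    (g := gmap) (fun x _ => Finset.mem_image_of_mem _ (Finset.mem_univ x)),
    ← Finset.sum_fiberwise_of_maps_to (s := Finset.univ) (t := Finset.univ.image gmap)
    (g := gmap) (f := fun ξ => (classInner ϑ (ξ : G → ℂ) • (ξ : G → ℂ)) y)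
    (fun x _ => Finset.mem_image_of_mem _ (Finset.mem_univ x))]
  refine Finset.sum_congr rfl fun b hb => ?_
  obtain ⟨ξ₁, -, rfl⟩ := Finset.mem_image.mp hb
  have h2 := h ξ₁
  rw [blockPart_eq_sum, blockPart_eq_sum] at h2
  have hfilter : Finset.univ.filter (fun ξ : IrrCharacter G => gmap ξ = gmap ξ₁) =
      Finset.univ.filter (fun χ : IrrCharacter G => χ ∈ blockOf M (ξ₁ : G → ℂ)) := by
    ext ξ
    simp only [Finset.mem_filter, Finset.mem_univ, true_and, gmap]
    constructor
    · intro hξ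
      rw [← hξ]
      exact self_mem_blockOf hM ξ
    · intro hξ
      exact blockOf_eq_of_mem hM hξ
  rw [hfilter]
  exact h2

/-- **Constancy on `σ`-cosets.** -/
theorem char_const_on_coset [Finite G] {p : ℕ} [Fact p.Prime] {M : Ideal AlgInt}
    (hpM : IsPModular p M) {σ : Set ℕ} (hpσ : p ∉ σ)
    {B : Set (IrrCharacter G)} (hB : IsPBlock M B) {D : Subgroup G}
    (hBD : IsDefectGroup p M B D)
    {B₁ : Set (IrrCharacter (Subgroup.normalizer (D : Set G)))}
    (hB₁ : IsInducedBlock M (Subgroup.normalizer (D : Set G)) B₁ B)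
    (hB₁D : IsDefectGroup p M B₁ (D.subgroupOf (Subgroup.normalizer (D : Set G))))
    (hker : ∀ n : Subgroup.normalizer (D : Set G),
      n ∈ piCore σ (Subgroup.normalizer (D : Set G)) → n ∈ blockKer B₁)
    (y : G) (hy : ∃ k : ℕ, orderOf y = p ^ k)
    (hC : ∀ x : Subgroup.centralizer ({y} : Set G),
      (∀ q : ℕ, q.Prime → q ∣ orderOf x → q ∈ σ) →
      x ∈ piCore σ (Subgroup.centralizer ({y} : Set G))) :
    ∀ χ ∈ B, ∀ x : G, x ∈ Subgroup.centralizer ({y} : Set G) →
      (∀ q : ℕ, q.Prime → q ∣ orderOf x → q ∈ σ) →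
      (χ : G → ℂ) (y * x) = (χ : G → ℂ) y := by
  classical
  intro χ hχ x hx hxσ
  have := Fintype.ofFinite G
  have hM : M.IsPrime := isPrime_of_isPModular hpM
  have hp : p.Prime := Fact.out
  have := Fintype.ofFinite (Subgroup.centralizer ({y} : Set G))
  have := Fintype.ofFinite (IrrCharacter (Subgroup.centralizer ({y} : Set G)))
  have hyC : y ∈ Subgroup.centralizer ({y} : Set G) := by
    rw [Subgroup.mem_centralizer_iff]
    intro z hz
    rw [Set.mem_singleton_iff.mp hz]
  have hcomm : ∀ c : Subgroup.centralizer ({y} : Set G), (c : G) * y = y * (c : G) := by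
    intro c
    exact ((Subgroup.mem_centralizer_iff.mp c.2) y rfl).symm
  set ϑ : Subgroup.centralizer ({y} : Set G) → ℂ := fun c => (χ : G → ℂ) (y * (c : G)) with hϑdef
  have hϑ : IsClassFunction (Subgroup.centralizer ({y} : Set G)) ϑ := by
    intro g h
    show (χ : G → ℂ) (y * ((h * g * h⁻¹ : Subgroup.centralizer ({y} : Set G)) : G)) =
      (χ : G → ℂ) (y * (g : G))
    have e1 : y * ((h * g * h⁻¹ : Subgroup.centralizer ({y} : Set G)) : G) =
        (h : G) * (y * (g : G)) * (h : G)⁻¹ := by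
      push_cast
      rw [← mul_assoc, ← mul_assoc, ← hcomm h]
      group
    rw [e1]
    exact isClassFunction_of_isCharacter χ.2 _ _
  have hxord : orderOf (⟨x, hx⟩ : Subgroup.centralizer ({y} : Set G)) = orderOf x :=
    Subgroup.orderOf_mk x hx
  have hxreg : ¬ p ∣ orderOf (⟨x, hx⟩ : Subgroup.centralizer ({y} : Set G)) := by
    rw [hxord]
    intro hdvd
    exact hpσ (hxσ p hp hdvd)
  have h1reg : ¬ p ∣ orderOf (1 : Subgroup.centralizer ({y} : Set G)) := by
    rw [orderOf_one]
    exact hp.one_lt.ne' ∘ Nat.dvd_one.mp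
  have key := eq_of_forall_blockPart_eq hM hϑ ⟨x, hx⟩ 1 ?_
  · have h2 : ϑ ⟨x, hx⟩ = ϑ 1 := key
    rw [hϑdef] at h2
    simp only [OneMemClass.coe_one, mul_one] at h2
    exact h2
  intro ξ₀
  by_cases hind : IsInducedBlock M (Subgroup.centralizer ({y} : Set G))
      (blockOf M (ξ₀ : Subgroup.centralizer ({y} : Set G) → ℂ)) B
  · obtain ⟨D₀, hD₀⟩ := exists_isDefectGroup hpM ξ₀
    have hyD₀ : (⟨y, hyC⟩ : Subgroup.centralizer ({y} : Set G)) ∈ D₀ := by
      have h3 := Cfsg.Agent.S0912.result p M hpM _ ⟨ξ₀, rfl⟩ D₀ hD₀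
      apply h3
      have hcen : ∀ n ∈ Subgroup.zpowers (⟨y, hyC⟩ : Subgroup.centralizer ({y} : Set G)),
          ∀ g : Subgroup.centralizer ({y} : Set G), g * n = n * g := by
        intro n hn g
        obtain ⟨k, rfl⟩ := Subgroup.mem_zpowers_iff.mp hn
        have : Commute g (⟨y, hyC⟩ : Subgroup.centralizer ({y} : Set G)) := by
          apply Subtype.ext
          exact hcomm g
        exact (this.zpow_right k).eq
      have hnorm : (Subgroup.zpowers (⟨y, hyC⟩ : Subgroup.centralizer ({y} : Set G))).Normal := by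
        constructor
        intro n hn g
        rw [hcen n hn g, mul_inv_cancel_right]
        exact hn
      have hpg : IsPGroup p (Subgroup.zpowers (⟨y, hyC⟩ : Subgroup.centralizer ({y} : Set G))) := by
        obtain ⟨k, hk⟩ := hy
        apply IsPGroup.of_card (n := k)
        rw [Nat.card_zpowers, Subgroup.orderOf_mk, hk]
      exact Cfsg.Agent.Lib.Helper84.le_pCore hnorm hpg (Subgroup.mem_zpowers _)
    have hCC : Subgroup.centralizer
        ((D₀.map (Subgroup.centralizer ({y} : Set G)).subtype : Subgroup G) : Set G) ≤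
        Subgroup.centralizer ({y} : Set G) := by
      intro z hz
      rw [Subgroup.mem_centralizer_iff] at hz ⊢
      intro w hw
      rw [Set.mem_singleton_iff.mp hw]
      exact hz y ⟨⟨y, hyC⟩, hyD₀, rfl⟩
    have hk := ker_of_local_block hpM hpσ hB hBD hB₁ hB₁D hker _ _ hind D₀ hD₀ hCC ⟨x, hx⟩
      (hC ⟨x, hx⟩ (by rw [hxord]; exact hxσ))
    rw [blockPart_eq_sum, blockPart_eq_sum]
    refine Finset.sum_congr rfl fun ψ hψ => ?_
    rw [hk ψ (Finset.mem_filter.mp hψ).2]
  · rw [Cfsg.Agent.S0923.result p M hpM y hy B hB χ hχ _ ⟨ξ₀, rfl⟩ hind ⟨x, hx⟩ hxreg,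
      Cfsg.Agent.S0923.result p M hpM y hy B hB χ hχ _ ⟨ξ₀, rfl⟩ hind 1 h1reg]

end Cfsg.Agent.Lib.Helper16
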