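import Cfsg.Agent.Lib.Helper16.KerChain
import Cfsg.Agent.Lib.Helper77.DefectInduced
import Cfsg.Agent.Lib.Helper77.NilA
import Cfsg.Agent.S0920

/-!
# Kernel conditions for a block of a subgroup `N ≥ C` induced from a block of `C` (helper16)
-/

set_option autoImplicit false

namespace Cfsg.Agent.Lib.Helper16

open Cfsg Representation
open Cfsg.Agent.Lib.Helper77 Cfsg.Agent.Lib.Helper80 Cfsg.Agent.Lib.Helper81

universe u

variable {G : Type u} [Group G] [Finite G] {p : ℕ} [Fact p.Prime] {M : Ideal AlgInt}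

/-- From the block of `N` down to the block of `C ≤ N` inducing it. -/
theorem ker_down_of_induced (hpM : IsPModular p M) {σ : Set ℕ} (hpσ : p ∉ σ)
    {C N : Subgroup G} (hCN : C ≤ N) {e : Set (IrrCharacter C)} {β : Set (IrrCharacter N)}
    (hind : IsInducedBlock M (C.subgroupOf N)
      (irrMap (Subgroup.subgroupOfEquivOfLe hCN) '' e) β)
    (hnorm : ∀ n ∈ N, ∀ c : C, c ∈ piCore σ C →
      ∃ c' : C, c' ∈ piCore σ C ∧ (c' : G) = n * (c : G) * n⁻¹)
    (hβ : ∀ n : N, n ∈ piCore σ N → n ∈ blockKer β) :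
    ∀ c : C, c ∈ piCore σ C → ∀ θ ∈ e, (θ : C → ℂ) c = (θ : C → ℂ) 1 := by
  classical
  have := Fintype.ofFinite N
  have hp : p.Prime := Fact.out
  set ι : C →* N := Subgroup.inclusion hCN with hι
  have hιinj : Function.Injective ι := Subgroup.inclusion_injective hCN
  have hI : (piCore σ C).map ι ≤ piCore σ N := by
    apply Cfsg.Agent.Lib.Helper62.le_piCore
    · constructor
      rintro y ⟨c, hc, rfl⟩ n
      obtain ⟨c', hc', hcc'⟩ := hnorm (n : G) n.2 c hc
      refine ⟨c', hc', ?_⟩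
      apply Subtype.ext
      show (c' : G) = (n : G) * (c : G) * ((n : G))⁻¹
      exact hcc'
    · intro q hq hdvd
      rw [Subgroup.card_map_of_injective hιinj] at hdvd
      exact Cfsg.Agent.Lib.Helper62.isPi_piCore σ q hq hdvd
  have key := (ker_induced_iff hpM (C.subgroupOf N) hind (piCore σ N)
    (not_dvd_card_piCore hp hpσ)).mp (fun χ hχ l hl => hβ l hl χ hχ)
  intro c hc θ hθ
  have h1 := key (irrMap (Subgroup.subgroupOfEquivOfLe hCN) θ) ⟨θ, hθ, rfl⟩
    ((Subgroup.subgroupOfEquivOfLe hCN).symm c) (hI ⟨c, hc, rfl⟩)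
  rw [irrMap_apply, irrMap_apply, MulEquiv.apply_symm_apply, map_one] at h1
  exact h1

/-- From the block of `C ≤ N` up to the block of `N` it induces. -/
theorem ker_up_of_induced (hpM : IsPModular p M) {σ : Set ℕ} (hpσ : p ∉ σ)
    {C N : Subgroup G} (hCN : C ≤ N) {e : Set (IrrCharacter C)} {β : Set (IrrCharacter N)}
    (hind : IsInducedBlock M (C.subgroupOf N)
      (irrMap (Subgroup.subgroupOfEquivOfLe hCN) '' e) β)
    (he : ∀ c : C, c ∈ piCore σ C → ∀ θ ∈ e, (θ : C → ℂ) c = (θ : C → ℂ) 1) :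
    ∀ n : N, n ∈ piCore σ N → n ∈ blockKer β := by
  classical
  have := Fintype.ofFinite N
  have hp : p.Prime := Fact.out
  set ι : C →* N := Subgroup.inclusion hCN with hι
  have hιinj : Function.Injective ι := Subgroup.inclusion_injective hCN
  have key := (ker_induced_iff hpM (C.subgroupOf N) hind (piCore σ N)
    (not_dvd_card_piCore hp hpσ)).mpr
  intro n hn χ hχ
  refine key ?_ χ hχ n hn
  rintro ξ ⟨θ, hθ, rfl⟩ h hh
  rw [irrMap_apply, irrMap_apply, map_one]
  apply he _ _ θ hθ
  apply comap_piCore_le_of_injective σ ι hιinj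
  rw [Subgroup.mem_comap]
  have : ι (Subgroup.subgroupOfEquivOfLe hCN h) = (h : N) := rfl
  rw [this]
  exact hh

/-- **Top of the poset.**  For a Brauer pair `(D, e)` of `B` on a defect group `D` and the Brauer
correspondent `B₁` of `B` in `N_G(D)`: `O_σ(N_G(D))` lies in the kernel of `B₁` iff `O_σ(C_G(D))` lies in
the kernel of `e`. -/
theorem kerP_top_iff (hpM : IsPModular p M) {σ : Set ℕ} (hpσ : p ∉ σ)
    {B : Set (IrrCharacter G)} (hB : IsPBlock M B) {D : Subgroup G}
    (hBD : IsDefectGroup p M B D)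
    {B₁ : Set (IrrCharacter (Subgroup.normalizer (D : Set G)))}
    (hB₁ : IsInducedBlock M (Subgroup.normalizer (D : Set G)) B₁ B)
    (hB₁D : IsDefectGroup p M B₁ (D.subgroupOf (Subgroup.normalizer (D : Set G))))
    {e : Set (IrrCharacter (Subgroup.centralizer (D : Set G)))}
    (hDe : IsBrauerPairOf p M B D e) :
    (∀ n : Subgroup.normalizer (D : Set G), n ∈ piCore σ (Subgroup.normalizer (D : Set G)) →
        n ∈ blockKer B₁) ↔ KerP σ (⟨D, e⟩ : BrauerPairIdx G) := by
  classical
  have := Fintype.ofFinite G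
  have hM : M.IsPrime := isPrime_of_isPModular hpM
  have hDp : IsPGroup p D := hDe.1.1
  have hCN : Subgroup.centralizer (D : Set G) ≤ Subgroup.normalizer (D : Set G) :=
    Subgroup.centralizer_le_normalizer _
  have hind_e := isInducedBlock_of_isBrauerPairOf hpM hDe
  obtain ⟨ψ, h1, h2⟩ := exists_normalizer_block_centralizer hpM hDp hind_e
  have hdef : IsDefectGroup p M (blockOf M (ψ : Subgroup.normalizer (D : Set G) → ℂ))
      (D.subgroupOf (Subgroup.normalizer (D : Set G))) :=
    isDefectGroup_of_induced hpM Subgroup.le_normalizer le_rfl h2 hBD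
  have huniq := (Cfsg.Agent.S0920.result p M hpM D hDp).2 B hB hBD
  have heq : blockOf M (ψ : Subgroup.normalizer (D : Set G) → ℂ) = B₁ :=
    huniq.unique ⟨⟨ψ, rfl⟩, hdef, h2⟩ ⟨hB₁.1, hB₁D, hB₁⟩
  rw [heq] at h1
  constructor
  · intro hker
    refine ker_down_of_induced hpM hpσ hCN h1 ?_ hker
    intro n hn c hc
    have hnc : n * (c : G) * n⁻¹ ∈ Subgroup.centralizer (D : Set G) := by
      have hnN : n ∈ Subgroup.normalizer ((Subgroup.centralizer (D : Set G) : Subgroup G) : Set G) :=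
        normalizer_le_normalizer_centralizer_of_le le_rfl hn
      exact (Subgroup.mem_normalizer_iff.mp hnN (c : G)).mp c.2
    refine ⟨⟨n * (c : G) * n⁻¹, hnc⟩, ?_, rfl⟩
    exact (piCore_centralizer_stable σ (le_refl (Subgroup.normalizer (D : Set G))) n hn c
      ⟨n * (c : G) * n⁻¹, hnc⟩ rfl).mp hc
  · intro hK
    exact ker_up_of_induced hpM hpσ hCN h1 hK

end Cfsg.Agent.Lib.Helper16
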