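import Cfsg.Agent.Lib.Helper16.KerAll
import Cfsg.Agent.Lib.Helper16.OrbitBlock
import Cfsg.Agent.Lib.Helper77.Cover
import Cfsg.Agent.Lib.Helper77.Transitive

/-!
# From a local kernel condition up to the Brauer correspondent (helper16)
-/

set_option autoImplicit false

namespace Cfsg.Agent.Lib.Helper16

open Cfsg Representation
open Cfsg.Agent.Lib.Helper77 Cfsg.Agent.Lib.Helper80 Cfsg.Agent.Lib.Helper81

universe u

variable {G : Type u} [Group G] [Finite G] {p : ℕ} [Fact p.Prime] {M : Ideal AlgInt}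

/-- Variant of `ker_down_of_induced` for an arbitrary normal `p'`-subgroup of `N`. -/
theorem ker_down_of_induced' (hpM : IsPModular p M)
    {C N : Subgroup G} (hCN : C ≤ N) {e : Set (IrrCharacter C)} {β : Set (IrrCharacter N)}
    (hind : IsInducedBlock M (C.subgroupOf N)
      (irrMap (Subgroup.subgroupOfEquivOfLe hCN) '' e) β)
    (L : Subgroup N) [L.Normal] (hL : ¬ p ∣ Nat.card L)
    (hβ : ∀ n : N, n ∈ L → n ∈ blockKer β) :
    ∀ c : C, Subgroup.inclusion hCN c ∈ L → ∀ θ ∈ e, (θ : C → ℂ) c = (θ : C → ℂ) 1 := by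
  classical
  have := Fintype.ofFinite N
  have key := (ker_induced_iff hpM (C.subgroupOf N) hind L hL).mp
    (fun χ hχ l hl => hβ l hl χ hχ)
  intro c hc θ hθ
  have h1 := key (irrMap (Subgroup.subgroupOfEquivOfLe hCN) θ) ⟨θ, hθ, rfl⟩
    ((Subgroup.subgroupOfEquivOfLe hCN).symm c) hc
  rw [irrMap_apply, irrMap_apply, MulEquiv.apply_symm_apply, map_one] at h1
  exact h1

/-- A block of `D₀ C_G(D₀)` is induced from a block of `C_G(D₀)`. -/
theorem exists_centralizer_block_of_sup (hpM : IsPModular p M) {D₀ : Subgroup G}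
    (hD₀ : IsPGroup p D₀)
    {b : Set (IrrCharacter ↥(D₀ ⊔ Subgroup.centralizer (D₀ : Set G)))} (hb : IsPBlock M b) :
    ∃ f : Set (IrrCharacter (Subgroup.centralizer (D₀ : Set G))), IsPBlock M f ∧
      IsInducedBlock M ((Subgroup.centralizer (D₀ : Set G)).subgroupOf
          (D₀ ⊔ Subgroup.centralizer (D₀ : Set G)))
        (irrMap (Subgroup.subgroupOfEquivOfLe
          (le_sup_right : Subgroup.centralizer (D₀ : Set G) ≤
            D₀ ⊔ Subgroup.centralizer (D₀ : Set G))) '' f) b := by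
  classical
  have hM : M.IsPrime := isPrime_of_isPModular hpM
  set H₀ : Subgroup G := D₀ ⊔ Subgroup.centralizer (D₀ : Set G) with hH₀
  have hCH : Subgroup.centralizer (D₀ : Set G) ≤ H₀ := le_sup_right
  have hDH : D₀ ≤ H₀ := le_sup_left
  have hHN : H₀ ≤ Subgroup.normalizer (D₀ : Set G) :=
    sup_le Subgroup.le_normalizer (Subgroup.centralizer_le_normalizer _)
  have := Fintype.ofFinite H₀
  have := Fintype.ofFinite ((Subgroup.centralizer (D₀ : Set G)).subgroupOf H₀)
  have hQn : (D₀.subgroupOf H₀).Normal := Subgroup.normal_subgroupOf_of_le_normalizer hHN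
  have hHn : ((Subgroup.centralizer (D₀ : Set G)).subgroupOf H₀).Normal := by
    apply Subgroup.normal_subgroupOf_of_le_normalizer
    exact hHN.trans (normalizer_le_normalizer_centralizer_of_le le_rfl)
  have hQp : IsPGroup p (D₀.subgroupOf H₀) :=
    hD₀.comap_of_injective _ (Subgroup.subtype_injective _)
  have hCH' : Subgroup.centralizer ((D₀.subgroupOf H₀ : Subgroup H₀) : Set H₀) ≤
      (Subgroup.centralizer (D₀ : Set G)).subgroupOf H₀ := by
    intro z hz
    rw [Subgroup.mem_subgroupOf, Subgroup.mem_centralizer_iff]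
    intro d hd
    have := (Subgroup.mem_centralizer_iff.mp hz) ⟨d, hDH hd⟩ (Subgroup.mem_subgroupOf.mpr hd)
    exact congrArg Subtype.val this
  obtain ⟨χ₀, rfl⟩ := hb
  obtain ⟨ξ', hne⟩ := exists_constituent
    ((Subgroup.centralizer (D₀ : Set G)).subgroupOf H₀) χ₀
  have h1 := isInducedBlock_of_cover hpM (D₀.subgroupOf H₀) hQp
    ((Subgroup.centralizer (D₀ : Set G)).subgroupOf H₀) hCH' ξ' χ₀
    (self_mem_blockOf hM χ₀) (self_mem_blockOf hM ξ') hne
  refine ⟨irrMap (Subgroup.subgroupOfEquivOfLe hCH).symm ''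
    blockOf M (ξ' : (Subgroup.centralizer (D₀ : Set G)).subgroupOf H₀ → ℂ),
    isPBlock_irrMap_image _ ⟨ξ', rfl⟩, ?_⟩
  have h2 : irrMap (Subgroup.subgroupOfEquivOfLe hCH) ''
      (irrMap (Subgroup.subgroupOfEquivOfLe hCH).symm ''
        blockOf M (ξ' : (Subgroup.centralizer (D₀ : Set G)).subgroupOf H₀ → ℂ)) =
      blockOf M (ξ' : (Subgroup.centralizer (D₀ : Set G)).subgroupOf H₀ → ℂ) := by
    rw [Set.image_image]
    have : ∀ ξ : IrrCharacter ((Subgroup.centralizer (D₀ : Set G)).subgroupOf H₀),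
        irrMap (Subgroup.subgroupOfEquivOfLe hCH)
          (irrMap (Subgroup.subgroupOfEquivOfLe hCH).symm ξ) = ξ :=
      fun ξ => irrMap_irrMap_symm _ ξ
    simp only [this, Set.image_id']
  rw [h2]
  exact h1

/-- **From a local pair up to the Brauer correspondent.** -/
theorem ker_normalizer_of_local (hpM : IsPModular p M) {σ : Set ℕ} (hpσ : p ∉ σ)
    {B : Set (IrrCharacter G)} (hB : IsPBlock M B) {D : Subgroup G}
    (hBD : IsDefectGroup p M B D)
    {B₁ : Set (IrrCharacter (Subgroup.normalizer (D : Set G)))}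
    (hB₁ : IsInducedBlock M (Subgroup.normalizer (D : Set G)) B₁ B)
    (hB₁D : IsDefectGroup p M B₁ (D.subgroupOf (Subgroup.normalizer (D : Set G))))
    {D₀ : Subgroup G} (hD₀ : IsPGroup p D₀)
    {b : Set (IrrCharacter ↥(D₀ ⊔ Subgroup.centralizer (D₀ : Set G)))}
    (hb : IsInducedBlock M (D₀ ⊔ Subgroup.centralizer (D₀ : Set G)) b B)
    (hcompl : ∀ x : Subgroup.centralizer (D₀ : Set G),
      (∀ q : ℕ, q.Prime → q ∣ orderOf x → q ∈ σ) →
      x ∈ piCore σ (Subgroup.centralizer (D₀ : Set G)))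
    (hkerb : ∀ x : Subgroup.centralizer (D₀ : Set G),
      x ∈ piCore σ (Subgroup.centralizer (D₀ : Set G)) → ∀ θ ∈ b,
      ∀ h : ↥(D₀ ⊔ Subgroup.centralizer (D₀ : Set G)), (h : G) = (x : G) →
        (θ : ↥(D₀ ⊔ Subgroup.centralizer (D₀ : Set G)) → ℂ) h =
          (θ : ↥(D₀ ⊔ Subgroup.centralizer (D₀ : Set G)) → ℂ) 1) :
    ∀ n : Subgroup.normalizer (D : Set G),
      n ∈ piCore σ (Subgroup.normalizer (D : Set G)) → n ∈ blockKer B₁ := by
  classical
  have := Fintype.ofFinite G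
  have hM : M.IsPrime := isPrime_of_isPModular hpM
  have hp : p.Prime := Fact.out
  set H₀ : Subgroup G := D₀ ⊔ Subgroup.centralizer (D₀ : Set G) with hH₀
  have hCH : Subgroup.centralizer (D₀ : Set G) ≤ H₀ := le_sup_right
  have hHN : H₀ ≤ Subgroup.normalizer (D₀ : Set G) :=
    sup_le Subgroup.le_normalizer (Subgroup.centralizer_le_normalizer _)
  obtain ⟨f, hf, h1⟩ := exists_centralizer_block_of_sup hpM hD₀ hb.1
  have hfB : IsInducedBlock M _ f B := isInducedBlock_trans hM hCH hf h1 hb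
  have hQf : IsBrauerPairOf p M B D₀ f := isBrauerPairOf_of_isInducedBlock hpM hD₀ hfB
  -- the kernel condition for `(D₀, f)`
  set ι : Subgroup.centralizer (D₀ : Set G) →* H₀ := Subgroup.inclusion hCH with hι
  have hιinj : Function.Injective ι := Subgroup.inclusion_injective hCH
  have hLn : ((piCore σ (Subgroup.centralizer (D₀ : Set G))).map ι).Normal := by
    constructor
    rintro y ⟨c, hc, rfl⟩ n
    have hnc : (n : G) * (c : G) * (n : G)⁻¹ ∈ Subgroup.centralizer (D₀ : Set G) := by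
      have hnN : (n : G) ∈ Subgroup.normalizer
          ((Subgroup.centralizer (D₀ : Set G) : Subgroup G) : Set G) :=
        normalizer_le_normalizer_centralizer_of_le le_rfl (hHN n.2)
      exact (Subgroup.mem_normalizer_iff.mp hnN (c : G)).mp c.2
    refine ⟨⟨(n : G) * (c : G) * (n : G)⁻¹, hnc⟩, ?_, ?_⟩
    · exact (piCore_centralizer_stable σ (le_refl (Subgroup.normalizer (D₀ : Set G))) (n : G)
        (hHN n.2) c ⟨(n : G) * (c : G) * (n : G)⁻¹, hnc⟩ rfl).mp hc
    · apply Subtype.ext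
      rfl
  have hLcard : ¬ p ∣ Nat.card ((piCore σ (Subgroup.centralizer (D₀ : Set G))).map ι) := by
    rw [Subgroup.card_map_of_injective hιinj]
    exact not_dvd_card_piCore hp hpσ
  have hK : KerP σ (⟨D₀, f⟩ : BrauerPairIdx G) := by
    intro c hc θ hθ
    refine ker_down_of_induced' hpM hCH h1 _ hLcard ?_ c ⟨c, hc, rfl⟩ θ hθ
    rintro n ⟨c', hc', rfl⟩ θ' hθ'
    exact hkerb c' hc' θ' hθ' (ι c') rfl
  have hH : HallP σ (⟨D₀, f⟩ : BrauerPairIdx G) := hcompl
  -- go up to a maximal pair on `D`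
  obtain ⟨e, hDe⟩ := exists_isBrauerPairOf_of_isDefectGroup hpM hB hBD
  have hmax := isMaximalBrauerPair_of_isDefectGroup hpM hDe hBD
  obtain ⟨x, hle⟩ := exists_conj_subpairLE hpM hmax hQf
  have h2 := hall_kerP_of_le hpM hpσ hle
    ⟨(hallP_conj_iff σ D₀ x f).mpr hH, (kerP_conj_iff σ D₀ x f).mpr hK⟩
  exact (kerP_top_iff hpM hpσ hB hBD hB₁ hB₁D hDe).mpr h2.2

end Cfsg.Agent.Lib.Helper16
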