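import Cfsg.Agent.Lib.Helper74.PReg4
import Cfsg.Agent.Lib.Helper76.CentralChar
import Cfsg.Agent.Lib.Helper77.PPow
import Cfsg.Agent.Lib.Helper84.PCore
import Cfsg.Agent.S0906
import Cfsg.Agent.S0908
import Cfsg.Agent.S0912

/-!
# Characters of maximal `p`-degree over a central `p`-subgroup (helper16)

`D` a central `p`-subgroup, `χ` irreducible with `ν_p(χ(1)) = ν_p(|G : D|)`.  Then `χ` vanishes
off the elements whose `p`-part lies in `D`, and `D` is a defect group of the block of `χ`.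
-/

set_option autoImplicit false

namespace Cfsg.Agent.Lib.Helper16

open Cfsg Cfsg.Agent.Lib.Helper74 Cfsg.Agent.Lib.Helper76 Cfsg.Agent.Lib.Helper77
  Cfsg.Agent.Lib.Helper81
open scoped ComplexConjugate

universe u

variable {G : Type u} [Group G]

theorem isPPart_unique [Finite G] (p : ℕ) [Fact p.Prime] {g x x' : G} (h : IsPPart p g x)
    (h' : IsPPart p g x') : x = x' := by
  have hp : p.Prime := Fact.out
  obtain ⟨K, r, N, hcard, hpr, hrN, hN1⟩ := exists_ppart_exponent G p hp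
  rw [← pow_eq_of_isPPart hp hcard hpr hrN hN1 h, ← pow_eq_of_isPPart hp hcard hpr hrN hN1 h']

theorem normSq_mul_central [Finite G] (χ : IrrCharacter G) (z : G) (hz : z ∈ Subgroup.center G)
    (g : G) :
    Complex.normSq ((χ : G → ℂ) (g * z)) = Complex.normSq ((χ : G → ℂ) g) := by
  rw [irr_mul_central' χ z hz g, Complex.normSq_mul]
  have h1 : Complex.normSq (om χ z) = 1 := by
    have h2 : ((Complex.normSq (om χ z) : ℝ) : ℂ) = 1 := by
      rw [← Complex.mul_conj, om_conj, om_mul_inv χ z hz]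
    exact_mod_cast h2
  rw [h1, one_mul]

theorem isPPart_mul_central (p : ℕ) [Fact p.Prime] (D : Subgroup G) (hD : IsPGroup p D)
    (hDZ : D ≤ Subgroup.center G) {d y : G} (hd : d ∈ D) (hy : ¬ p ∣ orderOf y) :
    IsPPart p (y * d) d := by
  have hc : y * d = d * y := Subgroup.mem_center_iff.1 (hDZ hd) y
  refine ⟨y, hc.symm, hc.symm, ?_, hy⟩
  obtain ⟨k, hk⟩ := (IsPGroup.iff_orderOf.1 hD) ⟨d, hd⟩
  exact ⟨k, by rw [← hk, Subgroup.orderOf_mk]⟩

open Classical in
theorem laradji_aux [Fintype G] (p : ℕ) [Fact p.Prime] (D : Subgroup G) (hD : IsPGroup p D)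
    (hDZ : D ≤ Subgroup.center G) (χ : IrrCharacter G)
    (hdeg : (charDegree (χ : G → ℂ)).factorization p = D.index.factorization p) :
    (∀ g : G, (∀ d ∈ D, ∀ y : G, ¬ p ∣ orderOf y → y * d ≠ g) → (χ : G → ℂ) g = 0) ∧
    classInner (pTilde p (χ : G → ℂ)) (χ : G → ℂ) =
      ((p ^ D.index.factorization p : ℕ) : ℂ) := by
  have hp : p.Prime := Fact.out
  set N : G → ℝ := fun g => Complex.normSq ((χ : G → ℂ) g) with hN
  have hN0 : ∀ g, 0 ≤ N g := fun g => Complex.normSq_nonneg _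
  set R : Finset G := Finset.univ.filter (fun x : G => ¬ p ∣ orderOf x) with hR
  set Df : Finset G := Finset.univ.filter (fun x : G => x ∈ D) with hDf
  set SR : ℝ := ∑ y ∈ R, N y with hSR
  have hG0 : (Nat.card G : ℂ) ≠ 0 := by exact_mod_cast Nat.card_pos.ne'
  have hG0r : (0 : ℝ) < (Nat.card G : ℝ) := by exact_mod_cast Nat.card_pos
  -- the total sum
  have htot : ∑ g : G, N g = (Nat.card G : ℝ) := by
    have h1 := Cfsg.Agent.Lib.Helper3.classInner_irr χ.2 χ.2
    rw [if_pos rfl] at h1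
    unfold classInner at h1
    have h2 : ∑ g : G, (χ : G → ℂ) g * conj ((χ : G → ℂ) g) = ((∑ g : G, N g : ℝ) : ℂ) := by
      rw [Complex.ofReal_sum]
      exact Finset.sum_congr rfl fun g _ => Complex.mul_conj _
    rw [h2] at h1
    have h3 : ((∑ g : G, N g : ℝ) : ℂ) = (Nat.card G : ℂ) := by
      field_simp at h1
      exact h1
    exact_mod_cast h3
  -- cardinalities
  obtain ⟨d, hd⟩ := hD.exists_card_eq
  set e := D.index.factorization p with he
  set a := (Nat.card G).factorization p with ha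
  have hcardG : Nat.card G = Nat.card D * D.index := (Subgroup.card_mul_index D).symm
  have hidx0 : D.index ≠ 0 := Subgroup.index_ne_zero_of_finite
  have hae : a = d + e := by
    rw [ha, hcardG, Nat.factorization_mul (by rw [hd]; exact (pow_pos hp.pos _).ne') hidx0, hd,
      hp.factorization_pow]
    simp
    rfl
  -- the integer t
  obtain ⟨t, ht⟩ := pTilde_int p χ χ
  have hdvd := pTilde_dvd_left p χ χ t ht
  rw [hdeg] at hdvd
  have htreal : (t : ℝ) = (Nat.card G : ℝ)⁻¹ * (((p ^ a : ℕ) : ℝ) * SR) := by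
    have h1 : ∑ g : G, pTilde p (χ : G → ℂ) g * conj ((χ : G → ℂ) g) =
        ((((p ^ a : ℕ) : ℝ) * SR : ℝ) : ℂ) := by
      rw [hSR, Finset.sum_filter, Finset.mul_sum, Complex.ofReal_sum]
      apply Finset.sum_congr rfl
      intro g _
      simp only [pTilde_apply]
      split_ifs with h
      · simp
      · rw [mul_assoc, Complex.mul_conj]
        push_cast
        rfl
    unfold classInner at ht
    rw [h1] at ht
    have h2 : (((Nat.card G : ℝ)⁻¹ * (((p ^ a : ℕ) : ℝ) * SR) : ℝ) : ℂ) = ((t : ℝ) : ℂ) := by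
      push_cast
      push_cast at ht
      exact ht
    exact (Complex.ofReal_injective h2).symm
  have hone : (1 : G) ∈ R := by
    rw [hR, Finset.mem_filter]
    refine ⟨Finset.mem_univ _, ?_⟩
    rw [orderOf_one]
    exact hp.one_lt.ne' ∘ Nat.dvd_one.1
  have hχ1 : (χ : G → ℂ) 1 ≠ 0 := by
    rw [irr_apply_one_eq_charDegree]
    exact_mod_cast irr_charDegree_ne_zero χ
  have hSRpos : 0 < SR := by
    have h1 : N 1 ≤ SR := Finset.single_le_sum (fun g _ => hN0 g) hone
    have h2 : 0 < N 1 := Complex.normSq_pos.2 hχ1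
    linarith
  have hpa : (0 : ℝ) < ((p ^ a : ℕ) : ℝ) := by exact_mod_cast pow_pos hp.pos a
  have htpos : 0 < t := by
    have : (0 : ℝ) < (t : ℝ) := by rw [htreal]; positivity
    exact_mod_cast this
  have hle : ((p ^ e : ℕ) : ℤ) ≤ t := Int.le_of_dvd htpos hdvd
  have hler : ((p ^ e : ℕ) : ℝ) ≤ (t : ℝ) := by exact_mod_cast hle
  -- the image sum
  set f : G × G → G := fun q => q.2 * q.1 with hf
  have hinj : Set.InjOn f ((Df ×ˢ R : Finset (G × G)) : Set (G × G)) := by
    rintro ⟨d1, y1⟩ h1 ⟨d2, y2⟩ h2 h12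
    rw [Finset.mem_coe, Finset.mem_product] at h1 h2
    simp only [hDf, hR, Finset.mem_filter, Finset.mem_univ, true_and] at h1 h2
    simp only [hf] at h12
    have e1 := isPPart_mul_central p D hD hDZ h1.1 h1.2
    have e2 := isPPart_mul_central p D hD hDZ h2.1 h2.2
    rw [← h12] at e2
    have hdd : d1 = d2 := isPPart_unique p e1 e2
    subst hdd
    have hyy : y1 = y2 := mul_right_cancel h12
    rw [hyy]
  set I : Finset G := (Df ×ˢ R).image f with hI
  have hcardDf : (Df.card : ℝ) = (Nat.card D : ℝ) := by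
    have : Nat.card D = Df.card := by
      rw [Nat.card_eq_fintype_card, hDf]
      exact Fintype.card_subtype _
    rw [this]
  have himg : ∑ g ∈ I, N g = (Nat.card D : ℝ) * SR := by
    rw [hI, Finset.sum_image hinj, Finset.sum_product]
    have h1 : ∀ d1 ∈ Df, ∑ y ∈ R, N (f (d1, y)) = SR := by
      intro d1 hd1
      rw [hSR]
      apply Finset.sum_congr rfl
      intro y _
      have hd1' : d1 ∈ D := (Finset.mem_filter.1 hd1).2
      exact normSq_mul_central χ d1 (hDZ hd1') y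
    rw [Finset.sum_congr rfl h1, Finset.sum_const, nsmul_eq_mul, hcardDf]
  have hsplit : ∑ g ∈ I, N g + ∑ g ∈ Iᶜ, N g = ∑ g : G, N g := Finset.sum_add_sum_compl I N
  have hC0 : 0 ≤ ∑ g ∈ Iᶜ, N g := Finset.sum_nonneg fun g _ => hN0 g
  have hDr : (Nat.card D : ℝ) = ((p ^ d : ℕ) : ℝ) := by rw [hd]
  have hpd : (0 : ℝ) < ((p ^ d : ℕ) : ℝ) := by exact_mod_cast pow_pos hp.pos d
  have hpe : (0 : ℝ) < ((p ^ e : ℕ) : ℝ) := by exact_mod_cast pow_pos hp.pos e
  have hpae : ((p ^ a : ℕ) : ℝ) = ((p ^ d : ℕ) : ℝ) * ((p ^ e : ℕ) : ℝ) := by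
    rw [hae, pow_add]; push_cast; ring
  -- |D| * SR ≥ |G|
  have hge : (Nat.card G : ℝ) ≤ (Nat.card D : ℝ) * SR := by
    rw [htreal, hpae, hDr.symm] at hler
    have h1 : ((p ^ e : ℕ) : ℝ) * (Nat.card G : ℝ) ≤
        ((p ^ e : ℕ) : ℝ) * ((Nat.card D : ℝ) * SR) := by
      have h2 := mul_le_mul_of_nonneg_right hler hG0r.le
      have h3 : (Nat.card G : ℝ)⁻¹ * ((Nat.card D : ℝ) * ((p ^ e : ℕ) : ℝ) * SR) *
          (Nat.card G : ℝ) = ((p ^ e : ℕ) : ℝ) * ((Nat.card D : ℝ) * SR) := by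
        field_simp
      rw [h3] at h2
      exact h2
    exact le_of_mul_le_mul_left h1 hpe
  have hCz : ∑ g ∈ Iᶜ, N g = 0 := by
    rw [himg, htot] at hsplit
    linarith
  have hDS : (Nat.card D : ℝ) * SR = (Nat.card G : ℝ) := by
    rw [himg, htot, hCz, add_zero] at hsplit
    exact hsplit
  constructor
  · intro g hg
    have hgI : g ∈ Iᶜ := by
      rw [Finset.mem_compl, hI, Finset.mem_image]
      rintro ⟨⟨d1, y1⟩, h1, h2⟩
      rw [Finset.mem_product] at h1
      simp only [hDf, hR, Finset.mem_filter, Finset.mem_univ, true_and] at h1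
      exact hg d1 h1.1 y1 h1.2 h2
    have := (Finset.sum_eq_zero_iff_of_nonneg (fun g _ => hN0 g)).1 hCz g hgI
    exact Complex.normSq_eq_zero.1 this
  · rw [ht]
    have h1 : (t : ℝ) = ((p ^ e : ℕ) : ℝ) := by
      rw [htreal, hpae, ← hDr]
      have : (Nat.card G : ℝ)⁻¹ * ((Nat.card D : ℝ) * ((p ^ e : ℕ) : ℝ) * SR) =
          (Nat.card G : ℝ)⁻¹ * ((Nat.card D : ℝ) * SR) * ((p ^ e : ℕ) : ℝ) := by ring
      rw [this, hDS, inv_mul_cancel₀ hG0r.ne', one_mul]
    have h2 : t = ((p ^ e : ℕ) : ℤ) := by exact_mod_cast h1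
    rw [h2]
    push_cast
    rfl

end Cfsg.Agent.Lib.Helper16
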