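import Cfsg.Agent.Lib.Helper77.BlockIdem
import Mathlib.RingTheory.LocalRing.Basic
import Mathlib.RingTheory.LocalRing.MaximalIdeal.Basic
import Mathlib.RingTheory.RootsOfUnity.Complex
import Mathlib.Algebra.Ring.GeomSum

/-!
# The local ring at `M` as a local ring in the sense of Mathlib
-/

set_option autoImplicit false

namespace Cfsg.Agent.Lib.Helper16

open Cfsg Cfsg.Agent.Lib.Helper77 Cfsg.Agent.Lib.Helper81

variable {M : Ideal AlgInt}

theorem isUnit_of_not_memLocalIdeal (hM : M.IsPrime) (a : localSubring M hM)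
    (ha : ¬ MemLocalIdeal M (a : ℂ)) : IsUnit a := by
  have ha0 : (a : ℂ) ≠ 0 := fun h => ha (h ▸ memLocalIdeal_zero hM)
  refine isUnit_iff_exists_inv.mpr ⟨⟨(a : ℂ)⁻¹, memLocalRing_inv_of_not_memLocalIdeal a.2 ha⟩, ?_⟩
  apply Subtype.ext
  simp [mul_inv_cancel₀ ha0]

theorem not_isUnit_of_memLocalIdeal (hM : M.IsPrime) (a : localSubring M hM)
    (ha : MemLocalIdeal M (a : ℂ)) : ¬ IsUnit a := by
  intro hu
  obtain ⟨b, hb⟩ := isUnit_iff_exists_inv.mp hu
  have h1 : (a : ℂ) * (b : ℂ) = 1 := by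
    have := congrArg (Subtype.val) hb
    simpa using this
  have := memLocalIdeal_mul_right hM ha b.2
  rw [h1] at this
  exact not_memLocalIdeal_one hM this

theorem isLocalRing_localSubring (hM : M.IsPrime) : IsLocalRing (localSubring M hM) := by
  apply IsLocalRing.of_isUnit_or_isUnit_one_sub_self
  intro a
  by_cases ha : MemLocalIdeal M (a : ℂ)
  · right
    apply isUnit_of_not_memLocalIdeal
    intro h
    have h2 : MemLocalIdeal M ((1 : ℂ) - (a : ℂ)) := by simpa using h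
    have := memLocalIdeal_add hM h2 ha
    rw [sub_add_cancel] at this
    exact not_memLocalIdeal_one hM this
  · left
    exact isUnit_of_not_memLocalIdeal hM a ha

theorem natCast_mem_maximalIdeal {p : ℕ} (hpM : IsPModular p M) :
    haveI := isLocalRing_localSubring (isPrime_of_isPModular hpM)
    ((p : ℕ) : localSubring M (isPrime_of_isPModular hpM)) ∈
      IsLocalRing.maximalIdeal (localSubring M (isPrime_of_isPModular hpM)) := by
  have hM := isPrime_of_isPModular hpM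
  have := isLocalRing_localSubring hM
  rw [IsLocalRing.mem_maximalIdeal, mem_nonunits_iff]
  apply not_isUnit_of_memLocalIdeal
  have : MemLocalIdeal M ((p : ℕ) : ℂ) := (memLocalIdeal_natCast_iff hpM p).2 dvd_rfl
  simpa using this

/-- Roots of unity of order prime to `p`, and the inverse of `r`, in the local ring. -/
theorem exists_roots {p : ℕ} (hpM : IsPModular p M) {r : ℕ} (hr : 0 < r) (hpr : ¬ p ∣ r) :
    ∃ ζ θ ρ : localSubring M (isPrime_of_isPModular hpM), ζ * θ = 1 ∧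
      ((r : ℕ) : localSubring M (isPrime_of_isPModular hpM)) * ρ = 1 ∧ θ ^ r = 1 ∧
      ∀ i, 0 < i → i < r → ∑ k ∈ Finset.range r, (θ ^ i) ^ k = 0 := by
  have hM := isPrime_of_isPModular hpM
  set ζ₀ : ℂ := Complex.exp (2 * Real.pi * Complex.I / r) with hζ₀
  have hprim : IsPrimitiveRoot ζ₀ r := Complex.isPrimitiveRoot_exp r hr.ne'
  have hprim' : IsPrimitiveRoot ζ₀⁻¹ r := hprim.inv
  have hint : IsIntegral ℤ ζ₀ := IsIntegral.of_pow hr (by rw [hprim.pow_eq_one]; exact isIntegral_one)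
  have hint' : IsIntegral ℤ ζ₀⁻¹ :=
    IsIntegral.of_pow hr (by rw [hprim'.pow_eq_one]; exact isIntegral_one)
  have hζ0 : ζ₀ ≠ 0 := hprim.ne_zero hr.ne'
  have hr0 : (r : ℂ) ≠ 0 := Nat.cast_ne_zero.mpr hr.ne'
  refine ⟨⟨ζ₀, memLocalRing_algInt hM ⟨ζ₀, hint⟩⟩, ⟨ζ₀⁻¹, memLocalRing_algInt hM ⟨ζ₀⁻¹, hint'⟩⟩,
    ⟨(r : ℂ)⁻¹, memLocalRing_inv_natCast hpM hpr⟩, ?_, ?_, ?_, ?_⟩
  · apply Subtype.ext
    simp [mul_inv_cancel₀ hζ0]
  · apply Subtype.ext
    simp [mul_inv_cancel₀ hr0]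
  · apply Subtype.ext
    simp only [SubmonoidClass.coe_pow, OneMemClass.coe_one]
    exact hprim'.pow_eq_one
  · intro i hi hir
    apply Subtype.ext
    simp only [AddSubmonoidClass.coe_finsetSum, SubmonoidClass.coe_pow, ZeroMemClass.coe_zero]
    have hne : (ζ₀⁻¹) ^ i ≠ 1 := hprim'.pow_ne_one_of_pos_of_lt hi.ne' hir
    have h1 : ((ζ₀⁻¹) ^ i - 1) * ∑ k ∈ Finset.range r, ((ζ₀⁻¹) ^ i) ^ k = 0 := by
      rw [mul_geom_sum, ← pow_mul, mul_comm, pow_mul, hprim'.pow_eq_one, one_pow, sub_self]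
    rcases mul_eq_zero.mp h1 with h | h
    · exact absurd (sub_eq_zero.mp h) hne
    · exact h

end Cfsg.Agent.Lib.Helper16
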