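import Mathlib
import Cfsg.Agent.Lib.Helper32.Rank2Ker
import Cfsg.Agent.Lib.Helper2.PGroup
import Cfsg.Agent.Lib.Helper87.PPrimeAutProp

/-!
# `p'`-automorphisms of a `p`-group stabilising a characteristic chain `Φ(G) ≤ M ≤ G`
with both factors of order `p`
-/

set_option autoImplicit false

namespace Cfsg.Agent.Lib.Helper16.MetaM1

open Subgroup Cfsg.Agent.Lib.Helper32.Rank2

variable {G : Type*} [Group G]

/-- restriction of automorphisms to a characteristic subgroup -/
def resChar (M : Subgroup G) [hM : M.Characteristic] : MulAut G →* MulAut ↥M where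
  toFun f :=
    { toFun := fun m => ⟨f m, by
        have h := hM.fixed f
        have h2 : (m : G) ∈ M.comap f.toMonoidHom := by rw [h]; exact m.2
        exact h2⟩
      invFun := fun m => ⟨f⁻¹ m, by
        have h := hM.fixed f⁻¹
        have h2 : (m : G) ∈ M.comap (f⁻¹).toMonoidHom := by rw [h]; exact m.2
        exact h2⟩
      left_inv := fun m => Subtype.ext (by simp)
      right_inv := fun m => Subtype.ext (by simp)
      map_mul' := fun a b => Subtype.ext (by simp) }
  map_one' := by ext m; rfl
  map_mul' f g := by ext m; rfl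

theorem resChar_apply (M : Subgroup G) [M.Characteristic] (f : MulAut G) (m : ↥M) :
    ((resChar M f m : ↥M) : G) = f (m : G) := rfl

theorem map_subgroupOf_resChar (M Φ : Subgroup G) [M.Characteristic] [hΦ : Φ.Characteristic]
    (f : MulAut G) :
    (Φ.subgroupOf M).map ((resChar M f : ↥M ≃* ↥M) : ↥M →* ↥M) = Φ.subgroupOf M := by
  ext x
  simp only [Subgroup.mem_map, Subgroup.mem_subgroupOf]
  constructor
  · rintro ⟨y, hy, rfl⟩
    have h := hΦ.fixed f
    have h2 : (y : G) ∈ Φ.comap f.toMonoidHom := by rw [h]; exact hy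
    exact h2
  · intro hx
    refine ⟨(resChar M f)⁻¹ x, ?_, ?_⟩
    · have h := hΦ.fixed f⁻¹
      have h2 : (x : G) ∈ Φ.comap (f⁻¹).toMonoidHom := by rw [h]; exact hx
      exact h2
    · show (resChar M f) ((resChar M f)⁻¹ x) = x
      simp

/-- action on the section `M / (Φ ∩ M)` of two characteristic subgroups -/
def secAut (M Φ : Subgroup G) [M.Characteristic] [Φ.Characteristic] :
    MulAut G →* MulAut (↥M ⧸ Φ.subgroupOf M) where
  toFun f := QuotientGroup.congr (Φ.subgroupOf M) (Φ.subgroupOf M) (resChar M f)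
    (map_subgroupOf_resChar M Φ f)
  map_one' := by
    ext x
    induction x using QuotientGroup.induction_on with
    | H x => rfl
  map_mul' f g := by
    ext x
    induction x using QuotientGroup.induction_on with
    | H x => rfl

theorem secAut_mk (M Φ : Subgroup G) [M.Characteristic] [Φ.Characteristic] (f : MulAut G)
    (m : ↥M) : secAut M Φ f (QuotientGroup.mk m) = QuotientGroup.mk (resChar M f m) := rfl

/-- automorphisms of a group of prime order commute and have exponent dividing `p - 1` -/
theorem mulAut_of_card_prime {C : Type*} [Group C] {p : ℕ} [hp : Fact p.Prime]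
    (hC : Nat.card C = p) (f g : MulAut C) : f * g = g * f ∧ f ^ (p - 1) = 1 := by
  haveI : IsCyclic C := isCyclic_of_prime_card hC
  haveI : Finite C := Nat.finite_of_card_ne_zero (by rw [hC]; exact hp.out.ne_zero)
  constructor
  · have e := IsCyclic.mulAutMulEquiv C
    apply e.injective
    rw [map_mul, map_mul, mul_comm]
  · have h1 : Nat.card (MulAut C) = p - 1 := by
      rw [IsCyclic.card_mulAut, hC, Nat.totient_prime hp.out]
    rw [← h1]
    exact pow_card_eq_one'

theorem eq_one_of_trivial_on_sections [Finite G] {p : ℕ} [Fact p.Prime] (hG : IsPGroup p G)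
    (M : Subgroup G) (k : MulAut G) (hk : (orderOf k).Coprime p)
    (h1 : ∀ x : G, x⁻¹ * k x ∈ M) (h2 : ∀ m ∈ M, m⁻¹ * k m ∈ frattini G) : k = 1 := by
  have hΦ : ∀ (f : MulAut G) (x : G), x ∈ frattini G → f x ∈ frattini G := by
    intro f x hx
    have h := (frattini_characteristic (G := G)).fixed f
    have h2 : x ∈ (frattini G).comap f.toMonoidHom := by rw [h]; exact hx
    exact h2
  have step1 : ∀ (n : ℕ) (m : G), m ∈ M → m⁻¹ * (k ^ n) m ∈ frattini G := by
    intro n
    induction n with
    | zero => intro m _; simp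
    | succ n ih =>
      intro m hm
      have e1 : (k ^ (n + 1)) m = (k ^ n) (k m) := by
        rw [pow_succ, MulAut.mul_apply]
      have e2 : k m = m * (m⁻¹ * k m) := by group
      have e3 : m⁻¹ * (k ^ (n + 1)) m = (m⁻¹ * (k ^ n) m) * (k ^ n) (m⁻¹ * k m) := by
        rw [e1]
        conv_lhs => rw [e2]
        rw [map_mul]
        group
      rw [e3]
      exact mul_mem (ih m hm) (hΦ _ _ (h2 m hm))
  have step2 : ∀ (n : ℕ) (x : G),
      (QuotientGroup.mk ((k ^ n) x) : G ⧸ frattini G) =
        QuotientGroup.mk x * (QuotientGroup.mk (x⁻¹ * k x)) ^ n := by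
    intro n
    induction n with
    | zero => intro x; simp
    | succ n ih =>
      intro x
      have e1 : (k ^ (n + 1)) x = (k ^ n) (k x) := by
        rw [pow_succ, MulAut.mul_apply]
      have e2 : k x = x * (x⁻¹ * k x) := by group
      have e3 : (k ^ (n + 1)) x = (k ^ n) x * (k ^ n) (x⁻¹ * k x) := by
        rw [e1]
        conv_lhs => rw [e2]
        rw [map_mul]
      have e4 : (QuotientGroup.mk ((k ^ n) (x⁻¹ * k x)) : G ⧸ frattini G) =
          QuotientGroup.mk (x⁻¹ * k x) := by
        symm
        rw [QuotientGroup.eq]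
        exact step1 n _ (h1 x)
      rw [e3, QuotientGroup.mk_mul, ih x, e4, pow_succ, mul_assoc]
  have hp : ∀ x : G, (QuotientGroup.mk ((k ^ p) x) : G ⧸ frattini G) = QuotientGroup.mk x := by
    intro x
    rw [step2 p x, ← QuotientGroup.mk_pow]
    have : (x⁻¹ * k x) ^ p ∈ frattini G := Cfsg.Agent.Lib.Helper2.pow_mem_frattini hG _
    rw [(QuotientGroup.eq_one_iff _).2 this, mul_one]
  have hker : autQuot (frattini G) (k ^ p) = 1 := by
    ext v
    induction v using QuotientGroup.induction_on with
    | H x =>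
      rw [autQuot_mk, MulAut.one_apply]
      exact hp x
  obtain ⟨j, hj⟩ := pKer_autQuot_frattini hG (k ^ p) hker
  have hdvd : orderOf k ∣ p ^ (j + 1) := by
    apply orderOf_dvd_of_pow_eq_one
    rw [pow_succ', pow_mul]
    exact hj
  have h1' : orderOf k = 1 := Nat.Coprime.eq_one_of_dvd (hk.pow_right _) hdvd
  exact orderOf_eq_one_iff.1 h1'

theorem pPrimeAutProp_of_chain [Finite G] {p : ℕ} [Fact p.Prime] (hG : IsPGroup p G)
    (M : Subgroup G) [M.Characteristic]
    (hc1 : Nat.card (G ⧸ M) = p) (hc2 : Nat.card (↥M ⧸ (frattini G).subgroupOf M) = p) :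
    Cfsg.Agent.Lib.Helper87.PPrimeAutProp p G := by
  intro H hH
  have key : ∀ k ∈ H, autQuot M k = 1 → secAut M (frattini G) k = 1 → k = 1 := by
    intro k hkH hq1 hq2
    apply eq_one_of_trivial_on_sections hG M k
    · exact Nat.Coprime.coprime_dvd_left (Subgroup.orderOf_dvd_natCard H hkH) hH
    · intro x
      have := congrArg (fun g : MulAut (G ⧸ M) => g (QuotientGroup.mk x)) hq1
      simp only [autQuot_mk, MulAut.one_apply] at this
      exact QuotientGroup.eq.1 this.symm
    · intro m hm
      have := congrArg (fun g : MulAut (↥M ⧸ (frattini G).subgroupOf M) =>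
        g (QuotientGroup.mk ⟨m, hm⟩)) hq2
      simp only [secAut_mk, MulAut.one_apply] at this
      have h3 := QuotientGroup.eq.1 this.symm
      rw [Subgroup.mem_subgroupOf] at h3
      simpa [resChar_apply] using h3
  constructor
  · refine ⟨⟨fun a b => ?_⟩⟩
    have hk : (a : MulAut G) * b * ((b : MulAut G) * a)⁻¹ = 1 := by
      apply key _ (H.mul_mem (H.mul_mem a.2 b.2) (H.inv_mem (H.mul_mem b.2 a.2)))
      · rw [map_mul, map_inv, map_mul, map_mul,
          (mulAut_of_card_prime hc1 (autQuot M a) (autQuot M b)).1, mul_inv_cancel]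
      · rw [map_mul, map_inv, map_mul, map_mul,
          (mulAut_of_card_prime hc2 (secAut M (frattini G) a) (secAut M (frattini G) b)).1,
          mul_inv_cancel]
    apply Subtype.ext
    show (a : MulAut G) * b = b * a
    exact mul_inv_eq_one.1 hk
  · intro h hh
    apply key _ (H.pow_mem hh _)
    · rw [map_pow]
      exact (mulAut_of_card_prime hc1 (autQuot M h) 1).2
    · rw [map_pow]
      exact (mulAut_of_card_prime hc2 (secAut M (frattini G) h) 1).2

end Cfsg.Agent.Lib.Helper16.MetaM1
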