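import Mathlib
import Cfsg.Agent.Lib.Helper2.ClassTwo
import Cfsg.Agent.Lib.Helper30.CyclicSylow

/-!
# A characteristic subgroup strictly between `Φ(G)` and `G` in a nonabelian metacyclic `p`-group,
`p` odd
-/

set_option autoImplicit false
set_option linter.style.haveILetI false

namespace Cfsg.Agent.Lib.Helper16.MetaM1

open Subgroup
open scoped commutatorElement

variable {G : Type*} [Group G] [Finite G] {p : ℕ} [hp : Fact p.Prime]

/-- generators of a metacyclic group -/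
theorem exists_generators (N : Subgroup G) [N.Normal] (hN : IsCyclic N) (hQ : IsCyclic (G ⧸ N)) :
    ∃ a b : G, N = zpowers a ∧ ∀ g : G, ∃ i j : ℕ, g = b ^ j * a ^ i := by
  obtain ⟨⟨a, haN⟩, ha⟩ := hN.exists_generator
  obtain ⟨c, hc⟩ := hQ.exists_generator
  obtain ⟨b, rfl⟩ := QuotientGroup.mk_surjective c
  have hNa : N = zpowers a := by
    ext x
    constructor
    · intro hx
      obtain ⟨k, hk⟩ := Subgroup.mem_zpowers_iff.1 (ha ⟨x, hx⟩)
      have : a ^ k = x := by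
        have := congrArg (fun y : ↥N => (y : G)) hk
        simpa using this
      rw [← this]
      exact zpow_mem (mem_zpowers a) k
    · intro hx
      exact (zpowers_le.2 haN) hx
  refine ⟨a, b, hNa, fun g => ?_⟩
  have h1 : (QuotientGroup.mk g : G ⧸ N) ∈ Submonoid.powers (QuotientGroup.mk b : G ⧸ N) :=
    mem_powers_iff_mem_zpowers.2 (hc _)
  obtain ⟨j, hj⟩ := h1
  have h2 : (b ^ j)⁻¹ * g ∈ N := by
    rw [← QuotientGroup.eq, QuotientGroup.mk_pow]
    exact hj
  rw [hNa] at h2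
  have h3 : (b ^ j)⁻¹ * g ∈ Submonoid.powers a := mem_powers_iff_mem_zpowers.2 h2
  obtain ⟨i, hi⟩ := h3
  refine ⟨i, j, ?_⟩
  have hi' : a ^ i = (b ^ j)⁻¹ * g := hi
  rw [hi']
  group

theorem frattini_index_dvd_sq (hG : IsPGroup p G) (a b : G)
    (hgen : ∀ g : G, ∃ i j : ℕ, g = b ^ j * a ^ i) : (frattini G).index ∣ p ^ 2 := by
  have hpp : p.Prime := hp.out
  haveI : NeZero p := ⟨hpp.ne_zero⟩
  let q : G →* G ⧸ frattini G := QuotientGroup.mk' (frattini G)
  have hqa : (q a) ^ p = 1 := by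
    rw [← map_pow]
    exact (QuotientGroup.eq_one_iff _).2 (Cfsg.Agent.Lib.Helper2.pow_mem_frattini hG a)
  have hqb : (q b) ^ p = 1 := by
    rw [← map_pow]
    exact (QuotientGroup.eq_one_iff _).2 (Cfsg.Agent.Lib.Helper2.pow_mem_frattini hG b)
  let F : Fin p × Fin p → G ⧸ frattini G := fun ij => (q b) ^ (ij.2 : ℕ) * (q a) ^ (ij.1 : ℕ)
  have hF : Function.Surjective F := by
    intro v
    obtain ⟨g, rfl⟩ := QuotientGroup.mk_surjective v
    obtain ⟨i, j, rfl⟩ := hgen g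
    refine ⟨(⟨i % p, Nat.mod_lt _ hpp.pos⟩, ⟨j % p, Nat.mod_lt _ hpp.pos⟩), ?_⟩
    show (q b) ^ (j % p) * (q a) ^ (i % p) = q (b ^ j * a ^ i)
    rw [map_mul, map_pow, map_pow, ← pow_eq_pow_mod j hqb, ← pow_eq_pow_mod i hqa]
  have hcard : Nat.card (G ⧸ frattini G) ≤ p * p := by
    have := Nat.card_le_card_of_surjective F hF
    simpa [Nat.card_prod] using this
  obtain ⟨n, hn⟩ := IsPGroup.iff_card.1 hG
  have hidx : (frattini G).index ∣ p ^ n := hn ▸ Subgroup.index_dvd_card _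
  obtain ⟨r, -, hr⟩ := (Nat.dvd_prime_pow hpp).1 hidx
  rw [Subgroup.index_eq_card] at hr ⊢
  rw [hr] at hcard ⊢
  have : r ≤ 2 := by
    by_contra hcon
    push Not at hcon
    have h3 : p ^ 3 ≤ p ^ r := Nat.pow_le_pow_right hpp.pos hcon
    have h4 : p ^ 2 < p ^ 3 := Nat.pow_lt_pow_right hpp.one_lt (by norm_num)
    have h5 : p * p = p ^ 2 := (sq p).symm
    omega
  exact pow_dvd_pow p this

theorem not_zpowers_le_frattini (hna : ¬ ∀ x y : G, x * y = y * x) (a b : G)
    (hgen : ∀ g : G, ∃ i j : ℕ, g = b ^ j * a ^ i) : ¬ zpowers a ≤ frattini G := by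
  intro hle
  have h1 : zpowers b ⊔ frattini G = ⊤ := by
    rw [eq_top_iff]
    intro g _
    obtain ⟨i, j, rfl⟩ := hgen g
    exact Subgroup.mul_mem_sup (pow_mem (mem_zpowers b) j) (hle (pow_mem (mem_zpowers a) i))
  have h2 : zpowers b = ⊤ := frattini_nongenerating h1
  apply hna
  intro x y
  have hx : x ∈ zpowers b := by rw [h2]; trivial
  have hy : y ∈ zpowers b := by rw [h2]; trivial
  obtain ⟨k, rfl⟩ := Subgroup.mem_zpowers_iff.1 hx
  obtain ⟨l, rfl⟩ := Subgroup.mem_zpowers_iff.1 hy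
  rw [← zpow_add, ← zpow_add, add_comm]

/-- from a characteristic subgroup `X ≠ ⊤` not inside `Φ(G)` we get the chain -/
theorem exists_chain_of_char (hidx : (frattini G).index ∣ p ^ 2)
    (X : Subgroup G) [X.Characteristic] (hX1 : X ≠ ⊤) (hX2 : ¬ X ≤ frattini G) :
    ∃ (M : Subgroup G) (_ : M.Characteristic), Nat.card (G ⧸ M) = p ∧
      Nat.card (↥M ⧸ (frattini G).subgroupOf M) = p := by
  have hpp : p.Prime := hp.out
  refine ⟨X ⊔ frattini G, inferInstance, ?_⟩
  have hM1 : X ⊔ frattini G ≠ ⊤ := fun h => hX1 (frattini_nongenerating h)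
  have hM2 : ¬ X ⊔ frattini G ≤ frattini G := fun h => hX2 (le_trans le_sup_left h)
  have hmul := Subgroup.relIndex_mul_index (le_sup_right : frattini G ≤ X ⊔ frattini G)
  have hv1 : (X ⊔ frattini G).index ≠ 1 := fun h => hM1 (Subgroup.index_eq_one.1 h)
  have hu1 : (frattini G).relIndex (X ⊔ frattini G) ≠ 1 :=
    fun h => hM2 (Subgroup.relIndex_eq_one.1 h)
  have hu : (frattini G).relIndex (X ⊔ frattini G) ∣ p ^ 2 :=
    Dvd.dvd.trans (Dvd.intro _ hmul) hidx
  have hv : (X ⊔ frattini G).index ∣ p ^ 2 :=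
    Dvd.dvd.trans (Dvd.intro_left _ hmul) hidx
  obtain ⟨i, hi, hui⟩ := (Nat.dvd_prime_pow hpp).1 hu
  obtain ⟨j, hj, hvj⟩ := (Nat.dvd_prime_pow hpp).1 hv
  have hi1 : i ≠ 0 := by
    rintro rfl
    exact hu1 (by rw [hui, pow_zero])
  have hj1 : j ≠ 0 := by
    rintro rfl
    exact hv1 (by rw [hvj, pow_zero])
  have hij : i + j ≤ 2 := by
    have h3 : p ^ (i + j) ∣ p ^ 2 := by
      rw [pow_add, ← hui, ← hvj, hmul]
      exact hidx
    exact (Nat.pow_dvd_pow_iff_le_right hpp.one_lt).1 h3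
  have hi2 : i = 1 := by omega
  have hj2 : j = 1 := by omega
  constructor
  · rw [← Subgroup.index_eq_card, hvj, hj2, pow_one]
  · have : Nat.card (↥(X ⊔ frattini G) ⧸ (frattini G).subgroupOf (X ⊔ frattini G)) =
        (frattini G).relIndex (X ⊔ frattini G) := by
      rw [← Subgroup.index_eq_card]
      rfl
    rw [this, hui, hi2, pow_one]

end Cfsg.Agent.Lib.Helper16.MetaM1
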