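import Mathlib
import Cfsg.Prelude
import Cfsg.Agent.Lib.Helper16.MetaSSM1a
import Cfsg.Agent.Lib.Helper16.MetaSSM1b

/-!
# M1 of the S5287 joint project: `p'`-automorphism groups of nonabelian metacyclic `p`-groups, `p` odd
-/

set_option autoImplicit false
set_option linter.style.haveILetI false

namespace Cfsg.Agent.Lib.Helper16.MetaM1

open Subgroup
open scoped commutatorElement

variable {G : Type*} [Group G] [Finite G] {p : ℕ} [hp : Fact p.Prime]

theorem comm_of_central_gen (a b : G) (hgen : ∀ g : G, ∃ i j : ℕ, g = b ^ j * a ^ i)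
    (ha : a ∈ center G) : ∀ x y : G, x * y = y * x := by
  intro x y
  obtain ⟨i, j, rfl⟩ := hgen x
  obtain ⟨k, l, rfl⟩ := hgen y
  have hc : ∀ (n : ℕ) (g : G), Commute (a ^ n) g := fun n g =>
    ((mem_center_iff.1 (pow_mem ha n)) g).symm
  have h1 : Commute (b ^ j * a ^ i) (b ^ l * a ^ k) :=
    Commute.mul_left (Commute.mul_right (Commute.pow_pow_self b j l) (hc k (b ^ j)).symm)
      (Commute.mul_right (hc i (b ^ l)) (hc i (a ^ k)))
  exact h1.eq

theorem commutator_le_of_cyclic_quotient (N : Subgroup G) [N.Normal] (hQ : IsCyclic (G ⧸ N)) :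
    commutator G ≤ N := by
  letI : CommGroup (G ⧸ N) := IsCyclic.commGroup
  have := Abelianization.commutator_subset_ker (QuotientGroup.mk' N)
  rwa [QuotientGroup.ker_mk'] at this

theorem pow_eq_one_of_mem_commutator (hG : IsPGroup p G) (hna : ¬ ∀ x y : G, x * y = y * x)
    (a b : G) (hgen : ∀ g : G, ∃ i j : ℕ, g = b ^ j * a ^ i) (hN : commutator G ≤ zpowers a)
    (hcl : ∀ c ∈ commutator G, c ∈ center G) (n : ℕ) (hn : ∀ x : G, x ^ (p * n) = 1) :
    ∀ w ∈ commutator G, w ^ n = 1 := by
  intro w hw
  have hpp : p.Prime := hp.out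
  have h3 : w ∈ Submonoid.powers a := mem_powers_iff_mem_zpowers.2 (hN hw)
  obtain ⟨s, hs⟩ := h3
  have hs' : a ^ s = w := hs
  by_cases hps : p ∣ s
  · obtain ⟨s', rfl⟩ := hps
    rw [← hs', ← pow_mul, mul_assoc, mul_comm s' n, ← mul_assoc, pow_mul, hn, one_pow]
  · exfalso
    obtain ⟨r, hr⟩ := IsPGroup.iff_orderOf.1 hG a
    have hcop : s.Coprime (orderOf a) := by
      rw [hr]
      exact ((Nat.Prime.coprime_iff_not_dvd hpp).2 hps).symm.pow_right r
    obtain ⟨m, hm⟩ := exists_pow_eq_self_of_coprime hcop
    have hac : a ∈ center G := by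
      rw [← hm, hs']
      exact pow_mem (hcl w hw) m
    exact hna (comm_of_central_gen a b hgen hac)

theorem odd_dvd_choose_two {n : ℕ} (hodd : Odd n) : n ∣ n.choose 2 := by
  obtain ⟨m, hm⟩ := hodd
  refine ⟨m, ?_⟩
  rw [Nat.choose_two_right, hm, Nat.add_sub_cancel, Nat.mul_div_assoc _ (dvd_mul_right 2 m),
    Nat.mul_div_cancel_left m (by norm_num)]

theorem exists_char_X (hp2 : p ≠ 2) (hG : IsPGroup p G) (hna : ¬ ∀ x y : G, x * y = y * x)
    (a b : G) (hgen : ∀ g : G, ∃ i j : ℕ, g = b ^ j * a ^ i) (hN : commutator G ≤ zpowers a) :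
    ∃ (X : Subgroup G) (_ : X.Characteristic), X ≠ ⊤ ∧ ¬ X ≤ frattini G := by
  have hpp : p.Prime := hp.out
  have hafr := not_zpowers_le_frattini hna a b hgen
  by_cases hC : centralizer (commutator G : Set G) = ⊤
  · -- class two
    have hcl : ∀ c ∈ commutator G, c ∈ center G := by
      intro c hc
      rw [mem_center_iff]
      intro g
      have hg : g ∈ centralizer (commutator G : Set G) := by rw [hC]; trivial
      exact (mem_centralizer_iff.1 hg c hc).symm
    obtain ⟨k, hk⟩ := IsPGroup.iff_card.1 hG
    have hE : Monoid.exponent G ∣ p ^ k := hk ▸ Group.exponent_dvd_nat_card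
    obtain ⟨e, -, he⟩ := (Nat.dvd_prime_pow hpp).1 hE
    have he0 : e ≠ 0 := by
      rintro rfl
      rw [pow_zero, Monoid.exp_eq_one_iff] at he
      exact hna (fun x y => by rw [Subsingleton.elim x 1, Subsingleton.elim y 1])
    obtain ⟨e', rfl⟩ := Nat.exists_eq_succ_of_ne_zero he0
    set n : ℕ := p ^ e' with hndef
    have hpn : p * n = Monoid.exponent G := by rw [he, pow_succ, mul_comm]
    have hn : ∀ x : G, x ^ (p * n) = 1 := fun x => by
      rw [hpn]; exact Monoid.pow_exponent_eq_one x
    have hx0 : ∃ x : G, x ^ n ≠ 1 := by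
      by_contra hcon
      push Not at hcon
      have h1 : Monoid.exponent G ∣ n := Monoid.exponent_dvd_of_forall_pow_eq_one hcon
      rw [he, hndef] at h1
      have := (Nat.pow_dvd_pow_iff_le_right hpp.one_lt).1 h1
      omega
    have hodd : Odd n := (hpp.odd_of_ne_two hp2).pow
    have hw := pow_eq_one_of_mem_commutator hG hna a b hgen hN hcl n hn
    have hcomm : ∀ x y : G, ⁅y, x⁆ ∈ commutator G := fun x y =>
      Subgroup.commutator_mem_commutator (Subgroup.mem_top y) (Subgroup.mem_top x)
    have hmul : ∀ x y : G, (x * y) ^ n = x ^ n * y ^ n := by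
      intro x y
      have hz := hcl _ (hcomm x y)
      have hcx : Commute ⁅y, x⁆ x := ((mem_center_iff.1 hz) x).symm
      have hcy : Commute ⁅y, x⁆ y := ((mem_center_iff.1 hz) y).symm
      rw [Cfsg.Agent.Lib.Helper2.mul_pow_of_commutator_central x y hcx hcy n]
      obtain ⟨m, hm⟩ := odd_dvd_choose_two hodd
      rw [hm, pow_mul, hw _ (hcomm x y), one_pow, mul_one]
    let π : G →* G :=
      { toFun := fun x => x ^ n
        map_one' := one_pow n
        map_mul' := hmul }
    have hπ : ∀ x : G, π x = x ^ n := fun _ => rfl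
    have hKchar : (π.ker).Characteristic := by
      rw [characteristic_iff_le_comap]
      intro φ x hx
      rw [MonoidHom.mem_ker, hπ] at hx
      show π (φ x) = 1
      rw [hπ, ← map_pow, hx, map_one]
    have hK1 : π.ker ≠ ⊤ := by
      obtain ⟨x, hx⟩ := hx0
      intro h
      have : x ∈ π.ker := by rw [h]; trivial
      exact hx this
    by_cases hKΦ : π.ker ≤ frattini G
    · -- the preimage of the commutator subgroup
      have hXchar : ((commutator G).comap π).Characteristic := by
        rw [characteristic_iff_le_comap]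
        intro φ x hx
        rw [Subgroup.mem_comap, hπ] at hx
        show π (φ x) ∈ commutator G
        rw [hπ, ← map_pow]
        have h := (inferInstance : (commutator G).Characteristic).fixed φ
        have h2 : x ^ n ∈ (commutator G).comap φ.toMonoidHom := by rw [h]; exact hx
        exact h2
      refine ⟨(commutator G).comap π, hXchar, ?_, ?_⟩
      · intro htop
        have hall : ∀ x : G, x ^ n ∈ commutator G := by
          intro x
          have : x ∈ (commutator G).comap π := by rw [htop]; trivial
          exact this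
        have hrange : π.range ≤ zpowers a := by
          rintro _ ⟨x, rfl⟩
          exact hN (hall x)
        haveI : IsCyclic ↥(π.range) := Subgroup.isCyclic_of_le hrange
        obtain ⟨⟨_, ⟨g, rfl⟩⟩, hy⟩ := (inferInstance : IsCyclic ↥(π.range)).exists_generator
        have h1 : zpowers g ⊔ frattini G = ⊤ := by
          rw [eq_top_iff]
          intro x _
          obtain ⟨j, hj⟩ := Subgroup.mem_zpowers_iff.1 (hy ⟨π x, ⟨x, rfl⟩⟩)
          have hj' : (π g) ^ j = π x := by
            have := congrArg (fun y : ↥(π.range) => (y : G)) hj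
            simpa using this
          have hker : (g ^ j)⁻¹ * x ∈ π.ker := by
            rw [MonoidHom.mem_ker, map_mul, map_inv, map_zpow, hj', inv_mul_cancel]
          have : x = g ^ j * ((g ^ j)⁻¹ * x) := by group
          rw [this]
          exact Subgroup.mul_mem_sup (zpow_mem (mem_zpowers g) j) (hKΦ hker)
        have h2 : zpowers g = ⊤ := frattini_nongenerating h1
        apply hna
        intro x y
        have hx : x ∈ zpowers g := by rw [h2]; trivial
        have hy' : y ∈ zpowers g := by rw [h2]; trivial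
        obtain ⟨k1, rfl⟩ := Subgroup.mem_zpowers_iff.1 hx
        obtain ⟨l1, rfl⟩ := Subgroup.mem_zpowers_iff.1 hy'
        rw [← zpow_add, ← zpow_add, add_comm]
      · intro hle
        apply hafr
        rw [zpowers_le]
        apply hle
        -- `a ^ n` lies in the commutator subgroup
        show π a ∈ commutator G
        rw [hπ]
        have hne : commutator G ≠ ⊥ := by
          intro hbot
          apply hna
          intro x y
          have h1 : ⁅x, y⁆ ∈ commutator G :=
            Subgroup.commutator_mem_commutator (Subgroup.mem_top x) (Subgroup.mem_top y)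
          rw [hbot, Subgroup.mem_bot] at h1
          exact (commutatorElement_eq_one_iff_commute.1 h1).eq
        have hcp : p ∣ Nat.card ↥(commutator G) := by
          obtain ⟨t, ht⟩ := IsPGroup.iff_card.1 (hG.to_subgroup (commutator G))
          have ht0 : t ≠ 0 := by
            rintro rfl
            rw [pow_zero] at ht
            exact hne ((Subgroup.card_eq_one).1 ht)
          rw [ht]
          exact dvd_pow_self p ht0
        obtain ⟨w, hwo⟩ := exists_prime_orderOf_dvd_card' p hcp
        let w' : ↥(zpowers a) := ⟨(w : G), hN w.2⟩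
        let u' : ↥(zpowers a) := ⟨a ^ n, pow_mem (mem_zpowers a) n⟩
        have hw' : orderOf w' = p := by
          rw [← hwo, ← Subgroup.orderOf_coe w, ← Subgroup.orderOf_coe w']
        have hu' : u' ^ p = 1 := by
          apply Subtype.ext
          show (a ^ n) ^ p = 1
          rw [← pow_mul, mul_comm, hn]
        have hmem := Cfsg.Agent.Lib.Helper30.mem_zpowers_of_isCyclic_of_pow_eq_one hw' hu'
        obtain ⟨j, hj⟩ := Subgroup.mem_zpowers_iff.1 hmem
        have hj' : (w : G) ^ j = a ^ n := by
          have := congrArg (fun y : ↥(zpowers a) => (y : G)) hj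
          simpa [w', u'] using this
        rw [← hj']
        exact zpow_mem w.2 j
    · exact ⟨π.ker, hKchar, hK1, hKΦ⟩
  · refine ⟨centralizer (commutator G : Set G), inferInstance, hC, ?_⟩
    intro hle
    apply hafr
    refine le_trans ?_ hle
    rw [zpowers_le, mem_centralizer_iff]
    intro h hh
    obtain ⟨j, rfl⟩ := Subgroup.mem_zpowers_iff.1 (hN hh)
    exact (Commute.zpow_self a j).eq

end Cfsg.Agent.Lib.Helper16.MetaM1

namespace Cfsg.Agent.Lib.Helper87.MetaSS

open Cfsg.Agent.Lib.Helper16.MetaM1

/-- M1. `p` odd, `G` a nonabelian metacyclic `p`-group: every `p'`-subgroup of `Aut G` is abelian of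
exponent dividing `p - 1`. -/
theorem pPrimeAutProp_of_metacyclic_odd {G : Type*} [Group G] [Finite G] {p : ℕ} [Fact p.Prime]
    (hp : p ≠ 2) (hG : IsPGroup p G) (hm : Cfsg.IsMetacyclic G) (hna : ¬ ∀ a b : G, a * b = b * a) :
    Cfsg.Agent.Lib.Helper87.PPrimeAutProp p G := by
  obtain ⟨N, hNn, hNc, hQc⟩ := hm
  obtain ⟨a, b, hNa, hgen⟩ := exists_generators N hNc hQc
  have hcN : commutator G ≤ Subgroup.zpowers a := hNa ▸ commutator_le_of_cyclic_quotient N hQc
  obtain ⟨X, hXc, hX1, hX2⟩ := exists_char_X hp hG hna a b hgen hcN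
  obtain ⟨M, hMc, h1, h2⟩ := exists_chain_of_char (frattini_index_dvd_sq hG a b hgen) X hX1 hX2
  exact pPrimeAutProp_of_chain hG M h1 h2

end Cfsg.Agent.Lib.Helper87.MetaSS
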