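import Cfsg.Agent.Lib.Helper16.GroupTrace
import Cfsg.Agent.Lib.Helper16.LocalS
import Cfsg.Agent.Lib.Helper77.Osima
import Mathlib.GroupTheory.Complement
import Mathlib.GroupTheory.OrderOfElement

/-!
# Weak block orthogonality (exact Osima)

For a block `B`, a `p`-regular `x` and a `p`-singular `y`:
`∑ g, blockCoeff B (x⁻¹ * g * y * g⁻¹) = 0`, equivalently `∑ χ ∈ B, χ x * conj (χ y) = 0`.
-/

set_option autoImplicit false

namespace Cfsg.Agent.Lib.Helper16

open Cfsg Cfsg.Agent.Lib.Helper77 Cfsg.Agent.Lib.Helper81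
open scoped IsMulCommutative

universe u

/-- Decomposition of a `p`-singular element of finite order into its `p`-part `u ≠ 1` and its
`p'`-part. -/
theorem exists_p_decomp {G : Type*} [Group G] {p : ℕ} [Fact p.Prime] (y : G)
    (hy0 : orderOf y ≠ 0) (hy : p ∣ orderOf y) :
    ∃ (u y' : G) (a m : ℕ), u * y' = y ∧ u ∈ Subgroup.zpowers y ∧ y' ∈ Subgroup.zpowers y ∧
      u ≠ 1 ∧ u ^ (p ^ a) = 1 ∧ y' ^ m = 1 ∧ ¬ p ∣ m ∧ 0 < m := by
  have hp : p.Prime := Fact.out
  obtain ⟨a, m, hm, hn⟩ := Nat.exists_eq_pow_mul_and_not_dvd hy0 p hp.ne_one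
  have hm0 : 0 < m := by
    rcases Nat.eq_zero_or_pos m with h | h
    · exact absurd (h ▸ dvd_zero p) hm
    · exact h
  have ha : a ≠ 0 := by
    rintro rfl
    rw [pow_zero, one_mul] at hn
    exact hm (hn ▸ hy)
  have hcop : Nat.Coprime (p ^ a) m := (Nat.Coprime.pow_left a ((Nat.Prime.coprime_iff_not_dvd hp).2 hm))
  obtain ⟨s, t, hst⟩ := Nat.isCoprime_iff_coprime.mpr hcop
  have hyn : y ^ ((p ^ a * m : ℕ) : ℤ) = 1 := by
    rw [zpow_natCast, ← hn, pow_orderOf_eq_one]
  refine ⟨y ^ (t * m), y ^ (s * (p ^ a : ℕ)), a, m, ?_, ⟨_, rfl⟩, ⟨_, rfl⟩, ?_, ?_, ?_, hm, hm0⟩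
  · rw [← zpow_add, add_comm, hst, zpow_one]
  · intro hu
    have h1 : y ^ (s * (p ^ a : ℕ)) = y := by
      have : y ^ (t * m) * y ^ (s * (p ^ a : ℕ)) = y := by
        rw [← zpow_add, add_comm, hst, zpow_one]
      rwa [hu, one_mul] at this
    have h2 : y ^ m = 1 := by
      rw [← h1, ← zpow_natCast, ← zpow_mul]
      have : s * ((p ^ a : ℕ) : ℤ) * (m : ℤ) = ((p ^ a * m : ℕ) : ℤ) * s := by push_cast; ring
      rw [this, zpow_mul, hyn, one_zpow]
    have h3 := orderOf_dvd_of_pow_eq_one h2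
    rw [hn] at h3
    have h4 : p ^ a ∣ 1 := by
      have : p ^ a * m ∣ 1 * m := by rwa [one_mul]
      exact Nat.dvd_of_mul_dvd_mul_right hm0 this
    have h5 := Nat.dvd_one.mp h4
    exact ha ((Nat.pow_eq_one.mp h5).resolve_left hp.ne_one)
  · rw [← zpow_natCast, ← zpow_mul]
    have : t * (m : ℤ) * ((p ^ a : ℕ) : ℤ) = ((p ^ a * m : ℕ) : ℤ) * t := by push_cast; ring
    rw [this, zpow_mul, hyn, one_zpow]
  · rw [← zpow_natCast, ← zpow_mul]
    have : s * ((p ^ a : ℕ) : ℤ) * (m : ℤ) = ((p ^ a * m : ℕ) : ℤ) * s := by push_cast; ring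
    rw [this, zpow_mul, hyn, one_zpow]

variable {G : Type u} [Group G] [Fintype G]

/-- The block idempotent is an idempotent for convolution. -/
theorem blockCoeff_conv_self (B : Set (IrrCharacter G)) :
    conv (blockCoeff B) (blockCoeff B) = blockCoeff B := by
  classical
  apply eq_of_omega_eq (conv_isClassFunction (blockCoeff_isClassFunction B)
    (blockCoeff_isClassFunction B)) (blockCoeff_isClassFunction B)
  intro χ
  rw [omega_conv χ.2 (blockCoeff_isClassFunction B) (blockCoeff_isClassFunction B),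
    omega_blockCoeff]
  split_ifs <;> simp

/-- Weak block orthogonality, idempotent form. -/
theorem sum_blockCoeff_eq_zero {p : ℕ} [Fact p.Prime] {M : Ideal AlgInt} (hpM : IsPModular p M)
    (χ₀ : IrrCharacter G) {x y : G} (hx : ¬ p ∣ orderOf x) (hy : p ∣ orderOf y) :
    ∑ g : G, blockCoeff (blockOf M (χ₀ : G → ℂ)) (x⁻¹ * g * y * g⁻¹) = 0 := by
  classical
  have hM : M.IsPrime := isPrime_of_isPModular hpM
  have hp : p.Prime := Fact.out
  set B := blockOf M (χ₀ : G → ℂ) with hB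
  obtain ⟨u, y', a, m, huy, hu, hy', hu1, hua, hy'm, hpm, hm0⟩ :=
    exists_p_decomp y (orderOf_pos y).ne' hy
  -- the local ring
  let S := localSubring M hM
  have hloc : IsLocalRing S := isLocalRing_localSubring hM
  -- the cyclic p-group
  let Q := Subgroup.zpowers u
  have hQfin : Fintype Q := Fintype.ofFinite Q
  have hQp : IsPGroup p Q := by
    rintro ⟨c, hc⟩
    obtain ⟨k, rfl⟩ := Subgroup.mem_zpowers_iff.mp hc
    refine ⟨a, Subtype.ext ?_⟩
    simp only [SubmonoidClass.mk_pow, OneMemClass.coe_one]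
    rw [← zpow_natCast, ← zpow_mul, mul_comm, zpow_mul, zpow_natCast, hua, one_zpow]
  have hlocR : IsLocalRing (MonoidAlgebra S Q) :=
    isLocalRing_monoidAlgebra p (natCast_mem_maximalIdeal hpM) hQp
  -- the transversal
  obtain ⟨T₀, hT₀, -⟩ := Subgroup.exists_isComplement_left Q (1 : G)
  let σ : T₀ × Q ≃ G := Equiv.ofBijective _ hT₀
  have hσ : ∀ t c, σ (t, c) = (t : G) * (c : G) := fun t c => rfl
  let τ : G ≃ T₀ × Q := σ.symm
  have hT₀fin : Fintype T₀ := Fintype.ofFinite T₀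
  have hτ : ∀ (g : G) (c : Q), τ (g * Q.subtype c) = ((τ g).1, (τ g).2 * c) := by
    intro g c
    apply σ.injective
    rw [Equiv.apply_symm_apply, hσ]
    have : g = ((τ g).1 : G) * ((τ g).2 : G) := by
      rw [← hσ, Prod.mk.eta, Equiv.apply_symm_apply]
    conv_lhs => rw [this]
    simp [mul_assoc]
  -- the idempotent
  let e : G → S := fun g => ⟨blockCoeff B g, memLocalRing_blockCoeff hpM χ₀ g⟩
  have he : ∀ g h : G, e (h * g * h⁻¹) = e g := by
    intro g h
    apply Subtype.ext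
    exact blockCoeff_isClassFunction B g h
  have he2 : ∀ g : G, ∑ h : G, e h * e (h⁻¹ * g) = e g := by
    intro g
    apply Subtype.ext
    have := congrFun (blockCoeff_conv_self B) g
    unfold conv at this
    simpa [e] using this
  -- the order of the p'-part
  set r := orderOf x * m with hr
  have hr0 : 0 < r := Nat.mul_pos (orderOf_pos x) hm0
  have hpr : ¬ p ∣ r := by
    intro h
    rcases (Nat.Prime.dvd_mul hp).mp h with h | h
    · exact hx h
    · exact hpm h
  have hxr : x ^ r = 1 := by rw [hr, pow_mul, pow_orderOf_eq_one, one_pow]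
  have hyr : y' ^ r = 1 := by rw [hr, mul_comm, pow_mul, hy'm, one_pow]
  have hcomm : ∀ c : Q, y' * (Q.subtype c)⁻¹ = (Q.subtype c)⁻¹ * y' := by
    rintro ⟨c, hc⟩
    obtain ⟨k, rfl⟩ := Subgroup.mem_zpowers_iff.mp hc
    obtain ⟨k1, rfl⟩ := Subgroup.mem_zpowers_iff.mp hu
    obtain ⟨k2, rfl⟩ := Subgroup.mem_zpowers_iff.mp hy'
    simp only [Subgroup.subtype_apply]
    rw [← zpow_mul, ← zpow_neg, ← zpow_add, ← zpow_add, add_comm]
  obtain ⟨ζ, θ, ρ, h1, h2, h3, h4⟩ := exists_roots hpM hr0 hpr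
  let c₀ : Q := ⟨u, Subgroup.mem_zpowers u⟩
  have hc₀ : c₀⁻¹ ≠ 1 := by
    intro h
    apply hu1
    have := inv_eq_one.mp h
    exact congrArg Subtype.val this
  have key := sum_eq_zero_of_isLocalRing (S := S) Q.subtype τ hτ he he2 hr0 hxr hyr hcomm h1
    (by simpa using h2) h3 h4 hc₀
  have key2 := congrArg (Subtype.val) key
  simp only [AddSubmonoidClass.coe_finsetSum, ZeroMemClass.coe_zero] at key2
  rw [← key2]
  refine Finset.sum_congr rfl fun g _ => ?_
  show blockCoeff B (x⁻¹ * g * y * g⁻¹) = blockCoeff B _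
  congr 1
  simp only [map_inv, inv_inv, Subgroup.subtype_apply, c₀]
  rw [← huy]
  group

end Cfsg.Agent.Lib.Helper16
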