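import Cfsg.Prelude.Def_Blocks
import Cfsg.Agent.Lib.Helper77.PPow
import Mathlib

/-!
# Groups of the form `G = P C_G(P)`: elementary structure
-/

set_option autoImplicit false

namespace Cfsg.Agent.Lib.Helper16

open Cfsg

universe u

variable {G : Type u} [Group G]

theorem normal_of_sup_centralizer_eq_top (P : Subgroup G)
    (hG : P ⊔ Subgroup.centralizer (P : Set G) = ⊤) : P.Normal := by
  rw [← Subgroup.normalizer_eq_top_iff, eq_top_iff, ← hG]
  exact sup_le Subgroup.le_normalizer (Subgroup.centralizer_le_normalizer _)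

theorem exists_mul_of_sup_centralizer_eq_top (P : Subgroup G)
    (hG : P ⊔ Subgroup.centralizer (P : Set G) = ⊤) (g : G) :
    ∃ v ∈ P, ∃ c ∈ Subgroup.centralizer (P : Set G), v * c = g := by
  have := normal_of_sup_centralizer_eq_top P hG
  have : g ∈ P ⊔ Subgroup.centralizer (P : Set G) := by rw [hG]; trivial
  exact Subgroup.mem_sup_of_normal_left.mp this

/-- Conjugation by any element acts on `P` as conjugation by an element of `P`. -/
theorem exists_conj_eq_of_sup_centralizer_eq_top (P : Subgroup G)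
    (hG : P ⊔ Subgroup.centralizer (P : Set G) = ⊤) (g : G) :
    ∃ v ∈ P, ∀ u ∈ P, g * u * g⁻¹ = v * u * v⁻¹ := by
  obtain ⟨v, hv, c, hc, rfl⟩ := exists_mul_of_sup_centralizer_eq_top P hG g
  refine ⟨v, hv, fun u hu => ?_⟩
  rw [Subgroup.mem_centralizer_iff] at hc
  have h1 : c * u = u * c := (hc u hu).symm
  calc v * c * u * (v * c)⁻¹ = v * (c * u) * c⁻¹ * v⁻¹ := by group
    _ = v * (u * c) * c⁻¹ * v⁻¹ := by rw [h1]
    _ = v * u * v⁻¹ := by group

/-- The index of `C_G(P)` is a power of `p`. -/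
theorem exists_index_centralizer_eq_pow [Finite G] (p : ℕ) [Fact p.Prime] (P : Subgroup G)
    (hP : IsPGroup p P) (hG : P ⊔ Subgroup.centralizer (P : Set G) = ⊤) :
    ∃ k : ℕ, (Subgroup.centralizer (P : Set G)).index = p ^ k := by
  have hp : p.Prime := Fact.out
  have := normal_of_sup_centralizer_eq_top P hG
  have h1 : (Subgroup.centralizer (P : Set G)).index =
      (Subgroup.centralizer (P : Set G)).relIndex P := by
    rw [← Subgroup.relIndex_top_right, ← hG, Subgroup.relIndex_sup_right]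
  obtain ⟨n, hn⟩ := IsPGroup.iff_card.mp hP
  have h2 : (Subgroup.centralizer (P : Set G)).relIndex P ∣ p ^ n := by
    rw [← hn]
    exact Subgroup.index_dvd_card _
  obtain ⟨k, -, hk⟩ := (Nat.dvd_prime_pow hp).mp h2
  exact ⟨k, h1.trans hk⟩

/-- Elements of order prime to `p` centralize `P`. -/
theorem mem_centralizer_of_pRegular [Finite G] (p : ℕ) [Fact p.Prime] (P : Subgroup G)
    (hP : IsPGroup p P) (hG : P ⊔ Subgroup.centralizer (P : Set G) = ⊤) (y : G)
    (hy : ¬ p ∣ orderOf y) : y ∈ Subgroup.centralizer (P : Set G) := by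
  have hp : p.Prime := Fact.out
  have := normal_of_sup_centralizer_eq_top P hG
  obtain ⟨v, hv, c, hc, hvc⟩ := exists_mul_of_sup_centralizer_eq_top P hG y
  rw [← QuotientGroup.eq_one_iff]
  have h1 : ((y : G) : G ⧸ Subgroup.centralizer (P : Set G)) =
      ((v : G) : G ⧸ Subgroup.centralizer (P : Set G)) := by
    rw [← hvc, QuotientGroup.mk_mul, (QuotientGroup.eq_one_iff c).mpr hc, mul_one]
  obtain ⟨k, hk⟩ := hP ⟨v, hv⟩
  have hk' : v ^ p ^ k = 1 := by
    have := congrArg Subtype.val hk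
    simpa using this
  have h2 : orderOf ((y : G) : G ⧸ Subgroup.centralizer (P : Set G)) ∣ p ^ k := by
    rw [h1]
    apply orderOf_dvd_of_pow_eq_one
    rw [← QuotientGroup.mk_pow, hk', QuotientGroup.mk_one]
  have h3 : orderOf ((y : G) : G ⧸ Subgroup.centralizer (P : Set G)) ∣ orderOf y :=
    orderOf_map_dvd (QuotientGroup.mk' _) y
  have hcop : Nat.Coprime (p ^ k) (orderOf y) :=
    Nat.Coprime.pow_left k ((Nat.Prime.coprime_iff_not_dvd hp).mpr hy)
  have h4 := Nat.eq_one_of_dvd_coprimes hcop h2 h3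
  exact orderOf_eq_one_iff.mp h4

end Cfsg.Agent.Lib.Helper16
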