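import Cfsg.Agent.Lib.Helper16.PC1
import Cfsg.Agent.Lib.Helper77.Clifford
import Cfsg.Agent.Lib.Helper3.Complete
import Cfsg.Agent.Lib.Helper16.Degree

/-!
# Groups of the form `G = P C_G(P)`: factorisation of irreducible characters
-/

set_option autoImplicit false

namespace Cfsg.Agent.Lib.Helper16

open Cfsg Cfsg.Agent.Lib.Helper77 Cfsg.Agent.Lib.Helper3
open scoped ComplexConjugate

universe u

variable {G : Type u} [Group G] [Fintype G]

open Classical in
/-- The indicator function of the conjugacy class of `u`. -/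
noncomputable def classInd' (u : G) : G → ℂ := fun w => if IsConj u w then 1 else 0

theorem classInd'_isClassFunction (u : G) : IsClassFunction G (classInd' u) := by
  classical
  intro g h
  unfold classInd'
  have : IsConj u (h * g * h⁻¹) ↔ IsConj u g := by
    constructor
    · intro h1
      exact h1.trans (isConj_iff.mpr ⟨h⁻¹, by group⟩)
    · intro h1
      exact h1.trans (isConj_iff.mpr ⟨h, rfl⟩)
  exact if_congr this rfl rfl

theorem classInd'_self (u : G) : classInd' u u = 1 := by
  unfold classInd'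
  rw [if_pos (IsConj.refl u)]

theorem sum_classInd'_ne_zero (u : G) : ∑ w : G, classInd' u w ≠ 0 := by
  classical
  unfold classInd'
  rw [Finset.sum_boole]
  have : 0 < (Finset.univ.filter (fun w : G => IsConj u w)).card :=
    Finset.card_pos.mpr ⟨u, Finset.mem_filter.mpr ⟨Finset.mem_univ _, IsConj.refl u⟩⟩
  exact_mod_cast this.ne'

/-- In `G = P C_G(P)`, irreducible characters factor on `P × C_G(P)`. -/
theorem char_mul_of_sup_centralizer_eq_top (P : Subgroup G)
    (hG : P ⊔ Subgroup.centralizer (P : Set G) = ⊤) {χ : G → ℂ} (hχ : IsIrrCharacter G χ)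
    {u y : G} (hu : u ∈ P) (hy : y ∈ Subgroup.centralizer (P : Set G)) :
    χ (u * y) * χ 1 = χ u * χ y := by
  classical
  have hcf : IsClassFunction G χ := isClassFunction_of_isCharacter hχ
  have hP := normal_of_sup_centralizer_eq_top P hG
  have key : ∀ z : G, z ∈ Subgroup.centralizer (P : Set G) →
      (∑ w : G, classInd' u w) * χ (u * z) = omega χ (classInd' u) * χ z := by
    intro z hz
    rw [← sum_mul_char_mul hχ (classInd'_isClassFunction u) z, Finset.sum_mul]
    refine Finset.sum_congr rfl fun w _ => ?_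
    unfold classInd'
    by_cases hw : IsConj u w
    · rw [if_pos hw]
      obtain ⟨g, hg⟩ := isConj_iff.mp hw
      obtain ⟨v, hv, hvu⟩ := exists_conj_eq_of_sup_centralizer_eq_top P hG g
      rw [← hg, hvu u hu]
      rw [Subgroup.mem_centralizer_iff] at hz
      have h1 : v⁻¹ * z = z * v⁻¹ := hz v⁻¹ (P.inv_mem hv)
      have h2 : v * u * v⁻¹ * z = v * (u * z) * v⁻¹ := by
        rw [mul_assoc (v * u), h1]; group
      rw [h2, hcf]
    · rw [if_neg hw, zero_mul, zero_mul]
  have k1 := key y hy
  have k2 := key 1 (Subgroup.one_mem _)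
  rw [mul_one] at k2
  have hk := sum_classInd'_ne_zero u
  have : (∑ w : G, classInd' u w) * (χ (u * y) * χ 1) =
      (∑ w : G, classInd' u w) * (χ u * χ y) := by
    calc (∑ w : G, classInd' u w) * (χ (u * y) * χ 1)
        = ((∑ w : G, classInd' u w) * χ (u * y)) * χ 1 := by ring
      _ = omega χ (classInd' u) * χ y * χ 1 := by rw [k1]
      _ = (omega χ (classInd' u) * χ 1) * χ y := by ring
      _ = ((∑ w : G, classInd' u w) * χ u) * χ y := by rw [k2]
      _ = _ := by ring
  exact mul_left_cancel₀ hk this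

/-- In `G = P C_G(P)`, the restriction of an irreducible character to `P` is a multiple of
a single irreducible character of `P`. -/
theorem exists_irr_restrict_of_sup_centralizer_eq_top (P : Subgroup G) [Fintype P]
    [Fintype (IrrCharacter P)]
    (hG : P ⊔ Subgroup.centralizer (P : Set G) = ⊤) {χ : G → ℂ} (hχ : IsIrrCharacter G χ) :
    ∃ μ : IrrCharacter P, ∀ u : P, χ (u : G) * (μ : P → ℂ) 1 = (μ : P → ℂ) u * χ 1 := by
  classical
  have hcf : IsClassFunction G χ := isClassFunction_of_isCharacter hχ
  have hPn := normal_of_sup_centralizer_eq_top P hG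
  have hχ1 : χ 1 ≠ 0 := by
    obtain ⟨d, hd, hd1, -⟩ := Cfsg.Agent.Lib.Helper16.irr_degree_spec (⟨χ, hχ⟩ : IrrCharacter G)
    have : χ 1 = (d : ℂ) := hd1
    rw [this]
    exact_mod_cast hd.ne'
  -- pick a constituent
  have hres : IsClassFunction P (fun h : P => χ h) := by
    intro h k
    show χ ((k * h * k⁻¹ : P) : G) = χ h
    push_cast
    exact hcf _ _
  have hex : ∃ μ : IrrCharacter P, classInner (fun h : P => χ h) (μ : P → ℂ) ≠ 0 := by
    by_contra hcon
    push Not at hcon
    have h1 := classFunction_eq_sum hres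
    have h2 : (fun h : P => χ h) = 0 := by
      rw [h1]
      apply Finset.sum_eq_zero
      intro μ _
      rw [hcon μ, zero_smul]
    have h3 := congrFun h2 1
    exact hχ1 h3
  obtain ⟨μ, hμ⟩ := hex
  refine ⟨μ, fun u => ?_⟩
  have hμcf : IsClassFunction P (μ : P → ℂ) := isClassFunction_of_isCharacter μ.2
  have hsupp : ∀ g, g ∉ P → classInd' (u : G) g = 0 := by
    intro g hg
    unfold classInd'
    rw [if_neg]
    intro hc
    obtain ⟨c, hc⟩ := isConj_iff.mp hc
    apply hg
    rw [← hc]
    exact hPn.conj_mem _ u.2 c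
  have h1 := omega_eq_of_classInner_ne_zero P hχ μ.2 hμ (classInd'_isClassFunction (u : G)) hsupp
  unfold omega at h1
  have h2 : ∑ g : G, classInd' (u : G) g * χ g = (∑ g : G, classInd' (u : G) g) * χ u := by
    rw [Finset.sum_mul]
    refine Finset.sum_congr rfl fun g _ => ?_
    unfold classInd'
    by_cases hg : IsConj (u : G) g
    · rw [if_pos hg]
      obtain ⟨c, hc⟩ := isConj_iff.mp hg
      rw [← hc, hcf]
    · rw [if_neg hg, zero_mul, zero_mul]
  have h3 : ∑ h : P, classInd' (u : G) (h : G) * (μ : P → ℂ) h =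
      (∑ h : P, classInd' (u : G) (h : G)) * (μ : P → ℂ) u := by
    rw [Finset.sum_mul]
    refine Finset.sum_congr rfl fun h _ => ?_
    unfold classInd'
    by_cases hg : IsConj (u : G) (h : G)
    · rw [if_pos hg]
      obtain ⟨c, hc⟩ := isConj_iff.mp hg
      obtain ⟨v, hv, hvu⟩ := exists_conj_eq_of_sup_centralizer_eq_top P hG c
      have h4 : h = (⟨v, hv⟩ : P) * u * (⟨v, hv⟩ : P)⁻¹ := by
        apply Subtype.ext
        push_cast
        rw [← hvu u u.2, hc]
      rw [h4, hμcf]
    · rw [if_neg hg, zero_mul, zero_mul]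
  have h4 : ∑ h : P, classInd' (u : G) (h : G) = ∑ g : G, classInd' (u : G) g := by
    rw [← Finset.sum_subtype (Finset.univ.filter (fun g : G => g ∈ P)) (by simp)
      (fun g => classInd' (u : G) g)]
    rw [Finset.sum_filter]
    refine Finset.sum_congr rfl fun g _ => ?_
    split_ifs with hg
    · rfl
    · exact (hsupp g hg).symm
  rw [h2, h3, h4] at h1
  have hk := sum_classInd'_ne_zero (u : G)
  have hμ1 : (μ : P → ℂ) 1 ≠ 0 := by
    obtain ⟨d, hd, hd1, -⟩ := Cfsg.Agent.Lib.Helper16.irr_degree_spec μ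
    rw [hd1]
    exact_mod_cast hd.ne'
  rw [div_eq_div_iff hχ1 hμ1] at h1
  have : (∑ g : G, classInd' (u : G) g) * (χ u * (μ : P → ℂ) 1) =
      (∑ g : G, classInd' (u : G) g) * ((μ : P → ℂ) u * χ 1) := by
    linear_combination h1
  exact mul_left_cancel₀ hk this

end Cfsg.Agent.Lib.Helper16
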