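import Cfsg.Agent.Lib.Helper16.PC2
import Cfsg.Agent.Lib.Helper74.DZ4
import Cfsg.Agent.Lib.Helper77.Osima
import Cfsg.Agent.Lib.Helper77.Fourier

/-!
# Defect zero characters are alone in their block; a Fourier lemma
-/

set_option autoImplicit false

namespace Cfsg.Agent.Lib.Helper16

open Cfsg Cfsg.Agent.Lib.Helper77 Cfsg.Agent.Lib.Helper3 Cfsg.Agent.Lib.Helper81
open scoped ComplexConjugate

universe u

variable {G : Type u} [Group G] [Fintype G]

/-- A character of defect zero is the only member of its block. -/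
theorem eq_of_sameBlock_of_defect_zero {p : ℕ} [Fact p.Prime] {M : Ideal AlgInt}
    (hM : IsPModular p M) (χ ψ : IrrCharacter G)
    (hdeg : (charDegree (χ : G → ℂ)).factorization p = (Nat.card G).factorization p)
    (hsame : SameBlock M (χ : G → ℂ) (ψ : G → ℂ)) : χ = ψ := by
  classical
  have hp : p.Prime := Fact.out
  have hMp : M.IsPrime := isPrime_of_isPModular hM
  obtain ⟨d, hd0, hd1, hdc, hdvd⟩ := irr_degree_spec χ
  obtain ⟨k, hk⟩ := hdvd
  have hG0 : Nat.card G ≠ 0 := Nat.card_pos.ne'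
  have hk0 : k ≠ 0 := by
    intro h; rw [h, mul_zero] at hk; exact hG0 hk
  have hpk : ¬ p ∣ k := by
    apply Cfsg.Agent.Lib.Helper74.not_dvd_cofactor hp hG0 hk
    rw [← hdeg, hdc]
    exact Nat.ordProj_dvd d p
  have hcoef : ∀ g : G, blockCoeff ({χ} : Set (IrrCharacter G)) g =
      (k : ℂ)⁻¹ * conj ((χ : G → ℂ) g) := by
    intro g
    unfold blockCoeff
    rw [finsum_mem_singleton, hd1, hk, Nat.cast_mul, mul_inv, mul_assoc, ← mul_assoc _ (d : ℂ),
      mul_comm ((k : ℂ)⁻¹)]
    rw [mul_assoc, ← mul_assoc, inv_mul_cancel₀ (Nat.cast_ne_zero.mpr hd0.ne'), one_mul]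
  have hS : ∀ g, MemLocalRing M (blockCoeff ({χ} : Set (IrrCharacter G)) g) := by
    intro g
    rw [hcoef]
    apply memLocalRing_mul hMp (memLocalRing_inv_natCast hM hpk)
    rw [← Cfsg.Agent.Lib.Helper80.irr_conj_inv]
    exact memLocalRing_algInt hMp ⟨_, Cfsg.Agent.Lib.Helper80.irr_isIntegral χ g⁻¹⟩
  have h1 := memLocalIdeal_omega_sub hMp (isClassFunction_of_isCharacter χ.2)
    (isClassFunction_of_isCharacter ψ.2) hsame (blockCoeff_isClassFunction _) hS
  rw [omega_blockCoeff, omega_blockCoeff, if_pos (Set.mem_singleton χ)] at h1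
  by_contra hne
  rw [if_neg (fun h : ψ ∈ ({χ} : Set (IrrCharacter G)) => hne (Set.mem_singleton_iff.mp h).symm),
    sub_zero] at h1
  exact not_memLocalIdeal_one hMp h1

/-- Fourier lemma: a combination of irreducible characters vanishing off the identity is a
multiple of the regular character. -/
theorem coeff_eq_of_vanish_off_one [Fintype (IrrCharacter G)] (c : IrrCharacter G → ℂ)
    (h : ∀ u : G, u ≠ 1 → ∑ μ : IrrCharacter G, c μ * (μ : G → ℂ) u = 0)
    (μ : IrrCharacter G) :
    c μ = (Nat.card G : ℂ)⁻¹ * (∑ ν : IrrCharacter G, c ν * (ν : G → ℂ) 1) * (μ : G → ℂ) 1 := by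
  classical
  have h1 : classInner (∑ ν : IrrCharacter G, c ν • (ν : G → ℂ)) (μ : G → ℂ) = c μ := by
    rw [classInner_sum_left, Finset.sum_eq_single μ]
    · rw [classInner_smul_left, classInner_irr μ.2 μ.2, if_pos rfl, mul_one]
    · intro ν _ hν
      rw [classInner_smul_left, classInner_irr ν.2 μ.2,
        if_neg (fun h : (ν : G → ℂ) = (μ : G → ℂ) => hν (Subtype.ext h)), mul_zero]
    · intro h; exact absurd (Finset.mem_univ _) h
  rw [← h1]
  unfold classInner
  rw [Finset.sum_eq_single (1 : G)]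
  · have hμ1 : conj ((μ : G → ℂ) 1) = (μ : G → ℂ) 1 := by
      obtain ⟨d, -, hd1, -⟩ := irr_degree_spec μ
      rw [hd1, Complex.conj_natCast]
    rw [hμ1, Finset.sum_apply]
    simp only [Pi.smul_apply, smul_eq_mul]
    ring
  · intro u _ hu
    rw [Finset.sum_apply]
    simp only [Pi.smul_apply, smul_eq_mul]
    rw [h u hu, zero_mul]
  · intro h; exact absurd (Finset.mem_univ _) h

end Cfsg.Agent.Lib.Helper16
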