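import Cfsg.Agent.Lib.Helper16.PC3
import Cfsg.Agent.Lib.Helper16.NormalDefect
import Cfsg.Agent.S0941
import Cfsg.Agent.S0924
import Cfsg.Agent.Lib.Helper77.DefectConj
import Cfsg.Agent.Lib.Helper77.InducedBlock2

/-!
# Blocks with a normal defect group: the canonical character
-/

set_option autoImplicit false

namespace Cfsg.Agent.Lib.Helper16

open Cfsg Cfsg.Agent.Lib.Helper77 Cfsg.Agent.Lib.Helper3 Cfsg.Agent.Lib.Helper81
open scoped ComplexConjugate

universe u

/-- In a block with normal defect group `P`, a character with `P` in its kernel has degree with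
`p`-part that of `|H : P|`. -/
theorem val_degree_of_ker {H : Type u} [Group H] [Finite H] (p : ℕ) [Fact p.Prime]
    (M : Ideal AlgInt) (hM : IsPModular p M) (P : Subgroup H) [P.Normal]
    (b : Set (IrrCharacter H)) (hb : IsPBlock M b) (hP : IsDefectGroup p M b P)
    (ξ : IrrCharacter H) (hξ : ξ ∈ b) (hker : ∀ u ∈ P, (ξ : H → ℂ) u = (ξ : H → ℂ) 1) :
    (charDegree (ξ : H → ℂ)).factorization p + (Nat.card P).factorization p =
      (Nat.card H).factorization p := by
  classical
  have := Fintype.ofFinite H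
  have := Fintype.ofFinite (H ⧸ P)
  have hp : p.Prime := Fact.out
  have hcardP := Cfsg.Agent.S0908.result p M hM b hb P hP
  rw [blockDefect_eq] at hcardP
  have hle := minDegVal_le_card p (B := b) ⟨ξ, hξ⟩
  have hPval : (Nat.card P).factorization p = (Nat.card H).factorization p - minDegVal p b := by
    rw [hcardP]
    simp [hp.factorization]
  have hmin := minDegVal_le p hξ
  obtain ⟨ξ', hξ'irr, hξ'val⟩ := Cfsg.Agent.Lib.Helper79.isIrrCharacter_deflate ξ.2 P hker
  have hdeg' : charDegree ξ' = charDegree (ξ : H → ℂ) := by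
    unfold charDegree
    have := hξ'val 1
    rw [QuotientGroup.mk_one] at this
    rw [this]
  obtain ⟨d, hd0, -, hd2, hd3⟩ := irr_degree_spec (⟨ξ', hξ'irr⟩ : IrrCharacter (H ⧸ P))
  have hd2' : charDegree ξ' = d := hd2
  have hcardq : Nat.card H = Nat.card (H ⧸ P) * Nat.card P :=
    Subgroup.card_eq_card_quotient_mul_card_subgroup P
  have hfac : (Nat.card H).factorization p =
      (Nat.card (H ⧸ P)).factorization p + (Nat.card P).factorization p := by
    rw [hcardq, Nat.factorization_mul Nat.card_pos.ne' Nat.card_pos.ne']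
    rfl
  have hle2 : d.factorization p ≤ (Nat.card (H ⧸ P)).factorization p :=
    (Nat.factorization_le_iff_dvd hd0.ne' Nat.card_pos.ne').mpr hd3 p
  rw [← hdeg', hd2']
  rw [← hdeg', hd2'] at hmin
  omega

/-- A block with normal defect group `P`, where `|G : C_G(P)|` is a power of `p`, has at most
one character with `P` in its kernel. -/
theorem ker_unique {G : Type u} [Group G] [Finite G] (p : ℕ) [Fact p.Prime]
    (M : Ideal AlgInt) (hM : IsPModular p M) (P : Subgroup G) [P.Normal] (hPp : IsPGroup p P)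
    (hC : ∃ k : ℕ, (Subgroup.centralizer (P : Set G)).index = p ^ k)
    (b : Set (IrrCharacter G)) (hb : IsPBlock M b) (hP : IsDefectGroup p M b P)
    (θ θ' : IrrCharacter G) (hθ : θ ∈ b) (hθ' : θ' ∈ b)
    (hker : ∀ u ∈ P, (θ : G → ℂ) u = (θ : G → ℂ) 1)
    (hker' : ∀ u ∈ P, (θ' : G → ℂ) u = (θ' : G → ℂ) 1) : θ = θ' := by
  classical
  have := Fintype.ofFinite G
  have := Fintype.ofFinite (G ⧸ P)
  have hp : p.Prime := Fact.out
  have hMp : M.IsPrime := isPrime_of_isPModular hM
  obtain ⟨ξ, hξirr, hξval⟩ := Cfsg.Agent.Lib.Helper79.isIrrCharacter_deflate θ.2 P hker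
  obtain ⟨ξ', hξ'irr, hξ'val⟩ := Cfsg.Agent.Lib.Helper79.isIrrCharacter_deflate θ'.2 P hker'
  have hsame : SameBlock M (θ : G → ℂ) (θ' : G → ℂ) := by
    obtain ⟨χ₀, rfl⟩ := hb
    exact sameBlock_trans hMp (sameBlock_symm hθ) hθ'
  have hcomp : (ξ ∘ (QuotientGroup.mk : G → G ⧸ P)) = (θ : G → ℂ) := funext hξval
  have hcomp' : (ξ' ∘ (QuotientGroup.mk : G → G ⧸ P)) = (θ' : G → ℂ) := funext hξ'val
  have hS := (Cfsg.Agent.S0941.result p M hM P hPp hC).1
    (⟨ξ, hξirr⟩ : IrrCharacter (G ⧸ P)) (⟨ξ', hξ'irr⟩ : IrrCharacter (G ⧸ P))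
  have hsameq : SameBlock M ξ ξ' := by
    apply hS.mpr
    show SameBlock M (ξ ∘ QuotientGroup.mk) (ξ' ∘ QuotientGroup.mk)
    rw [hcomp, hcomp']
    exact hsame
  have hval := val_degree_of_ker p M hM P b hb hP θ hθ hker
  have hdeg' : charDegree ξ = charDegree (θ : G → ℂ) := by
    unfold charDegree
    have := hξval 1
    rw [QuotientGroup.mk_one] at this
    rw [this]
  have hcardq : Nat.card G = Nat.card (G ⧸ P) * Nat.card P :=
    Subgroup.card_eq_card_quotient_mul_card_subgroup P
  have hfac : (Nat.card G).factorization p =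
      (Nat.card (G ⧸ P)).factorization p + (Nat.card P).factorization p := by
    rw [hcardq, Nat.factorization_mul Nat.card_pos.ne' Nat.card_pos.ne']
    rfl
  have hdz : (charDegree ((⟨ξ, hξirr⟩ : IrrCharacter (G ⧸ P)) : G ⧸ P → ℂ)).factorization p =
      (Nat.card (G ⧸ P)).factorization p := by
    show (charDegree ξ).factorization p = _
    rw [hdeg']
    omega
  have heq := eq_of_sameBlock_of_defect_zero hM (⟨ξ, hξirr⟩ : IrrCharacter (G ⧸ P))
    (⟨ξ', hξ'irr⟩ : IrrCharacter (G ⧸ P)) hdz hsameq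
  have heq' : ξ = ξ' := congrArg Subtype.val heq
  apply Subtype.ext
  rw [← hcomp, ← hcomp', heq']

/-- In a block with a normal defect group `P`, characters vanish at elements whose `p`-part
lies outside `P`. -/
theorem eq_zero_of_ppart_notMem {G : Type u} [Group G] [Finite G] (p : ℕ) [Fact p.Prime]
    (M : Ideal AlgInt) (hM : IsPModular p M) (P : Subgroup G) [P.Normal]
    (b : Set (IrrCharacter G)) (hb : IsPBlock M b) (hP : IsDefectGroup p M b P)
    (χ : IrrCharacter G) (hχ : χ ∈ b) {g x : G} (hx : IsPPart p g x) (hxP : x ∉ P) :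
    (χ : G → ℂ) g = 0 := by
  have := Fintype.ofFinite G
  have hMp : M.IsPrime := isPrime_of_isPModular hM
  have hbeq : b = blockOf M (χ : G → ℂ) := eq_blockOf_of_mem hMp hb hχ
  refine Cfsg.Agent.S0924.result p M hM χ g x hx ?_
  intro D hD hxD
  apply hxP
  rw [hbeq] at hP
  obtain ⟨c, hc⟩ := exists_conj_le_of_isDefectGroup hM χ hD hP
  rw [Subgroup.Normal.conj_smul_eq_self] at hc
  have hcard := card_eq_of_isDefectGroup hM χ hD hP
  have : P = D := Subgroup.eq_of_le_of_card_ge hc hcard.le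
  rw [this]
  exact hxD

end Cfsg.Agent.Lib.Helper16
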