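import Cfsg.Agent.Lib.Helper16.PC4
import Cfsg.Agent.Lib.Helper77.StrongOrth
import Cfsg.Agent.Lib.Helper80.Conv

/-!
# Blocks of `G = P C_G(P)` with defect group `P`: the key orthogonality identity
-/

set_option autoImplicit false

namespace Cfsg.Agent.Lib.Helper16

open Cfsg Cfsg.Agent.Lib.Helper77 Cfsg.Agent.Lib.Helper3 Cfsg.Agent.Lib.Helper81
open Cfsg.Agent.Lib.Helper80
open scoped ComplexConjugate

universe u

variable {G : Type u} [Group G] [Fintype G] [Fintype (IrrCharacter G)]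
variable (P : Subgroup G) [Fintype P] [Fintype (IrrCharacter P)]

/-- `χ` lies over `μ`: the restriction of `χ` to `P` is a multiple of `μ`. -/
def LiesOver (χ : IrrCharacter G) (μ : IrrCharacter P) : Prop :=
  ∀ u : P, (χ : G → ℂ) (u : G) * (μ : P → ℂ) 1 = (μ : P → ℂ) u * (χ : G → ℂ) 1

omit [Fintype (IrrCharacter G)] [Fintype (IrrCharacter P)] in
theorem LiesOver.unique {χ : IrrCharacter G} {μ μ' : IrrCharacter P} (h : LiesOver P χ μ)
    (h' : LiesOver P χ μ') : μ = μ' := by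
  classical
  have hχ1 : (χ : G → ℂ) 1 ≠ 0 := Cfsg.Agent.Lib.Helper77.irr_one_ne_zero χ.2
  have hμ1 : (μ : P → ℂ) 1 ≠ 0 := Cfsg.Agent.Lib.Helper77.irr_one_ne_zero μ.2
  have hμ'1 : (μ' : P → ℂ) 1 ≠ 0 := Cfsg.Agent.Lib.Helper77.irr_one_ne_zero μ'.2
  have hrel : ∀ u : P, (μ : P → ℂ) u * (μ' : P → ℂ) 1 = (μ' : P → ℂ) u * (μ : P → ℂ) 1 := by
    intro u
    have h1 := h u
    have h2 := h' u
    have : (χ : G → ℂ) 1 * ((μ : P → ℂ) u * (μ' : P → ℂ) 1) =
        (χ : G → ℂ) 1 * ((μ' : P → ℂ) u * (μ : P → ℂ) 1) := by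
      linear_combination (μ : P → ℂ) 1 * h2 - (μ' : P → ℂ) 1 * h1
    exact mul_left_cancel₀ hχ1 this
  have h1 : classInner ((μ' : P → ℂ) 1 • (μ : P → ℂ)) (μ' : P → ℂ) =
      classInner ((μ : P → ℂ) 1 • (μ' : P → ℂ)) (μ' : P → ℂ) := by
    congr 1
    funext u
    simp only [Pi.smul_apply, smul_eq_mul]
    rw [mul_comm, hrel u, mul_comm]
  rw [classInner_smul_left, classInner_smul_left, classInner_irr μ'.2 μ'.2, if_pos rfl,
    classInner_irr μ.2 μ'.2] at h1
  by_contra hne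
  rw [if_neg (fun hh : (μ : P → ℂ) = (μ' : P → ℂ) => hne (Subtype.ext hh)), mul_zero, mul_one] at h1
  exact hμ1 h1.symm

omit [Fintype (IrrCharacter G)] in
theorem exists_liesOver (hG : P ⊔ Subgroup.centralizer (P : Set G) = ⊤) (χ : IrrCharacter G) :
    ∃ μ : IrrCharacter P, LiesOver P χ μ :=
  exists_irr_restrict_of_sup_centralizer_eq_top P hG χ.2

open Classical in
omit [Fintype (IrrCharacter G)] in
/-- Partition of a sum over irreducible characters of `G` by the character of `P` below. -/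
theorem sum_liesOver (hG : P ⊔ Subgroup.centralizer (P : Set G) = ⊤)
    (s : Finset (IrrCharacter G)) (f : IrrCharacter G → ℂ) :
    ∑ μ : IrrCharacter P, ∑ χ ∈ s.filter (fun χ => LiesOver P χ μ), f χ = ∑ χ ∈ s, f χ := by
  simp_rw [Finset.sum_filter]
  rw [Finset.sum_comm]
  refine Finset.sum_congr rfl fun χ _ => ?_
  obtain ⟨μ₀, hμ₀⟩ := exists_liesOver P hG χ
  rw [Finset.sum_eq_single μ₀]
  · rw [if_pos hμ₀]
  · intro μ _ hμ
    rw [if_neg]
    intro h
    exact hμ (h.unique P hμ₀)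
  · intro h; exact absurd (Finset.mem_univ _) h

open Classical in
/-- The key identity. -/
theorem sum_liesOver_eq {p : ℕ} [Fact p.Prime] {M : Ideal AlgInt} (hM : IsPModular p M)
    (hPp : IsPGroup p P) (hG : P ⊔ Subgroup.centralizer (P : Set G) = ⊤)
    (χ₀ : IrrCharacter G) (y : G) (hy : ¬ p ∣ orderOf y) (μ : IrrCharacter P) :
    ∑ χ ∈ (Finset.univ.filter (fun χ : IrrCharacter G => χ ∈ blockOf M (χ₀ : G → ℂ))).filter
        (fun χ => LiesOver P χ μ), (χ : G → ℂ) y * conj ((χ : G → ℂ) y) =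
      (μ : P → ℂ) 1 ^ 2 *
      ∑ χ ∈ (Finset.univ.filter (fun χ : IrrCharacter G => χ ∈ blockOf M (χ₀ : G → ℂ))).filter
        (fun χ => LiesOver P χ (trivIrr P)), (χ : G → ℂ) y * conj ((χ : G → ℂ) y) := by
  have hp : p.Prime := Fact.out
  set Bf := Finset.univ.filter (fun χ : IrrCharacter G => χ ∈ blockOf M (χ₀ : G → ℂ)) with hBf
  have hyC : y ∈ Subgroup.centralizer (P : Set G) := mem_centralizer_of_pRegular p P hPp hG y hy
  set c : IrrCharacter P → ℂ := fun ν =>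
    (∑ χ ∈ Bf.filter (fun χ => LiesOver P χ ν), (χ : G → ℂ) y * conj ((χ : G → ℂ) y)) /
      (ν : P → ℂ) 1 with hc
  have hvan : ∀ u : P, u ≠ 1 → ∑ ν : IrrCharacter P, c ν * (ν : P → ℂ) u = 0 := by
    intro u hu
    have h1 : ∀ ν : IrrCharacter P, c ν * (ν : P → ℂ) u =
        ∑ χ ∈ Bf.filter (fun χ => LiesOver P χ ν),
          (χ : G → ℂ) ((u : G) * y) * conj ((χ : G → ℂ) y) := by
      intro ν
      rw [hc]
      simp only
      rw [Finset.sum_div, Finset.sum_mul]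
      refine Finset.sum_congr rfl fun χ hχ => ?_
      have hlo : LiesOver P χ ν := (Finset.mem_filter.mp hχ).2
      have hχ1 : (χ : G → ℂ) 1 ≠ 0 := Cfsg.Agent.Lib.Helper77.irr_one_ne_zero χ.2
      have hν1 : (ν : P → ℂ) 1 ≠ 0 := Cfsg.Agent.Lib.Helper77.irr_one_ne_zero ν.2
      have e1 := char_mul_of_sup_centralizer_eq_top P hG χ.2 u.2 hyC
      have e2 := hlo u
      field_simp
      have : (χ : G → ℂ) ((u : G) * y) * (χ : G → ℂ) 1 * (ν : P → ℂ) 1 =
          (χ : G → ℂ) y * (ν : P → ℂ) u * (χ : G → ℂ) 1 := by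
        rw [e1, mul_assoc, mul_comm ((χ : G → ℂ) y), ← mul_assoc, e2]; ring
      have h3 : (χ : G → ℂ) ((u : G) * y) * (ν : P → ℂ) 1 = (χ : G → ℂ) y * (ν : P → ℂ) u := by
        apply mul_right_cancel₀ hχ1
        linear_combination this
      linear_combination (-(conj ((χ : G → ℂ) y))) * h3
    rw [Finset.sum_congr rfl fun ν _ => h1 ν, sum_liesOver P hG]
    have hu1 : (u : G) ≠ 1 := fun h => hu (Subtype.ext h)
    obtain ⟨k, hk⟩ := hPp u
    have hk' : orderOf (u : G) ∣ p ^ k := by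
      apply orderOf_dvd_of_pow_eq_one
      have := congrArg Subtype.val hk
      simpa using this
    obtain ⟨j, -, hj⟩ := (Nat.dvd_prime_pow hp).mp hk'
    have hcomm : Commute (u : G) y := by
      rw [Subgroup.mem_centralizer_iff] at hyC
      exact hyC u u.2
    have hx : IsPPart p ((u : G) * y) (u : G) := ⟨y, rfl, hcomm, ⟨j, hj⟩, hy⟩
    have hy' : IsPPart p y 1 := ⟨y, one_mul y, Commute.one_left y, ⟨0, by simp⟩, hy⟩
    have hnc : ¬ IsConj (u : G) 1 := by
      intro h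
      exact hu1 (isConj_one_left.mp h)
    exact Cfsg.Agent.Lib.Helper77.IdemTrace.strong_block_orthogonality_finset hM χ₀ hx hy' hnc
  have hcoef := coeff_eq_of_vanish_off_one c hvan
  have htriv := hcoef (trivIrr P)
  have hμ := hcoef μ
  have ht1 : ((trivIrr P : IrrCharacter P) : P → ℂ) 1 = 1 := rfl
  rw [ht1, mul_one] at htriv
  rw [← htriv] at hμ
  have hμ1 : (μ : P → ℂ) 1 ≠ 0 := Cfsg.Agent.Lib.Helper77.irr_one_ne_zero μ.2
  have e1 : c μ * (μ : P → ℂ) 1 =
      ∑ χ ∈ Bf.filter (fun χ => LiesOver P χ μ), (χ : G → ℂ) y * conj ((χ : G → ℂ) y) := by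
    rw [hc]
    simp only
    rw [div_mul_cancel₀ _ hμ1]
  have e2 : c (trivIrr P) =
      ∑ χ ∈ Bf.filter (fun χ => LiesOver P χ (trivIrr P)),
        (χ : G → ℂ) y * conj ((χ : G → ℂ) y) := by
    rw [hc]
    simp only
    rw [ht1, div_one]
  rw [← e1, ← e2, hμ]
  ring

end Cfsg.Agent.Lib.Helper16
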