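import Cfsg.Agent.Lib.Helper16.PC5

/-!
# Blocks of `G = P C_G(P)` with defect group `P`: norms and counting
-/

set_option autoImplicit false

namespace Cfsg.Agent.Lib.Helper16

open Cfsg Cfsg.Agent.Lib.Helper77 Cfsg.Agent.Lib.Helper3 Cfsg.Agent.Lib.Helper81
open Cfsg.Agent.Lib.Helper80
open scoped ComplexConjugate

universe u

variable {G : Type u} [Group G] [Fintype G] [Fintype (IrrCharacter G)]
variable (P : Subgroup G) [Fintype P] [Fintype (IrrCharacter P)]

omit [Fintype (IrrCharacter G)] in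
theorem sum_norm_irr (χ : IrrCharacter G) :
    ∑ g : G, (χ : G → ℂ) g * conj ((χ : G → ℂ) g) = (Nat.card G : ℂ) := by
  have h := classInner_irr χ.2 χ.2
  rw [if_pos rfl] at h
  unfold classInner at h
  have hG : (Nat.card G : ℂ) ≠ 0 := Nat.cast_ne_zero.mpr Nat.card_pos.ne'
  field_simp at h
  exact h

open Classical in
omit [Fintype (IrrCharacter G)] [Fintype (IrrCharacter P)] in
/-- The norm of a member of the block, computed on `P × (p-regular elements)`. -/
theorem sum_regular_norm {p : ℕ} [Fact p.Prime] {M : Ideal AlgInt} (hM : IsPModular p M)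
    (hPp : IsPGroup p P) (hG : P ⊔ Subgroup.centralizer (P : Set G) = ⊤)
    (b : Set (IrrCharacter G)) (hb : IsPBlock M b) (hD : IsDefectGroup p M b P)
    (χ : IrrCharacter G) (hχ : χ ∈ b) (μ : IrrCharacter P) (hlo : LiesOver P χ μ) :
    (∑ y ∈ Finset.univ.filter (fun y : G => ¬ p ∣ orderOf y),
        (χ : G → ℂ) y * conj ((χ : G → ℂ) y)) * (Nat.card P : ℂ) =
      (Nat.card G : ℂ) * (μ : P → ℂ) 1 ^ 2 := by
  have hp : p.Prime := Fact.out
  have hPn := normal_of_sup_centralizer_eq_top P hG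
  obtain ⟨K, r, N, hcard, hpr, hrN, hN1⟩ := exists_ppart_exponent G p hp
  set R := Finset.univ.filter (fun y : G => ¬ p ∣ orderOf y) with hR
  have hμ1 : (μ : P → ℂ) 1 ≠ 0 := Cfsg.Agent.Lib.Helper77.irr_one_ne_zero μ.2
  have hχ1 : (χ : G → ℂ) 1 ≠ 0 := Cfsg.Agent.Lib.Helper77.irr_one_ne_zero χ.2
  have hμconj : conj ((μ : P → ℂ) 1) = (μ : P → ℂ) 1 := irr_one_conj μ
  -- the sum over `G` as a sum over `P × R`
  have hsum : ∑ x ∈ (Finset.univ : Finset P) ×ˢ R,
      (χ : G → ℂ) ((x.1 : G) * x.2) * conj ((χ : G → ℂ) ((x.1 : G) * x.2)) =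
      ∑ g : G, (χ : G → ℂ) g * conj ((χ : G → ℂ) g) := by
    refine Finset.sum_of_injOn (fun x : P × G => (x.1 : G) * x.2) ?_ ?_ ?_ ?_
    · intro x hx x' hx' hxx
      have hx2 : ¬ p ∣ orderOf x.2 := (Finset.mem_filter.mp (Finset.mem_product.mp hx).2).2
      have hx'2 : ¬ p ∣ orderOf x'.2 := (Finset.mem_filter.mp (Finset.mem_product.mp hx').2).2
      have hpp : ∀ z : P × G, ¬ p ∣ orderOf z.2 → IsPPart p ((z.1 : G) * z.2) (z.1 : G) := by
        intro z hz
        have hzC := mem_centralizer_of_pRegular p P hPp hG z.2 hz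
        rw [Subgroup.mem_centralizer_iff] at hzC
        obtain ⟨k, hk⟩ := hPp z.1
        have hk' : orderOf (z.1 : G) ∣ p ^ k := by
          apply orderOf_dvd_of_pow_eq_one
          have := congrArg Subtype.val hk
          simpa using this
        obtain ⟨j, -, hj⟩ := (Nat.dvd_prime_pow hp).mp hk'
        exact ⟨z.2, rfl, hzC z.1 z.1.2, ⟨j, hj⟩, hz⟩
      have h1 := pow_eq_of_isPPart hp hcard hpr hrN hN1 (hpp x hx2)
      have h2 := pow_eq_of_isPPart hp hcard hpr hrN hN1 (hpp x' hx'2)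
      simp only at hxx
      rw [hxx, h2] at h1
      have h3 : x.1 = x'.1 := (Subtype.ext h1).symm
      have h4 : x.2 = x'.2 := by
        rw [h3] at hxx
        exact mul_left_cancel hxx
      exact Prod.ext h3 h4
    · intro x _
      exact Finset.mem_coe.mpr (Finset.mem_univ _)
    · intro g _ hg
      have hpp := isPPart_pow hp hcard hpr hrN hN1 g
      by_cases hgP : g ^ N ∈ P
      · exfalso
        apply hg
        obtain ⟨y, hy1, -, -, hy2⟩ := hpp
        refine ⟨(⟨g ^ N, hgP⟩, y), ?_, hy1⟩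
        exact Finset.mem_coe.mpr (Finset.mem_product.mpr
          ⟨Finset.mem_univ _, Finset.mem_filter.mpr ⟨Finset.mem_univ _, hy2⟩⟩)
      · rw [eq_zero_of_ppart_notMem p M hM P b hb hD χ hχ hpp hgP, zero_mul]
    · intro x _
      rfl
  have hfac : ∀ x ∈ (Finset.univ : Finset P) ×ˢ R,
      (χ : G → ℂ) ((x.1 : G) * x.2) * conj ((χ : G → ℂ) ((x.1 : G) * x.2)) *
        (μ : P → ℂ) 1 ^ 2 =
      ((μ : P → ℂ) x.1 * conj ((μ : P → ℂ) x.1)) *
        ((χ : G → ℂ) x.2 * conj ((χ : G → ℂ) x.2)) := by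
    intro x hx
    have hx2 : ¬ p ∣ orderOf x.2 := (Finset.mem_filter.mp (Finset.mem_product.mp hx).2).2
    have hyC := mem_centralizer_of_pRegular p P hPp hG x.2 hx2
    have e1 := char_mul_of_sup_centralizer_eq_top P hG χ.2 x.1.2 hyC
    have e2 := hlo x.1
    have h3 : (χ : G → ℂ) ((x.1 : G) * x.2) * (μ : P → ℂ) 1 =
        (μ : P → ℂ) x.1 * (χ : G → ℂ) x.2 := by
      apply mul_right_cancel₀ hχ1
      calc (χ : G → ℂ) ((x.1 : G) * x.2) * (μ : P → ℂ) 1 * (χ : G → ℂ) 1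
          = ((χ : G → ℂ) ((x.1 : G) * x.2) * (χ : G → ℂ) 1) * (μ : P → ℂ) 1 := by ring
        _ = ((χ : G → ℂ) (x.1 : G) * (μ : P → ℂ) 1) * (χ : G → ℂ) x.2 := by rw [e1]; ring
        _ = _ := by rw [e2]; ring
    have h4 := congrArg conj h3
    rw [map_mul, map_mul, hμconj] at h4
    calc _ = ((χ : G → ℂ) ((x.1 : G) * x.2) * (μ : P → ℂ) 1) *
          (conj ((χ : G → ℂ) ((x.1 : G) * x.2)) * (μ : P → ℂ) 1) := by ring
      _ = _ := by rw [h3, h4]; ring
  have hPsum : ∑ u : P, (μ : P → ℂ) u * conj ((μ : P → ℂ) u) = (Nat.card P : ℂ) :=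
    sum_norm_irr μ
  have hGsum := sum_norm_irr χ
  calc (∑ y ∈ R, (χ : G → ℂ) y * conj ((χ : G → ℂ) y)) * (Nat.card P : ℂ)
      = (∑ u : P, (μ : P → ℂ) u * conj ((μ : P → ℂ) u)) *
          (∑ y ∈ R, (χ : G → ℂ) y * conj ((χ : G → ℂ) y)) := by rw [hPsum]; ring
    _ = ∑ x ∈ (Finset.univ : Finset P) ×ˢ R, ((μ : P → ℂ) x.1 * conj ((μ : P → ℂ) x.1)) *
          ((χ : G → ℂ) x.2 * conj ((χ : G → ℂ) x.2)) := by
        rw [Finset.sum_product, Finset.sum_mul_sum]
    _ = ∑ x ∈ (Finset.univ : Finset P) ×ˢ R,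
          (χ : G → ℂ) ((x.1 : G) * x.2) * conj ((χ : G → ℂ) ((x.1 : G) * x.2)) *
            (μ : P → ℂ) 1 ^ 2 := by
        exact (Finset.sum_congr rfl hfac).symm
    _ = (Nat.card G : ℂ) * (μ : P → ℂ) 1 ^ 2 := by
        rw [← Finset.sum_mul, hsum, hGsum]

open Classical in
/-- All fibres of `χ ↦ (character of P below χ)` on the block have the same size. -/
theorem card_liesOver_eq {p : ℕ} [Fact p.Prime] {M : Ideal AlgInt} (hM : IsPModular p M)
    (hPp : IsPGroup p P) (hG : P ⊔ Subgroup.centralizer (P : Set G) = ⊤)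
    (χ₀ : IrrCharacter G) (hD : IsDefectGroup p M (blockOf M (χ₀ : G → ℂ)) P)
    (μ : IrrCharacter P) :
    ((Finset.univ.filter (fun χ : IrrCharacter G => χ ∈ blockOf M (χ₀ : G → ℂ))).filter
        (fun χ => LiesOver P χ μ)).card =
    ((Finset.univ.filter (fun χ : IrrCharacter G => χ ∈ blockOf M (χ₀ : G → ℂ))).filter
        (fun χ => LiesOver P χ (trivIrr P))).card := by
  set Bf := Finset.univ.filter (fun χ : IrrCharacter G => χ ∈ blockOf M (χ₀ : G → ℂ)) with hBf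
  set R := Finset.univ.filter (fun y : G => ¬ p ∣ orderOf y) with hR
  have hb : IsPBlock M (blockOf M (χ₀ : G → ℂ)) := ⟨χ₀, rfl⟩
  have hμ1 : (μ : P → ℂ) 1 ≠ 0 := Cfsg.Agent.Lib.Helper77.irr_one_ne_zero μ.2
  have hP0 : (Nat.card P : ℂ) ≠ 0 := Nat.cast_ne_zero.mpr Nat.card_pos.ne'
  have hG0 : (Nat.card G : ℂ) ≠ 0 := Nat.cast_ne_zero.mpr Nat.card_pos.ne'
  have ht1 : ((trivIrr P : IrrCharacter P) : P → ℂ) 1 = 1 := rfl
  -- double sums
  have hA : ∀ ν : IrrCharacter P,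
      (∑ y ∈ R, ∑ χ ∈ Bf.filter (fun χ => LiesOver P χ ν),
        (χ : G → ℂ) y * conj ((χ : G → ℂ) y)) * (Nat.card P : ℂ) =
      ((Bf.filter (fun χ => LiesOver P χ ν)).card : ℂ) *
        ((Nat.card G : ℂ) * (ν : P → ℂ) 1 ^ 2) := by
    intro ν
    rw [Finset.sum_comm, Finset.sum_mul]
    rw [Finset.sum_congr rfl (fun χ hχ => sum_regular_norm P hM hPp hG _ hb hD χ
      (Finset.mem_filter.mp (Finset.mem_filter.mp hχ).1).2 ν (Finset.mem_filter.mp hχ).2)]
    rw [Finset.sum_const, nsmul_eq_mul]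
  have hB : ∑ y ∈ R, ∑ χ ∈ Bf.filter (fun χ => LiesOver P χ μ),
        (χ : G → ℂ) y * conj ((χ : G → ℂ) y) =
      (μ : P → ℂ) 1 ^ 2 * ∑ y ∈ R, ∑ χ ∈ Bf.filter (fun χ => LiesOver P χ (trivIrr P)),
        (χ : G → ℂ) y * conj ((χ : G → ℂ) y) := by
    rw [Finset.mul_sum]
    refine Finset.sum_congr rfl fun y hy => ?_
    exact sum_liesOver_eq P hM hPp hG χ₀ y (Finset.mem_filter.mp hy).2 μ
  have h1 := hA μ
  have h2 := hA (trivIrr P)
  rw [hB, mul_assoc, h2, ht1] at h1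
  have h3 : ((Bf.filter (fun χ => LiesOver P χ μ)).card : ℂ) =
      ((Bf.filter (fun χ => LiesOver P χ (trivIrr P))).card : ℂ) := by
    have hne : (Nat.card G : ℂ) * (μ : P → ℂ) 1 ^ 2 ≠ 0 := mul_ne_zero hG0 (pow_ne_zero 2 hμ1)
    apply mul_right_cancel₀ hne
    rw [← h1]
    ring
  exact_mod_cast h3

open Classical in
/-- The block is as large as the number of irreducible characters of `P` times the number of
its members with `P` in the kernel. -/
theorem card_block_eq {p : ℕ} [Fact p.Prime] {M : Ideal AlgInt} (hM : IsPModular p M)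
    (hPp : IsPGroup p P) (hG : P ⊔ Subgroup.centralizer (P : Set G) = ⊤)
    (χ₀ : IrrCharacter G) (hD : IsDefectGroup p M (blockOf M (χ₀ : G → ℂ)) P) :
    (Finset.univ.filter (fun χ : IrrCharacter G => χ ∈ blockOf M (χ₀ : G → ℂ))).card =
    Fintype.card (IrrCharacter P) *
    ((Finset.univ.filter (fun χ : IrrCharacter G => χ ∈ blockOf M (χ₀ : G → ℂ))).filter
        (fun χ => LiesOver P χ (trivIrr P))).card := by
  set Bf := Finset.univ.filter (fun χ : IrrCharacter G => χ ∈ blockOf M (χ₀ : G → ℂ)) with hBf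
  have h1 := sum_liesOver P hG Bf (fun _ => (1 : ℂ))
  simp only [Finset.sum_const, nsmul_eq_mul, mul_one] at h1
  have h2 : ∑ μ : IrrCharacter P, ((Bf.filter (fun χ => LiesOver P χ μ)).card : ℂ) =
      ∑ _μ : IrrCharacter P, ((Bf.filter (fun χ => LiesOver P χ (trivIrr P))).card : ℂ) := by
    refine Finset.sum_congr rfl fun μ _ => ?_
    rw [card_liesOver_eq P hM hPp hG χ₀ hD μ]
  rw [h2, Finset.sum_const, nsmul_eq_mul, Finset.card_univ] at h1
  exact_mod_cast h1.symm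

end Cfsg.Agent.Lib.Helper16
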