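import Cfsg.Agent.Lib.Helper16.PC6
import Cfsg.Agent.Lib.Helper16.WBO
import Cfsg.Agent.Lib.Helper16.Degree
import Cfsg.Agent.Lib.Helper16.RegularDet
import Cfsg.Agent.Lib.Helper3.Ortho
import Cfsg.Agent.Lib.Helper3.CharBasic

/-!
# `G = P C_G(P)`, block with defect group `P`: values on `p`-regular elements

Every member `θ` of the block, lying over `μ ∈ Irr(P)`, equals `μ(1) χ` on the `p`-regular
elements, where `χ` is the canonical character of the block.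
-/

set_option autoImplicit false

open Cfsg
open scoped ComplexConjugate

namespace Cfsg.Agent.Lib.Helper16

open Cfsg.Agent.Lib.Helper77 Cfsg.Agent.Lib.Helper80 Cfsg.Agent.Lib.Helper81

universe u

variable {G : Type u} [Group G] [Fintype G] [Fintype (IrrCharacter G)]
variable (P : Subgroup G) [Fintype P] [Fintype (IrrCharacter P)]

open Classical in
omit [Fintype P] [Fintype (IrrCharacter P)] in
/-- The members of the block over the trivial character of `P` are just the canonical one. -/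
theorem fiber_triv_eq_singleton {p : ℕ} [Fact p.Prime] {M : Ideal AlgInt} (hM : IsPModular p M)
    (hPp : IsPGroup p P) (hG : P ⊔ Subgroup.centralizer (P : Set G) = ⊤)
    (χ₀ : IrrCharacter G) (hD : IsDefectGroup p M (blockOf M (χ₀ : G → ℂ)) P)
    (χ : IrrCharacter G) (hχ : χ ∈ blockOf M (χ₀ : G → ℂ))
    (hχker : ∀ u ∈ P, (χ : G → ℂ) u = (χ : G → ℂ) 1) :
    ((Finset.univ.filter (fun θ : IrrCharacter G => θ ∈ blockOf M (χ₀ : G → ℂ))).filter
      (fun θ => LiesOver P θ (trivIrr P))) = {χ} := by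
  have hPn : P.Normal := normal_of_sup_centralizer_eq_top P hG
  have hC := exists_index_centralizer_eq_pow p P hPp hG
  have hb : IsPBlock M (blockOf M (χ₀ : G → ℂ)) := ⟨χ₀, rfl⟩
  have ht : ∀ u : P, ((trivIrr P : IrrCharacter P) : P → ℂ) u = 1 := fun _ => rfl
  ext θ
  simp only [Finset.mem_filter, Finset.mem_univ, true_and, Finset.mem_singleton]
  constructor
  · rintro ⟨hθB, hlo⟩
    refine (ker_unique p M hM P hPp hC _ hb hD χ θ hχ hθB hχker ?_).symm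
    intro x hx
    have := hlo ⟨x, hx⟩
    rw [ht, ht, mul_one, one_mul] at this
    exact this
  · rintro rfl
    refine ⟨hχ, ?_⟩
    intro u
    rw [ht, ht, mul_one, one_mul]
    exact hχker u u.2

open Classical in
/-- Each fibre of the block over `Irr(P)` is a singleton. -/
theorem exists_fiber_eq_singleton {p : ℕ} [Fact p.Prime] {M : Ideal AlgInt}
    (hM : IsPModular p M)
    (hPp : IsPGroup p P) (hG : P ⊔ Subgroup.centralizer (P : Set G) = ⊤)
    (χ₀ : IrrCharacter G) (hD : IsDefectGroup p M (blockOf M (χ₀ : G → ℂ)) P)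
    (μ : IrrCharacter P) :
    ∃ θ : IrrCharacter G,
      ((Finset.univ.filter (fun θ : IrrCharacter G => θ ∈ blockOf M (χ₀ : G → ℂ))).filter
        (fun θ => LiesOver P θ μ)) = {θ} := by
  have hPn : P.Normal := normal_of_sup_centralizer_eq_top P hG
  have hb : IsPBlock M (blockOf M (χ₀ : G → ℂ)) := ⟨χ₀, rfl⟩
  obtain ⟨χ, hχB, hχker, -⟩ := exists_ker_height_zero p M hM P _ hb hD
  have h2 := fiber_triv_eq_singleton P hM hPp hG χ₀ hD χ hχB hχker
  have h3 := card_liesOver_eq P hM hPp hG χ₀ hD μ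
  rw [h2, Finset.card_singleton, Finset.card_eq_one] at h3
  exact h3

open Classical in
/-- Degrees: `θ(1) = μ(1) χ(1)`. -/
theorem degree_eq_of_liesOver {p : ℕ} [Fact p.Prime] {M : Ideal AlgInt} (hM : IsPModular p M)
    (hPp : IsPGroup p P) (hG : P ⊔ Subgroup.centralizer (P : Set G) = ⊤)
    (χ₀ : IrrCharacter G) (hD : IsDefectGroup p M (blockOf M (χ₀ : G → ℂ)) P)
    (χ : IrrCharacter G) (hχ : χ ∈ blockOf M (χ₀ : G → ℂ))
    (hχker : ∀ u ∈ P, (χ : G → ℂ) u = (χ : G → ℂ) 1)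
    (θ : IrrCharacter G) (hθ : θ ∈ blockOf M (χ₀ : G → ℂ)) (μ : IrrCharacter P)
    (hlo : LiesOver P θ μ) :
    (θ : G → ℂ) 1 = (μ : P → ℂ) 1 * (χ : G → ℂ) 1 := by
  have hp : p.Prime := Fact.out
  have h2 := fiber_triv_eq_singleton P hM hPp hG χ₀ hD χ hχ hχker
  obtain ⟨θ', hθ'⟩ := exists_fiber_eq_singleton P hM hPp hG χ₀ hD μ
  have hθmem : θ ∈ ((Finset.univ.filter
      (fun θ : IrrCharacter G => θ ∈ blockOf M (χ₀ : G → ℂ))).filter
      (fun θ => LiesOver P θ μ)) :=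
    Finset.mem_filter.mpr ⟨Finset.mem_filter.mpr ⟨Finset.mem_univ _, hθ⟩, hlo⟩
  rw [hθ', Finset.mem_singleton] at hθmem
  subst hθmem
  have h1 : ¬ p ∣ orderOf (1 : G) := by
    rw [orderOf_one]
    exact hp.one_lt.ne' ∘ Nat.dvd_one.mp
  have h4 := sum_liesOver_eq P hM hPp hG χ₀ 1 h1 μ
  rw [h2, hθ', Finset.sum_singleton, Finset.sum_singleton] at h4
  obtain ⟨dθ, hdθ0, hdθ1, -, -⟩ := irr_degree_spec θ
  obtain ⟨dχ, hdχ0, hdχ1, -, -⟩ := irr_degree_spec χ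
  obtain ⟨dμ, hdμ0, hdμ1, -, -⟩ := irr_degree_spec μ
  rw [hdθ1, hdχ1, hdμ1, Complex.conj_natCast, Complex.conj_natCast] at h4
  have h5 : dθ * dθ = (dμ * dχ) * (dμ * dχ) := by
    have : ((dθ * dθ : ℕ) : ℂ) = (((dμ * dχ) * (dμ * dχ) : ℕ) : ℂ) := by
      push_cast
      rw [h4]
      ring
    exact_mod_cast this
  have h6 : dθ = dμ * dχ := Nat.mul_self_inj.mp h5
  rw [hdθ1, hdχ1, hdμ1, h6]
  push_cast
  ring

open Classical in
/-- On the `p`-regular elements every member of the block is a multiple of the canonical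
character. -/
theorem regular_value_eq {p : ℕ} [Fact p.Prime] {M : Ideal AlgInt} (hM : IsPModular p M)
    (hPp : IsPGroup p P) (hG : P ⊔ Subgroup.centralizer (P : Set G) = ⊤)
    (χ₀ : IrrCharacter G) (hD : IsDefectGroup p M (blockOf M (χ₀ : G → ℂ)) P)
    (χ : IrrCharacter G) (hχ : χ ∈ blockOf M (χ₀ : G → ℂ))
    (hχker : ∀ u ∈ P, (χ : G → ℂ) u = (χ : G → ℂ) 1)
    (θ : IrrCharacter G) (hθ : θ ∈ blockOf M (χ₀ : G → ℂ)) (μ : IrrCharacter P)
    (hlo : LiesOver P θ μ) (y : G) (hy : ¬ p ∣ orderOf y) :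
    (θ : G → ℂ) y = (μ : P → ℂ) 1 * (χ : G → ℂ) y := by
  have hp : p.Prime := Fact.out
  have hb : IsPBlock M (blockOf M (χ₀ : G → ℂ)) := ⟨χ₀, rfl⟩
  set Bf := Finset.univ.filter (fun θ : IrrCharacter G => θ ∈ blockOf M (χ₀ : G → ℂ)) with hBf
  set R := Finset.univ.filter (fun y : G => ¬ p ∣ orderOf y) with hR
  have hGc : (Nat.card G : ℂ) ≠ 0 := Nat.cast_ne_zero.mpr Nat.card_pos.ne'
  have hPc : (Nat.card P : ℂ) ≠ 0 := Nat.cast_ne_zero.mpr Nat.card_pos.ne'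
  have hχ1 : (χ : G → ℂ) 1 ≠ 0 := Cfsg.Agent.Lib.Helper77.irr_one_ne_zero χ.2
  -- the character of `P` below each member
  have hex : ∀ θ : IrrCharacter G, ∃ μ : IrrCharacter P, LiesOver P θ μ :=
    fun θ => exists_liesOver P hG θ
  choose m hm using hex
  -- real degrees
  have hreal : ∀ θ : IrrCharacter G, conj ((m θ : P → ℂ) 1) = (m θ : P → ℂ) 1 := by
    intro θ
    obtain ⟨d, -, hd, -, -⟩ := irr_degree_spec (m θ)
    rw [hd, Complex.conj_natCast]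
  have hdeg : ∀ θ ∈ Bf, (θ : G → ℂ) 1 = (m θ : P → ℂ) 1 * (χ : G → ℂ) 1 := fun θ hθ' =>
    degree_eq_of_liesOver P hM hPp hG χ₀ hD χ hχ hχker θ (Finset.mem_filter.mp hθ').2 (m θ) (hm θ)
  -- (b) norms
  have hA : ∀ θ ∈ Bf, ∑ y ∈ R, (θ : G → ℂ) y * conj ((θ : G → ℂ) y) =
      (Nat.card G : ℂ) * (m θ : P → ℂ) 1 ^ 2 / (Nat.card P : ℂ) := by
    intro θ hθ'
    have := sum_regular_norm P hM hPp hG _ hb hD θ (Finset.mem_filter.mp hθ').2 (m θ) (hm θ)
    rw [eq_div_iff hPc]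
    exact this
  have hχlo : LiesOver P χ (trivIrr P) := by
    intro u
    have ht : ∀ u : P, ((trivIrr P : IrrCharacter P) : P → ℂ) u = 1 := fun _ => rfl
    rw [ht, ht, mul_one, one_mul]
    exact hχker u u.2
  have hAχ : ∑ y ∈ R, (χ : G → ℂ) y * conj ((χ : G → ℂ) y) =
      (Nat.card G : ℂ) / (Nat.card P : ℂ) := by
    have := sum_regular_norm P hM hPp hG _ hb hD χ hχ (trivIrr P) hχlo
    have ht1 : ((trivIrr P : IrrCharacter P) : P → ℂ) 1 = 1 := rfl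
    rw [ht1, one_pow, mul_one] at this
    rw [eq_div_iff hPc]
    exact this
  -- (c) the sum of the squares
  have hS : ∑ θ ∈ Bf, (m θ : P → ℂ) 1 ^ 2 = (Nat.card P : ℂ) := by
    rw [← sum_liesOver P hG Bf (fun θ => (m θ : P → ℂ) 1 ^ 2),
      ← Cfsg.Agent.Lib.Helper3.sum_sq_degree (G := P)]
    refine Finset.sum_congr rfl fun μ _ => ?_
    obtain ⟨θ', hθ'⟩ := exists_fiber_eq_singleton P hM hPp hG χ₀ hD μ
    rw [hθ', Finset.sum_singleton]
    have hθ'mem : θ' ∈ Bf.filter (fun θ => LiesOver P θ μ) := by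
      rw [hθ']; exact Finset.mem_singleton_self _
    have hloθ' : LiesOver P θ' μ := (Finset.mem_filter.mp hθ'mem).2
    rw [LiesOver.unique P (hm θ') hloθ']
  -- (d) the cross term
  have hsing : ∀ y : G, p ∣ orderOf y →
      ∑ θ ∈ Bf, (θ : G → ℂ) 1 * (θ : G → ℂ) y = 0 := by
    intro y hy'
    have h1 : ¬ p ∣ orderOf (1 : G) := by
      rw [orderOf_one]
      exact hp.one_lt.ne' ∘ Nat.dvd_one.mp
    have h := weak_block_orthogonality_finset hM χ₀ h1 hy'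
    have h' := congrArg conj h
    rw [map_sum, map_zero] at h'
    rw [← h']
    refine Finset.sum_congr rfl fun θ _ => ?_
    rw [map_mul, Complex.conj_conj]
    obtain ⟨d, -, hd, -, -⟩ := irr_degree_spec θ
    rw [hd, Complex.conj_natCast]
  have hX0 : ∑ θ ∈ Bf, (θ : G → ℂ) 1 * ∑ y ∈ R, (θ : G → ℂ) y * conj ((χ : G → ℂ) y) =
      (χ : G → ℂ) 1 * (Nat.card G : ℂ) := by
    have h1 : ∑ θ ∈ Bf, (θ : G → ℂ) 1 * ∑ y ∈ R, (θ : G → ℂ) y * conj ((χ : G → ℂ) y) =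
        ∑ y ∈ R, conj ((χ : G → ℂ) y) * ∑ θ ∈ Bf, (θ : G → ℂ) 1 * (θ : G → ℂ) y := by
      simp_rw [Finset.mul_sum]
      rw [Finset.sum_comm]
      refine Finset.sum_congr rfl fun y _ => Finset.sum_congr rfl fun θ _ => ?_
      ring
    have h2 : ∑ y ∈ R, conj ((χ : G → ℂ) y) * ∑ θ ∈ Bf, (θ : G → ℂ) 1 * (θ : G → ℂ) y =
        ∑ y : G, conj ((χ : G → ℂ) y) * ∑ θ ∈ Bf, (θ : G → ℂ) 1 * (θ : G → ℂ) y := by
      rw [hR, Finset.sum_filter]
      refine Finset.sum_congr rfl fun y _ => ?_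
      by_cases hy' : p ∣ orderOf y
      · rw [if_neg (not_not.mpr hy'), hsing y hy', mul_zero]
      · rw [if_pos hy']
    have h3 : ∑ y : G, conj ((χ : G → ℂ) y) * ∑ θ ∈ Bf, (θ : G → ℂ) 1 * (θ : G → ℂ) y =
        ∑ θ ∈ Bf, (θ : G → ℂ) 1 * ∑ y : G, (θ : G → ℂ) y * conj ((χ : G → ℂ) y) := by
      simp_rw [Finset.mul_sum]
      rw [Finset.sum_comm]
      refine Finset.sum_congr rfl fun θ _ => Finset.sum_congr rfl fun y _ => ?_
      ring
    rw [h1, h2, h3]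
    have h4 : ∀ θ : IrrCharacter G, ∑ y : G, (θ : G → ℂ) y * conj ((χ : G → ℂ) y) =
        if θ = χ then (Nat.card G : ℂ) else 0 := by
      intro θ
      have h5 := Cfsg.Agent.Lib.Helper3.classInner_irr θ.2 χ.2
      unfold classInner at h5
      by_cases hθχ : θ = χ
      · rw [if_pos hθχ]
        rw [if_pos (congrArg Subtype.val hθχ)] at h5
        field_simp at h5
        rw [h5]
      · rw [if_neg hθχ]
        rw [if_neg (fun h => hθχ (Subtype.ext h))] at h5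
        rcases mul_eq_zero.mp h5 with h6 | h6
        · exact absurd (inv_eq_zero.mp h6) hGc
        · exact h6
    simp_rw [h4]
    rw [Finset.sum_eq_single χ]
    · rw [if_pos rfl]
    · intro θ _ hθχ
      rw [if_neg hθχ, mul_zero]
    · intro h
      exact absurd (Finset.mem_filter.mpr ⟨Finset.mem_univ _, hχ⟩) h
  have hX : ∑ θ ∈ Bf, (m θ : P → ℂ) 1 * ∑ y ∈ R, (θ : G → ℂ) y * conj ((χ : G → ℂ) y) =
      (Nat.card G : ℂ) := by
    have h1 : ∑ θ ∈ Bf, (m θ : P → ℂ) 1 * ∑ y ∈ R, (θ : G → ℂ) y * conj ((χ : G → ℂ) y) =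
        (∑ θ ∈ Bf, (θ : G → ℂ) 1 * ∑ y ∈ R, (θ : G → ℂ) y * conj ((χ : G → ℂ) y)) /
          (χ : G → ℂ) 1 := by
      rw [Finset.sum_div]
      refine Finset.sum_congr rfl fun θ hθ' => ?_
      rw [hdeg θ hθ']
      field_simp
    rw [h1, hX0]
    field_simp
  have hX' : ∑ θ ∈ Bf, (m θ : P → ℂ) 1 * ∑ y ∈ R, (χ : G → ℂ) y * conj ((θ : G → ℂ) y) =
      (Nat.card G : ℂ) := by
    have h := congrArg conj hX
    rw [map_sum, Complex.conj_natCast] at h
    rw [← h]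
    refine Finset.sum_congr rfl fun θ _ => ?_
    rw [map_mul, hreal, map_sum]
    congr 1
    refine Finset.sum_congr rfl fun y _ => ?_
    rw [map_mul, Complex.conj_conj]
    ring
  -- (e) the total
  have htot : ∑ θ ∈ Bf, ∑ y ∈ R,
      ((θ : G → ℂ) y - (m θ : P → ℂ) 1 * (χ : G → ℂ) y) *
        conj ((θ : G → ℂ) y - (m θ : P → ℂ) 1 * (χ : G → ℂ) y) = 0 := by
    have h1 : ∀ θ ∈ Bf, ∑ y ∈ R,
        ((θ : G → ℂ) y - (m θ : P → ℂ) 1 * (χ : G → ℂ) y) *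
          conj ((θ : G → ℂ) y - (m θ : P → ℂ) 1 * (χ : G → ℂ) y) =
        (Nat.card G : ℂ) * (m θ : P → ℂ) 1 ^ 2 / (Nat.card P : ℂ)
        - (m θ : P → ℂ) 1 * ∑ y ∈ R, (θ : G → ℂ) y * conj ((χ : G → ℂ) y)
        - (m θ : P → ℂ) 1 * ∑ y ∈ R, (χ : G → ℂ) y * conj ((θ : G → ℂ) y)
        + (m θ : P → ℂ) 1 ^ 2 * ((Nat.card G : ℂ) / (Nat.card P : ℂ)) := by
      intro θ hθ'
      rw [← hA θ hθ', ← hAχ, Finset.mul_sum, Finset.mul_sum, Finset.mul_sum,
        ← Finset.sum_sub_distrib, ← Finset.sum_sub_distrib, ← Finset.sum_add_distrib]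
      refine Finset.sum_congr rfl fun y _ => ?_
      rw [map_sub, map_mul, hreal]
      ring
    rw [Finset.sum_congr rfl h1, Finset.sum_add_distrib, Finset.sum_sub_distrib,
      Finset.sum_sub_distrib, hX, hX', ← Finset.sum_mul, ← Finset.sum_div, ← Finset.mul_sum, hS]
    field_simp
    ring
  -- nonnegativity
  have hnn : ∀ θ ∈ Bf, ∀ y ∈ R,
      ((θ : G → ℂ) y - (m θ : P → ℂ) 1 * (χ : G → ℂ) y) *
        conj ((θ : G → ℂ) y - (m θ : P → ℂ) 1 * (χ : G → ℂ) y) =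
      ((Complex.normSq ((θ : G → ℂ) y - (m θ : P → ℂ) 1 * (χ : G → ℂ) y) : ℝ) : ℂ) := by
    intro θ _ y _
    rw [Complex.mul_conj]
  have htot' : ∑ θ ∈ Bf, ∑ y ∈ R,
      Complex.normSq ((θ : G → ℂ) y - (m θ : P → ℂ) 1 * (χ : G → ℂ) y) = 0 := by
    have : ((∑ θ ∈ Bf, ∑ y ∈ R,
        Complex.normSq ((θ : G → ℂ) y - (m θ : P → ℂ) 1 * (χ : G → ℂ) y) : ℝ) : ℂ) = 0 := by
      rw [← htot]
      push_cast
      refine Finset.sum_congr rfl fun θ hθ' => Finset.sum_congr rfl fun y hy' => ?_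
      rw [hnn θ hθ' y hy']
    exact_mod_cast this
  have hθBf : θ ∈ Bf := Finset.mem_filter.mpr ⟨Finset.mem_univ _, hθ⟩
  have hyR : y ∈ R := Finset.mem_filter.mpr ⟨Finset.mem_univ _, hy⟩
  have h1 := (Finset.sum_eq_zero_iff_of_nonneg
    (fun θ _ => Finset.sum_nonneg fun y _ => Complex.normSq_nonneg _)).mp htot' θ hθBf
  have h2 := (Finset.sum_eq_zero_iff_of_nonneg
    (fun y _ => Complex.normSq_nonneg _)).mp h1 y hyR
  have h3 := Complex.normSq_eq_zero.mp h2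
  rw [LiesOver.unique P hlo (hm θ)]
  exact sub_eq_zero.mp h3

end Cfsg.Agent.Lib.Helper16
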