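import Mathlib
import Cfsg.Agent.Lib.Helper16.PSLDefs

set_option autoImplicit false

namespace Cfsg.Agent.Lib.Helper16.PSL

/-- LEAF A1. `lam p` is monotone. -/
theorem lam_mono (p : ℕ) {n n' : ℕ} (h : n ≤ n') : lam p n ≤ lam p n' := by
  unfold lam
  calc ∑ i ∈ Finset.range (n + 1), n / ((p - 1) * p ^ i)
      ≤ ∑ i ∈ Finset.range (n + 1), n' / ((p - 1) * p ^ i) :=
        Finset.sum_le_sum fun i _ => Nat.div_le_div_right h
    _ ≤ ∑ i ∈ Finset.range (n' + 1), n' / ((p - 1) * p ^ i) :=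
        Finset.sum_le_sum_of_subset (Finset.range_mono (by omega))

end Cfsg.Agent.Lib.Helper16.PSL
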