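import Mathlib
import Cfsg.Agent.Lib.Helper16.PSLDefs
import Cfsg.Agent.Lib.Helper3.Induced
import Cfsg.Agent.Lib.Helper25.Ind

set_option autoImplicit false

namespace Cfsg.Agent.Lib.Helper16.PSL

open Cfsg

universe u

/-- LEAF X1b.  Induction preserves power-map invariance. -/
theorem powInv_indFun {L : Type u} [Group L] [Fintype L] (Γ : Subgroup L) (r : ℕ) {ψ : Γ → ℂ}
    (hψ : ∀ (y : Γ) (m : ℕ), m.Coprime (Nat.card L) → m ≡ 1 [MOD r] → ψ (y ^ m) = ψ y) :
    PowInv r (indFun Γ ψ) := by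
  intro g m hm hm1
  unfold indFun
  congr 1
  apply Finset.sum_congr rfl
  intro x _
  have hconj : x⁻¹ * g ^ m * x = (x⁻¹ * g * x) ^ m := by
    have := conj_pow (a := x⁻¹) (b := g) (i := m)
    simp only [inv_inv] at this
    exact this.symm
  rw [hconj]
  set y := x⁻¹ * g * x with hy
  by_cases hyΓ : y ∈ Γ
  · have hymΓ : y ^ m ∈ Γ := Γ.pow_mem hyΓ m
    rw [Cfsg.Agent.Lib.Helper25.extendByZero_of_mem Γ ψ hymΓ,
      Cfsg.Agent.Lib.Helper25.extendByZero_of_mem Γ ψ hyΓ]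
    have := hψ ⟨y, hyΓ⟩ m hm hm1
    exact this
  · have hymΓ : y ^ m ∉ Γ := by
      intro h
      have hcop : m.Coprime (orderOf y) :=
        Nat.Coprime.coprime_dvd_right (orderOf_dvd_natCard y) hm
      obtain ⟨k, hk⟩ := exists_pow_eq_self_of_coprime hcop
      apply hyΓ
      rw [← hk]
      exact Γ.pow_mem h k
    rw [Cfsg.Agent.Lib.Helper25.extendByZero_of_not_mem Γ ψ hymΓ,
      Cfsg.Agent.Lib.Helper25.extendByZero_of_not_mem Γ ψ hyΓ]

end Cfsg.Agent.Lib.Helper16.PSL
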