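import Mathlib
import Cfsg.Agent.Lib.Helper16.PSLDefs
import Cfsg.Agent.Lib.Helper16.PSLX1b
import Cfsg.Agent.Lib.Helper13.PSLX1d
import Cfsg.Agent.Lib.Helper15.GlaubCyc
import Cfsg.Agent.Lib.Helper15.GlaubGal
import Cfsg.Agent.Lib.Helper75.CliffordCorr
import Cfsg.Agent.Lib.Helper79.CliffordCorr
import Cfsg.Agent.Lib.Helper79.Basic
import Cfsg.Agent.Lib.Helper79.Ito
import Cfsg.Agent.Lib.Helper3.Induced
import Cfsg.Agent.Lib.Helper3.CharOps
import Cfsg.Agent.Lib.Helper25.ZKer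

set_option autoImplicit false
set_option linter.style.haveILetI false

namespace Cfsg.Agent.Lib.Helper16.PSL

open Cfsg
open scoped ComplexConjugate

universe u

/-- forward half of `Helper25.indFun_trivial_on_iff`, without normality of `K`. -/
theorem x1_ind_trivial {L : Type u} [Group L] [Fintype L] (K Z : Subgroup L) [hZ : Z.Normal]
    (hZK : Z ≤ K) {θ : K → ℂ} (hθ : IsCharacter K θ)
    (h : ∀ z ∈ Z, indFun K θ z = indFun K θ 1) : ∀ z : K, (z : L) ∈ Z → θ z = θ 1 := by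
  have hcard : (Nat.card K : ℂ) ≠ 0 := by exact_mod_cast Nat.card_pos.ne'
  have hterm1 : ∀ x : L, extendByZero K θ (x⁻¹ * 1 * x) = θ 1 := by
    intro x
    have e : x⁻¹ * 1 * x = ((1 : K) : L) := by simp
    rw [e, Cfsg.Agent.Lib.Helper25.extendByZero_coe]
  have hterm : ∀ (z : L) (hz : z ∈ Z) (x : L), extendByZero K θ (x⁻¹ * z * x) =
      θ ⟨x⁻¹ * z * x, hZK (by simpa using hZ.conj_mem z hz x⁻¹)⟩ := by
    intro z hz x
    exact Cfsg.Agent.Lib.Helper25.extendByZero_of_mem K θ _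
  intro z hz
  have h1 := h z hz
  rw [Cfsg.Agent.Lib.Helper25.indFun_apply, Cfsg.Agent.Lib.Helper25.indFun_apply] at h1
  have h2 := mul_left_cancel₀ (inv_ne_zero hcard) h1
  rw [Finset.sum_congr rfl (fun x _ => hterm z hz x),
    Finset.sum_congr rfl (fun x _ => hterm1 x)] at h2
  have h3 := congrArg Complex.re h2
  rw [Complex.re_sum, Complex.re_sum] at h3
  have hle : ∀ x ∈ (Finset.univ : Finset L),
      (θ ⟨x⁻¹ * z * x, hZK (by simpa using hZ.conj_mem z hz x⁻¹)⟩).re ≤ (θ 1).re :=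
    fun x _ => (Cfsg.Agent.Lib.Helper25.char_re_le hθ _).1
  have hall := (Finset.sum_eq_sum_iff_of_le hle).mp h3 1 (Finset.mem_univ _)
  have h4 := (Cfsg.Agent.Lib.Helper25.char_re_le hθ _).2 hall
  have e : (⟨(1 : L)⁻¹ * z * 1, hZK (by simpa using hZ.conj_mem z hz (1 : L)⁻¹)⟩ : K) = z := by
    apply Subtype.ext
    simp
  rw [e] at h4
  exact h4

/-- LEAF X1. -/
theorem exists_pi_char_irr {L : Type u} [Group L] [Finite L] (Q : Subgroup L) [hQn : Q.Normal]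
    (hcop : (Nat.card Q).Coprime Q.index) {ξ : L → ℂ} (hξ : IsIrrCharacter L ξ) :
    ∃ X : L → ℂ, IsCharacter L X ∧ PowInv (Nat.card Q) X ∧
      (∃ a b : ℕ, X 1 = (a : ℂ) ∧ ξ 1 = (b : ℂ) ∧ a ≤ b) ∧
      ∀ q ∈ Q, X q = X 1 → ξ q = ξ 1 := by
  classical
  haveI : Fintype L := Fintype.ofFinite L
  haveI : Fintype Q := Fintype.ofFinite Q
  obtain ⟨θ, hθ, hc⟩ := Cfsg.Agent.Lib.Helper79.exists_irr_constituent_restrict Q hξ
  have hθc : IsCharacter Q θ := Cfsg.Agent.Lib.Helper3.IsIrrCharacter.isCharacter hθ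
  have hθcf : IsClassFunction Q θ := Cfsg.Agent.Lib.Helper3.IsCharacter.isClassFunction hθc
  set Γ : Subgroup L := Cfsg.Agent.Lib.Helper79.inertia Q θ with hΓ
  have hQΓ : Q ≤ Γ := Cfsg.Agent.Lib.Helper79.le_inertia Q hθcf
  haveI : Fintype Γ := Fintype.ofFinite Γ
  -- the copy of Q inside Γ
  have hNn : (Q.subgroupOf Γ).Normal := inferInstance
  haveI : Fintype (Q.subgroupOf Γ) := Fintype.ofFinite _
  have hθ' : IsIrrCharacter (Q.subgroupOf Γ) (Cfsg.Agent.Lib.Helper75.resSub Q Γ θ) :=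
    Cfsg.Agent.Lib.Helper75.isIrrCharacter_resSub hQΓ hθ
  have hcardN : Nat.card (Q.subgroupOf Γ) = Nat.card Q :=
    Nat.card_congr (Subgroup.subgroupOfEquivOfLe hQΓ).toEquiv
  have hidx : (Q.subgroupOf Γ).index ∣ Q.index := Subgroup.relIndex_dvd_index_of_le hQΓ
  have hcopN : (Nat.card (Q.subgroupOf Γ)).Coprime (Q.subgroupOf Γ).index := by
    rw [hcardN]
    exact Nat.Coprime.coprime_dvd_right hidx hcop
  have hinv : ∀ (g : Γ) (n : Q.subgroupOf Γ),
      Cfsg.Agent.Lib.Helper75.resSub Q Γ θ ⟨g * n * g⁻¹, hNn.conj_mem (n : Γ) n.2 g⟩ =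
        Cfsg.Agent.Lib.Helper75.resSub Q Γ θ n := by
    intro g n
    have hg : Cfsg.Agent.Lib.Helper75.conjFun Q (g : L) θ = θ :=
      (Cfsg.Agent.Lib.Helper79.mem_inertia Q θ (g : L)).mp g.2
    have h1 := congrFun hg ⟨((n : Γ) : L), Subgroup.mem_subgroupOf.mp n.2⟩
    rw [Cfsg.Agent.Lib.Helper75.conjFun_apply] at h1
    unfold Cfsg.Agent.Lib.Helper75.resSub
    exact h1
  obtain ⟨θh, hcan, hres⟩ := Cfsg.Agent.Lib.Helper15.exists_canon hcopN hθ' hinv
  have hθhc : IsCharacter Γ θh := Cfsg.Agent.Lib.Helper3.IsIrrCharacter.isCharacter hcan.irr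
  refine ⟨indFun Γ θh, Cfsg.Agent.Lib.Helper3.isCharacter_indFun Γ hθhc, ?_, ?_, ?_⟩
  · -- power invariance
    apply powInv_indFun
    intro y m hm hm1
    have hm' : m.Coprime (Nat.card Γ) :=
      Nat.Coprime.coprime_dvd_right (Subgroup.card_subgroup_dvd_card Γ) hm
    have hm1' : m ≡ 1 [MOD Nat.card (Q.subgroupOf Γ)] := by rw [hcardN]; exact hm1
    exact Cfsg.Agent.Lib.Helper15.canonical_pow_invariant (Q.subgroupOf Γ) hcopN hcan.irr hcan.res
      hcan.det m hm' hm1' y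
  · -- degrees
    obtain ⟨d, hd, -, hd0⟩ := Cfsg.Agent.Lib.Helper3.IsIrrCharacter.apply_one_dvd_card hθ
    have hθh1 : θh 1 = (d : ℂ) := by
      have := hres 1
      rw [show ((1 : Q.subgroupOf Γ) : Γ) = 1 from rfl] at this
      rw [this]
      unfold Cfsg.Agent.Lib.Helper75.resSub
      rw [← hd]
      rfl
    have hX1 : indFun Γ θh 1 = ((Γ.index * d : ℕ) : ℂ) := by
      rw [Cfsg.Agent.Lib.Helper75.indFun_apply_one, hθh1]; push_cast; ring
    have hdeg := Cfsg.Agent.Lib.Helper79.clifford_degree Q hξ hθ hc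
    -- multiplicity is a positive natural
    have := Fintype.ofFinite (IrrCharacter Q)
    obtain ⟨m, hm, -⟩ := Cfsg.Agent.Lib.Helper3.IsCharacter.exists_mult
      (Cfsg.Agent.Lib.Helper3.IsCharacter.restrict
        (Cfsg.Agent.Lib.Helper3.IsIrrCharacter.isCharacter hξ) Q)
    have he := hm ⟨θ, hθ⟩
    simp only at he
    have he0 : m ⟨θ, hθ⟩ ≠ 0 := by
      intro h0
      rw [h0] at he
      exact hc (by simpa using he)
    refine ⟨Γ.index * d, m ⟨θ, hθ⟩ * Γ.index * d, hX1, ?_, ?_⟩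
    · rw [hdeg, he, hd, ← hΓ]; push_cast; ring
    · calc Γ.index * d = 1 * (Γ.index * d) := (one_mul _).symm
        _ ≤ m ⟨θ, hθ⟩ * (Γ.index * d) := Nat.mul_le_mul_right _ (Nat.one_le_iff_ne_zero.mpr he0)
        _ = m ⟨θ, hθ⟩ * Γ.index * d := (mul_assoc _ _ _).symm
  · -- kernels
    intro q hq hXq
    have hXc := Cfsg.Agent.Lib.Helper3.isCharacter_indFun Γ hθhc
    set Z : Subgroup L := Cfsg.Agent.Lib.Helper79.charKer hXc ⊓ Q with hZ
    have : Z.Normal := inferInstance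
    have hZQ : Z ≤ Q := inf_le_right
    have hZΓ : Z ≤ Γ := hZQ.trans hQΓ
    have htriv : ∀ z ∈ Z, indFun Γ θh z = indFun Γ θh 1 := fun z hz =>
      (Cfsg.Agent.Lib.Helper79.mem_charKer hXc z).mp hz.1
    have h1 := x1_ind_trivial Γ Z hZΓ hθhc htriv
    have hZθ : ∀ z : Q, (z : L) ∈ Z → θ z = θ 1 := by
      intro z hz
      have hzΓ : (z : L) ∈ Γ := hQΓ z.2
      have h2 := h1 ⟨(z : L), hzΓ⟩ hz
      have hzN : (⟨(z : L), hzΓ⟩ : Γ) ∈ Q.subgroupOf Γ := Subgroup.mem_subgroupOf.mpr z.2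
      have h3 := hres ⟨⟨(z : L), hzΓ⟩, hzN⟩
      have h4 := hres 1
      simp only at h3
      rw [show ((1 : Q.subgroupOf Γ) : Γ) = 1 from rfl] at h4
      rw [h3, h4] at h2
      unfold Cfsg.Agent.Lib.Helper75.resSub at h2
      exact h2
    exact normal_le_ker_of_constituent Q hξ hθ hc Z hZQ hZθ q
      ⟨(Cfsg.Agent.Lib.Helper79.mem_charKer hXc q).mpr hXq, hq⟩

end Cfsg.Agent.Lib.Helper16.PSL
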