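import Mathlib
import Cfsg.Agent.Lib.Helper16.PSLDefs
import Cfsg.Agent.Lib.Helper16.PSLX1
import Cfsg.Agent.Lib.Helper76.PSLX2
import Cfsg.Agent.Lib.Helper87.PSLB1core
import Cfsg.Agent.Lib.Helper60.PSLB2core
import Cfsg.Agent.Lib.Helper9.PSLG1b
import Cfsg.Prelude.Def_CaseTheorems

/-!
# S4472: assembly of the PSL hive
-/

set_option autoImplicit false

namespace Cfsg.Agent.Lib.Helper16.PSL

open Cfsg

universe u

theorem exists_pi_char {L : Type u} [Group L] [Finite L] (Q : Subgroup L) [Q.Normal]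
    (hcop : (Nat.card Q).Coprime Q.index) {χ : L → ℂ} (hχ : IsCharacter L χ) :
    ∃ X : L → ℂ, IsCharacter L X ∧ PowInv (Nat.card Q) X ∧
      (∃ a b : ℕ, X 1 = (a : ℂ) ∧ χ 1 = (b : ℂ) ∧ a ≤ b) ∧
      ∀ q ∈ Q, X q = X 1 → χ q = χ 1 :=
  x2_of_irr Q (fun _ hξ => exists_pi_char_irr Q hcop hξ) hχ

theorem bound_npc {L : Type u} [Group L] [Finite L] (p : ℕ) (hp : p.Prime) (Q P : Subgroup L)
    [Q.Normal] (hQ : (Nat.card Q).Coprime p) (hP : IsPGroup p P) (hQP : Q ⊔ P = ⊤)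
    (χ : L → ℂ) (hχ : IsCharacter L χ) (hfaith : ∀ g : L, χ g = χ 1 → g = 1) (n : ℕ)
    (hn : charDegree χ = n) :
    ((P ⊓ Subgroup.centralizer (Q : Set L)).relIndex P).factorization p ≤ lam p n :=
  b1_main p hp Q P hQ hP hQP χ hχ hfaith n hn
    (exists_pi_char Q (b1_coprime p hp Q P hQ hP hQP).1 hχ)

theorem bound_pair {G : Type u} [Group G] [Finite G] (p : ℕ) (hp : p.Prime) (Q P : Subgroup G)
    (hQ : (Nat.card Q).Coprime p) (hP : IsPGroup p P)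
    (hPQ : P ≤ Subgroup.normalizer (Q : Set G))
    (χ : G → ℂ) (hχ : IsCharacter G χ) (hfaith : ∀ g : G, χ g = χ 1 → g = 1) (n : ℕ)
    (hn : charDegree χ = n) :
    ((P ⊓ Subgroup.centralizer (Q : Set G)).relIndex P).factorization p ≤ lam p n :=
  b2_of_npc p hp
    (fun Q P _ hQ hP hQP χ hχ hf n hn => bound_npc p hp Q P hQ hP hQP χ hχ hf n hn)
    Q P hQ hP hPQ χ hχ hfaith n hn

theorem s4472 {G : Type u} [Group G] [Finite G] (χ : G → ℂ) (hχ : Cfsg.IsCharacter G χ)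
    (hfaith : ∀ g : G, χ g = χ 1 → g = 1) (n : ℕ) (hn : Cfsg.charDegree χ = n) (p : ℕ)
    (hp : p.Prime) (hsolv : Cfsg.IsPSolvable p G) :
    ((Cfsg.pCore p G).index).factorization p ≤
      ∑ i ∈ Finset.range (n + 1), n / ((p - 1) * p ^ i) := by
  have := Fact.mk hp
  obtain ⟨Q, P, hQ, hP, hPQ, hle⟩ := exists_npc_pair p hsolv
  exact hle.trans (bound_pair p hp Q P hQ hP hPQ χ hχ hfaith n hn)

end Cfsg.Agent.Lib.Helper16.PSL
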