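import Cfsg.Agent.Lib.Helper16.LocalS
import Mathlib.RingTheory.IntegralClosure.IsIntegralClosure.Basic
import Mathlib.RingTheory.Polynomial.ScaleRoots
import Mathlib.FieldTheory.IsAlgClosed.Basic
import Mathlib.Analysis.Complex.Polynomial.Basic
import Mathlib.Algebra.Polynomial.Lifts
import Mathlib.Algebra.MonoidAlgebra.Basic
import Mathlib.RingTheory.IntegralClosure.Algebra.Basic

/-!
# Ring-theoretic core for the projective cover of the trivial module (S4427 hive)

* `mem_localSubring_of_isIntegral`: the local ring at `M` is integrally closed in `ℂ`.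
* `exists_roots_multiset`: every monic polynomial over the local ring splits there.
* `exists_unit_split`: unit-root / non-unit-root factorisation with a Bezout relation.
-/

set_option autoImplicit false

namespace Cfsg.Agent.Lib.Helper16

open Cfsg Cfsg.Agent.Lib.Helper77 Cfsg.Agent.Lib.Helper81 Polynomial

variable {M : Ideal AlgInt}

/-- a finite family of local integers has a common denominator outside `M`. -/
theorem pimidem_common_denominator (hM : M.IsPrime) (n : ℕ) (c : ℕ → ℂ)
    (hc : ∀ i, i < n → MemLocalRing M (c i)) :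
    ∃ β : AlgInt, β ∉ M ∧ ∀ i, i < n → ((β : ℂ) * c i) ∈ (AlgInt : Subalgebra ℤ ℂ) := by
  induction n with
  | zero => exact ⟨1, fun h => hM.ne_top ((Ideal.eq_top_iff_one M).mpr h), fun i hi => by omega⟩
  | succ n ih =>
    obtain ⟨β, hβ, hβc⟩ := ih (fun i hi => hc i (by omega))
    obtain ⟨a, b, hb, hab⟩ := hc n (by omega)
    have hb0 : (b : ℂ) ≠ 0 := by
      intro h
      apply hb
      have : b = 0 := Subtype.ext (by simpa using h)
      rw [this]; exact M.zero_mem
    refine ⟨β * b, fun h => ?_, fun i hi => ?_⟩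
    · rcases hM.mem_or_mem h with h | h
      · exact hβ h
      · exact hb h
    · rcases Nat.lt_succ_iff_lt_or_eq.mp hi with hi | rfl
      · have := (AlgInt : Subalgebra ℤ ℂ).mul_mem b.2 (hβc i hi)
        have e : ((β * b : AlgInt) : ℂ) * c i = (b : ℂ) * ((β : ℂ) * c i) := by
          push_cast; ring
        rw [e]; exact this
      · have e : ((β * b : AlgInt) : ℂ) * c i = (β : ℂ) * (a : ℂ) := by
          rw [← hab]; push_cast; field_simp
        rw [e]; exact (AlgInt : Subalgebra ℤ ℂ).mul_mem β.2 a.2

/-- **L1.** The local ring at `M` is integrally closed in `ℂ`. -/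
theorem mem_localSubring_of_isIntegral (hM : M.IsPrime) {z : ℂ}
    (hz : IsIntegral (localSubring M hM) z) : z ∈ localSubring M hM := by
  obtain ⟨f, hf, hfz⟩ := hz
  set n := f.natDegree with hn
  obtain ⟨β, hβ, hβc⟩ := pimidem_common_denominator hM n (fun i => ((f.coeff i : localSubring M hM) : ℂ))
    (fun i _ => (f.coeff i).2)
  have hβ0 : (β : ℂ) ≠ 0 := by
    intro h
    apply hβ
    have : β = 0 := Subtype.ext (by simpa using h)
    rw [this]; exact M.zero_mem
  -- the coefficients of the scaled polynomial
  have hd : ∀ i, i < n → ((β : ℂ) ^ (n - i) * ((f.coeff i : localSubring M hM) : ℂ)) ∈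
      (AlgInt : Subalgebra ℤ ℂ) := by
    intro i hi
    have e : (β : ℂ) ^ (n - i) * ((f.coeff i : localSubring M hM) : ℂ) =
        (β : ℂ) ^ (n - i - 1) * ((β : ℂ) * ((f.coeff i : localSubring M hM) : ℂ)) := by
      have : n - i = (n - i - 1) + 1 := by omega
      rw [this, pow_succ]
      simp only [Nat.add_sub_cancel]
      ring
    rw [e]
    exact (AlgInt : Subalgebra ℤ ℂ).mul_mem ((AlgInt : Subalgebra ℤ ℂ).pow_mem β.2 _) (hβc i hi)
  let d : ℕ → AlgInt := fun i =>
    if h : i < n then ⟨(β : ℂ) ^ (n - i) * ((f.coeff i : localSubring M hM) : ℂ), hd i h⟩ else 0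
  let q : Polynomial AlgInt := X ^ n + ∑ i ∈ Finset.range n, C (d i) * X ^ i
  have hqdeg : (∑ i ∈ Finset.range n, C (d i) * (X : Polynomial AlgInt) ^ i).degree < n := by
    refine (Polynomial.degree_sum_le _ _).trans_lt ?_
    refine (Finset.sup_lt_iff (WithBot.bot_lt_coe n)).2 fun i hi => ?_
    refine (Polynomial.degree_C_mul_X_pow_le i _).trans_lt ?_
    exact WithBot.coe_lt_coe.mpr (Finset.mem_range.mp hi)
  have hqm : q.Monic := Polynomial.monic_X_pow_add hqdeg
  -- the value of `f` at `z`
  have hfz' : z ^ n + ∑ i ∈ Finset.range n, ((f.coeff i : localSubring M hM) : ℂ) * z ^ i = 0 := by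
    have := hfz
    rw [Polynomial.eval₂_eq_sum_range, Finset.sum_range_succ, ← hn] at this
    have hlead : f.coeff n = 1 := hf
    rw [hlead, map_one, one_mul, add_comm] at this
    exact this
  have hw : IsIntegral AlgInt ((β : ℂ) * z) := by
    refine ⟨q, hqm, ?_⟩
    have : Polynomial.eval₂ (algebraMap AlgInt ℂ) ((β : ℂ) * z) q =
        (β : ℂ) ^ n * (z ^ n + ∑ i ∈ Finset.range n,
          ((f.coeff i : localSubring M hM) : ℂ) * z ^ i) := by
      simp only [q, Polynomial.eval₂_add, Polynomial.eval₂_finsetSum, Polynomial.eval₂_mul,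
        Polynomial.eval₂_C, Polynomial.eval₂_X_pow]
      rw [mul_add, Finset.mul_sum, mul_pow]
      congr 1
      refine Finset.sum_congr rfl fun i hi => ?_
      have hi' : i < n := Finset.mem_range.mp hi
      have hdi : ((algebraMap AlgInt ℂ) (d i)) =
          (β : ℂ) ^ (n - i) * ((f.coeff i : localSubring M hM) : ℂ) := by
        simp only [d, dif_pos hi']
        rfl
      rw [hdi, mul_pow]
      have : (β : ℂ) ^ n = (β : ℂ) ^ (n - i) * (β : ℂ) ^ i := by
        rw [← pow_add]; congr 1; omega
      rw [this]; ring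
    rw [this, hfz', mul_zero]
  have hwZ : IsIntegral ℤ ((β : ℂ) * z) := isIntegral_trans _ hw
  refine ⟨⟨(β : ℂ) * z, hwZ⟩, β, hβ, ?_⟩
  field_simp

/-- **L1'.** Every monic polynomial over the local ring at `M` splits into linear factors. -/
theorem exists_roots_multiset (hM : M.IsPrime) (f : Polynomial (localSubring M hM)) (hf : f.Monic) :
    ∃ s : Multiset (localSubring M hM), f = (s.map fun a => X - C a).prod := by
  induction hn : f.natDegree generalizing f with
  | zero =>
    refine ⟨0, ?_⟩
    rw [Multiset.map_zero, Multiset.prod_zero]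
    exact Polynomial.eq_one_of_monic_natDegree_zero hf hn
  | succ n ih =>
    have hinj : Function.Injective (algebraMap (localSubring M hM) ℂ) := Subtype.val_injective
    have hdeg : (f.map (algebraMap (localSubring M hM) ℂ)).degree ≠ 0 := by
      rw [Polynomial.degree_map_eq_of_injective hinj, Polynomial.degree_eq_natDegree hf.ne_zero, hn]
      exact_mod_cast Nat.succ_ne_zero n
    obtain ⟨z, hz⟩ := IsAlgClosed.exists_root _ hdeg
    have hz' : Polynomial.eval₂ (algebraMap (localSubring M hM) ℂ) z f = 0 := by
      rw [← Polynomial.eval_map]; exact hz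
    have hzS : z ∈ localSubring M hM := mem_localSubring_of_isIntegral hM ⟨f, hf, hz'⟩
    set z' : localSubring M hM := ⟨z, hzS⟩ with hz'def
    have hroot : f.IsRoot z' := by
      apply hinj
      rw [map_zero, ← Polynomial.eval₂_at_apply]
      exact hz'
    have hfac : (X - C z') * (f /ₘ (X - C z')) = f := Polynomial.mul_divByMonic_eq_iff_isRoot.2 hroot
    have hmon : (f /ₘ (X - C z')).Monic :=
      Polynomial.Monic.of_mul_monic_left (Polynomial.monic_X_sub_C z') (by rw [hfac]; exact hf)
    have hdeg' : (f /ₘ (X - C z')).natDegree = n := by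
      rw [Polynomial.natDegree_divByMonic f (Polynomial.monic_X_sub_C z'), hn,
        Polynomial.natDegree_X_sub_C]
      rfl
    obtain ⟨s, hs⟩ := ih _ hmon hdeg'
    refine ⟨z' ::ₘ s, ?_⟩
    rw [Multiset.map_cons, Multiset.prod_cons, ← hs, hfac]

section LocalSplit

variable {S : Type*} [CommRing S]

theorem pimidem_isCoprime_linear {a b : S} (hab : IsUnit (a - b)) :
    IsCoprime (X - C a : Polynomial S) (X - C b) := by
  obtain ⟨u, hu⟩ := hab.exists_left_inv
  refine ⟨- C u, C u, ?_⟩
  have : - C u * (X - C a) + C u * (X - C b) = C (u * (a - b)) := by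
    rw [C_mul, C_sub]; ring
  rw [this, hu, C_1]

theorem pimidem_isCoprime_prod (s₁ s₂ : Multiset S)
    (h : ∀ a ∈ s₁, ∀ b ∈ s₂, IsUnit (a - b)) :
    IsCoprime (s₁.map fun a => (X - C a : Polynomial S)).prod
      (s₂.map fun a => (X - C a : Polynomial S)).prod := by
  induction s₁ using Multiset.induction_on with
  | empty => rw [Multiset.map_zero, Multiset.prod_zero]; exact isCoprime_one_left
  | cons a s₁ ih =>
    rw [Multiset.map_cons, Multiset.prod_cons]
    refine IsCoprime.mul_left ?_ (ih fun a' ha' => h a' (Multiset.mem_cons_of_mem ha'))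
    have ha : ∀ b ∈ s₂, IsUnit (a - b) := h a (Multiset.mem_cons_self a s₁)
    clear ih h
    induction s₂ using Multiset.induction_on with
    | empty => rw [Multiset.map_zero, Multiset.prod_zero]; exact isCoprime_one_right
    | cons b s₂ ih2 =>
      rw [Multiset.map_cons, Multiset.prod_cons]
      exact IsCoprime.mul_right (pimidem_isCoprime_linear (ha b (Multiset.mem_cons_self b s₂)))
        (ih2 fun b' hb' => ha b' (Multiset.mem_cons_of_mem hb'))

theorem pimidem_isUnit_eval_zero (s : Multiset S) (h : ∀ a ∈ s, IsUnit a) :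
    IsUnit ((s.map fun a => (X - C a : Polynomial S)).prod.eval 0) := by
  induction s using Multiset.induction_on with
  | empty => simp
  | cons a s ih =>
    rw [Multiset.map_cons, Multiset.prod_cons, Polynomial.eval_mul]
    refine IsUnit.mul ?_ (ih fun a' ha' => h a' (Multiset.mem_cons_of_mem ha'))
    simpa using h a (Multiset.mem_cons_self a s)

theorem pimidem_isUnit_eval_one [IsLocalRing S] (s : Multiset S) (h : ∀ a ∈ s, ¬ IsUnit a) :
    IsUnit ((s.map fun a => (X - C a : Polynomial S)).prod.eval 1) := by
  induction s using Multiset.induction_on with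
  | empty => simp
  | cons a s ih =>
    rw [Multiset.map_cons, Multiset.prod_cons, Polynomial.eval_mul]
    refine IsUnit.mul ?_ (ih fun a' ha' => h a' (Multiset.mem_cons_of_mem ha'))
    have := IsLocalRing.isUnit_one_sub_self_of_mem_nonunits a (h a (Multiset.mem_cons_self a s))
    simpa using this

open Classical in
/-- unit-root / non-unit-root factorisation of a split polynomial over a local ring. -/
theorem pimidem_split_of_roots [IsLocalRing S] (s : Multiset S) :
    ∃ g h a b : Polynomial S, (s.map fun a => (X - C a : Polynomial S)).prod = g * h ∧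
      a * g + b * h = 1 ∧ IsUnit (g.eval 0) ∧ IsUnit (h.eval 1) := by
  set s₁ := s.filter (fun a => IsUnit a) with hs₁
  set s₂ := s.filter (fun a => ¬ IsUnit a) with hs₂
  have hsum : s₁ + s₂ = s := Multiset.filter_add_not _ s
  have hcop := pimidem_isCoprime_prod s₁ s₂ (fun a ha b hb => by
    have hau : IsUnit a := (Multiset.mem_filter.mp ha).2
    have hbn : ¬ IsUnit b := (Multiset.mem_filter.mp hb).2
    by_contra hab
    apply (IsLocalRing.isUnit_or_isUnit_of_isUnit_add (a := a - b) (b := b)
      (by rw [sub_add_cancel]; exact hau)).elim hab hbn)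
  obtain ⟨a, b, hab⟩ := hcop
  refine ⟨_, _, a, b, ?_, hab, pimidem_isUnit_eval_zero s₁ fun a ha => (Multiset.mem_filter.mp ha).2,
    pimidem_isUnit_eval_one s₂ fun a ha => (Multiset.mem_filter.mp ha).2⟩
  rw [← Multiset.prod_add, ← Multiset.map_add, hsum]

end LocalSplit

/-- **L2b.** Pure algebra: the idempotent cut out by a coprime factorisation `f = g h` of an
annihilating polynomial of `t`, where `g 0` and `h 1` are units and `aug t = 1`. -/
theorem exists_idem_of_split {S : Type*} [CommRing S] {A : Type*} [Ring A] [Algebra S A]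
    (t : A) (aug : A →ₐ[S] S) (haug : aug t = 1) (f g h a b : Polynomial S)
    (hf : f = g * h) (hab : a * g + b * h = 1) (hft : Polynomial.aeval t f = 0)
    (hg0 : IsUnit (g.eval 0)) (hh1 : IsUnit (h.eval 1)) :
    ∃ eps w : A, eps * eps = eps ∧ eps = t * w ∧ eps = w * t ∧ aug eps = 1 := by
  obtain ⟨u, hu⟩ := hg0.exists_left_inv
  -- polynomial identities
  have hid1 : (b * h) * (b * h) = b * h - a * b * f := by
    have : b * h = 1 - a * g := by rw [← hab]; ring
    calc (b * h) * (b * h) = (b * h) * (1 - a * g) := by rw [← this]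
      _ = b * h - a * b * (g * h) := by ring
      _ = b * h - a * b * f := by rw [hf]
  have hgX : g = g.divX * X + C (g.eval 0) := by
    rw [← Polynomial.coeff_zero_eq_eval_zero, Polynomial.divX_mul_X_add]
  set wp : Polynomial S := - (C u * g.divX * b * h) with hwp
  have hid2 : b * h = X * wp + C u * b * f := by
    have h1 : C u * C (g.eval 0) = 1 := by rw [← C_mul, hu, C_1]
    calc b * h = (C u * C (g.eval 0)) * (b * h) := by rw [h1, one_mul]
      _ = C u * b * ((g.divX * X + C (g.eval 0)) * h) - X * (C u * g.divX * b * h) := by ring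
      _ = C u * b * (g * h) - X * (C u * g.divX * b * h) := by rw [← hgX]
      _ = X * wp + C u * b * f := by rw [hwp, hf]; ring
  have hid3 : b * h = wp * X + C u * b * f := by rw [hid2]; ring
  refine ⟨Polynomial.aeval t (b * h), Polynomial.aeval t wp, ?_, ?_, ?_, ?_⟩
  · rw [← map_mul, hid1, map_sub, map_mul (Polynomial.aeval t) (a * b) f, hft, mul_zero, sub_zero]
  · conv_lhs => rw [hid2]
    rw [map_add, map_mul, map_mul (Polynomial.aeval t) (C u * b) f, hft, mul_zero, add_zero,
      Polynomial.aeval_X]
  · conv_lhs => rw [hid3]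
    rw [map_add, map_mul, map_mul (Polynomial.aeval t) (C u * b) f, hft, mul_zero, add_zero,
      Polynomial.aeval_X]
  · have haugp : ∀ q : Polynomial S, aug (Polynomial.aeval t q) = q.eval 1 := by
      intro q
      rw [← Polynomial.aeval_algHom_apply, haug, Polynomial.coe_aeval_eq_eval]
    rw [haugp]
    have hf1 : g.eval 1 * h.eval 1 = 0 := by
      rw [← Polynomial.eval_mul, ← hf, ← haugp, hft, map_zero]
    have hg1 : g.eval 1 = 0 := by
      obtain ⟨v, hv⟩ := hh1.exists_right_inv
      calc g.eval 1 = g.eval 1 * (h.eval 1 * v) := by rw [hv, mul_one]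
        _ = (g.eval 1 * h.eval 1) * v := by ring
        _ = 0 := by rw [hf1, zero_mul]
    have := congrArg (Polynomial.eval 1) hab
    simp only [Polynomial.eval_add, Polynomial.eval_mul, Polynomial.eval_one, hg1, mul_zero,
      zero_add] at this
    rw [Polynomial.eval_mul]
    exact this

/-- **L2a.** unit-root / non-unit-root factorisation of a monic polynomial over the local ring at
`M`, with a Bezout relation. -/
theorem exists_unit_split (hM : M.IsPrime) (f : Polynomial (localSubring M hM)) (hf : f.Monic) :
    ∃ g h a b : Polynomial (localSubring M hM), f = g * h ∧ a * g + b * h = 1 ∧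
      IsUnit (g.eval 0) ∧ IsUnit (h.eval 1) := by
  have := isLocalRing_localSubring hM
  obtain ⟨s, hs⟩ := exists_roots_multiset hM f hf
  obtain ⟨g, h, a, b, h1, h2, h3, h4⟩ := pimidem_split_of_roots s
  exact ⟨g, h, a, b, hs.trans h1, h2, h3, h4⟩

section GroupAlgebra

variable {S : Type*} [CommRing S] {G : Type*} [Group G]

/-- The augmentation map of the group ring of an arbitrary group. -/
noncomputable def pimAug (S : Type*) [CommRing S] (G : Type*) [Group G] :
    MonoidAlgebra S G →ₐ[S] S :=
  MonoidAlgebra.lift S S G 1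

theorem pimAug_apply [Fintype G] (x : MonoidAlgebra S G) :
    pimAug S G x = ∑ g : G, x.coeff g := by
  unfold pimAug
  rw [MonoidAlgebra.lift_apply, Finsupp.sum_fintype _ _ (fun i => by simp)]
  simp

omit [Group G] in
theorem pimidem_finite [Monoid G] [Finite G] : Module.Finite S (MonoidAlgebra S G) :=
  Module.Finite.of_basis (MonoidAlgebra.basis G S)

theorem pim_coeff_mul [Fintype G] (x y : MonoidAlgebra S G) (g : G) :
    (x * y).coeff g = ∑ h : G, x.coeff h * y.coeff (h⁻¹ * g) := by
  rw [MonoidAlgebra.coeff_mul_apply_left, Finsupp.sum_fintype _ _ (fun i => by simp)]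

/-- The element of the group ring with a given coefficient function. -/
noncomputable def pimOfFun {G : Type*} [Monoid G] [Finite G] (t : G → S) : MonoidAlgebra S G :=
  MonoidAlgebra.ofCoeff (Finsupp.equivFunOnFinite.symm t)

omit [Group G] in
@[simp] theorem pimOfFun_coeff [Monoid G] [Finite G] (t : G → S) (g : G) : (pimOfFun t).coeff g = t g := by
  simp [pimOfFun]

end GroupAlgebra

/-- **L2c.** For any element `t` of augmentation `1` of the group ring of a finite group over the
local ring at `M` there is an idempotent `eps` of augmentation `1` with `eps = t * w = w * t`. -/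
theorem exists_pim_idempotent (hM : M.IsPrime) {G : Type*} [Group G] [Fintype G]
    (t : MonoidAlgebra (localSubring M hM) G) (ht : ∑ g : G, t.coeff g = 1) :
    ∃ eps w : MonoidAlgebra (localSubring M hM) G,
      eps * eps = eps ∧ eps = t * w ∧ eps = w * t ∧ ∑ g : G, eps.coeff g = 1 := by
  have hfin : Module.Finite (localSubring M hM) (MonoidAlgebra (localSubring M hM) G) :=
    pimidem_finite
  obtain ⟨f, hfm, hft⟩ := IsIntegral.of_finite (localSubring M hM) t
  obtain ⟨g, h, a, b, hf, hab, hg0, hh1⟩ := exists_unit_split hM f hfm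
  have haug : pimAug (localSubring M hM) G t = 1 := by rw [pimAug_apply]; exact ht
  obtain ⟨eps, w, h1, h2, h3, h4⟩ := exists_idem_of_split t (pimAug (localSubring M hM) G) haug
    f g h a b hf hab (by rw [Polynomial.aeval_def]; exact hft) hg0 hh1
  exact ⟨eps, w, h1, h2, h3, by rw [← pimAug_apply]; exact h4⟩

/-- **L2c, function form.** The same with elements of the group ring written as coefficient
functions and products as convolutions. -/
theorem exists_pim_idempotent_fun (hM : M.IsPrime) {G : Type*} [Group G] [Fintype G]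
    (t : G → localSubring M hM) (ht : ∑ g : G, t g = 1) :
    ∃ eps w : G → localSubring M hM,
      (∀ g, ∑ h : G, eps h * eps (h⁻¹ * g) = eps g) ∧
      (∀ g, eps g = ∑ h : G, t h * w (h⁻¹ * g)) ∧
      (∀ g, eps g = ∑ h : G, w h * t (h⁻¹ * g)) ∧ ∑ g : G, eps g = 1 := by
  obtain ⟨eps, w, h1, h2, h3, h4⟩ := exists_pim_idempotent hM (pimOfFun t)
    (by simpa using ht)
  refine ⟨fun g => eps.coeff g, fun g => w.coeff g, fun g => ?_, fun g => ?_, fun g => ?_, h4⟩
  · show ∑ h : G, eps.coeff h * eps.coeff (h⁻¹ * g) = eps.coeff g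
    rw [← pim_coeff_mul, h1]
  · show eps.coeff g = ∑ h : G, t h * w.coeff (h⁻¹ * g)
    conv_lhs => rw [h2]
    rw [pim_coeff_mul]
    simp
  · show eps.coeff g = ∑ h : G, w.coeff h * t (h⁻¹ * g)
    conv_lhs => rw [h3]
    rw [pim_coeff_mul]
    simp

end Cfsg.Agent.Lib.Helper16
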