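import Cfsg.Agent.Lib.Helper16.BlocksQuotient
import Cfsg.Agent.Lib.Helper75.SectionCount
import Cfsg.Agent.Lib.Helper77.DefectGroup
import Cfsg.Agent.Lib.Helper77.DefectConj
import Cfsg.Agent.Lib.Helper77.Osima

/-!
# Blocks of `G ⧸ N` dominated by a block of `G`, `N` a normal `p`-subgroup (helper16)
-/

set_option autoImplicit false

namespace Cfsg.Agent.Lib.Helper16

open Cfsg Cfsg.Agent.Lib.Helper75 Cfsg.Agent.Lib.Helper77 Cfsg.Agent.Lib.Helper80
  Cfsg.Agent.Lib.Helper81
open scoped ComplexConjugate Pointwise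

universe u

/-- The block `b` of `G ⧸ N` is dominated by the set `B` of characters of `G`: all inflations of
members of `b` lie in `B`. -/
def Dominated {G : Type u} [Group G] (N : Subgroup G) [N.Normal] (B : Set (IrrCharacter G))
    (b : Set (IrrCharacter (G ⧸ N))) : Prop :=
  ∀ ψ ∈ b, ∀ θ : IrrCharacter G, (θ : G → ℂ) = (ψ : G ⧸ N → ℂ) ∘ QuotientGroup.mk → θ ∈ B

/-- Characters in the same block of `G ⧸ N` inflate to characters in the same block of `G`. -/
theorem sameBlock_inflate {G : Type u} [Group G] [Finite G] {M : Ideal AlgInt} (hMp : M.IsPrime)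
    (N : Subgroup G) [N.Normal] (χ ψ : G ⧸ N → ℂ) (h : SameBlock M χ ψ) :
    SameBlock M (χ ∘ QuotientGroup.mk) (ψ ∘ QuotientGroup.mk) := by
  intro g
  obtain ⟨m, hm⟩ : (Subgroup.centralizer ({(g : G ⧸ N)} : Set (G ⧸ N))).index ∣
      (Subgroup.centralizer ({g} : Set G)).index := by
    have h1 : (Subgroup.centralizer ({g} : Set G)).map (QuotientGroup.mk' N) ≤
        Subgroup.centralizer ({(g : G ⧸ N)} : Set (G ⧸ N)) := by
      rintro _ ⟨c, hc, rfl⟩
      rw [SetLike.mem_coe] at hc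
      rw [Subgroup.mem_centralizer_iff] at hc ⊢
      intro v hv
      rw [Set.mem_singleton_iff] at hv
      subst hv
      have := congrArg (QuotientGroup.mk' N) (hc g rfl)
      simpa using this
    exact dvd_trans (Subgroup.index_dvd_of_le h1)
      (Subgroup.index_map_dvd _ (QuotientGroup.mk'_surjective N))
  have e : centralChar (χ ∘ QuotientGroup.mk) g - centralChar (ψ ∘ QuotientGroup.mk) g =
      (m : ℂ) * (centralChar χ (g : G ⧸ N) - centralChar ψ (g : G ⧸ N)) := by
    unfold centralChar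
    simp only [Function.comp_apply, QuotientGroup.mk_one]
    rw [hm]
    push_cast
    ring
  rw [e]
  exact memLocalIdeal_mul_left hMp (memLocalRing_natCast hMp m) (h (g : G ⧸ N))

open Classical in
/-- The block idempotent of `B` at a `p`-regular element centralizing the normal `p`-subgroup
`N` is the sum of the idempotents of the dominated blocks of `G ⧸ N` at the image. -/
theorem blockCoeff_eq_sum_dominated {G : Type u} [Group G] [Fintype G] (p : ℕ) [Fact p.Prime]
    (M : Ideal AlgInt) (hM : IsPModular p M) (N : Subgroup G) [N.Normal] (hN : IsPGroup p N)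
    [Fintype (IrrCharacter G)] [Fintype (G ⧸ N)] [Fintype (IrrCharacter (G ⧸ N))]
    (ξ₀ : IrrCharacter G) (y : G) (hyreg : ¬ p ∣ orderOf y) (hcommP : ∀ u ∈ N, u * y = y * u) :
    blockCoeff (blockOf M (ξ₀ : G → ℂ)) y =
      ∑ b ∈ (blocksFinset M (G ⧸ N)).filter
        (fun b => Dominated N (blockOf M (ξ₀ : G → ℂ)) b), blockCoeff b (y : G ⧸ N) := by
  have hp : p.Prime := Fact.out
  have hMp : M.IsPrime := isPrime_of_isPModular hM
  -- the sum over `N`
  have hsumP : ∑ u : G, (if u ∈ N then blockCoeff (blockOf M (ξ₀ : G → ℂ)) (y * u) else 0) =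
      blockCoeff (blockOf M (ξ₀ : G → ℂ)) y := by
    rw [Finset.sum_eq_single (1 : G)]
    · simp
    · intro u _ hu
      split_ifs with huP
      · apply blockCoeff_eq_zero_of_singular hM ξ₀
        obtain ⟨k, hk⟩ := hN ⟨u, huP⟩
        have hk' : orderOf u ∣ p ^ k := by
          apply orderOf_dvd_of_pow_eq_one
          have := congrArg (Subtype.val) hk
          simpa using this
        obtain ⟨j, hj, hju⟩ := (Nat.dvd_prime_pow hp).mp hk'
        have hj0 : j ≠ 0 := by
          intro h0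
          rw [h0, pow_zero, orderOf_eq_one_iff] at hju
          exact hu hju
        have hcop : (orderOf y).Coprime (orderOf u) := by
          rw [hju]
          exact (Nat.Coprime.pow_left j ((Nat.Prime.coprime_iff_not_dvd hp).mpr hyreg)).symm
        have hcm : Commute y u := (hcommP u huP).symm
        rw [hcm.orderOf_mul_eq_mul_orderOf_of_coprime hcop, hju]
        exact dvd_mul_of_dvd_right (dvd_pow_self p hj0) _
      · rfl
    · intro h0
      exact absurd (Finset.mem_univ _) h0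
  have hexp : ∀ u : G, (if u ∈ N then blockCoeff (blockOf M (ξ₀ : G → ℂ)) (y * u) else 0) =
      (Nat.card G : ℂ)⁻¹ * ∑ ξ ∈ Finset.univ.filter
        (fun ξ : IrrCharacter G => ξ ∈ blockOf M (ξ₀ : G → ℂ)),
        (ξ : G → ℂ) 1 * conj (if u ∈ N then (ξ : G → ℂ) (y * u) else 0) := by
    intro u
    split_ifs
    · rw [blockCoeff_eq_sum]
    · simp
  rw [← hsumP, Finset.sum_congr rfl fun u _ => hexp u, ← Finset.mul_sum, Finset.sum_comm]
  -- inner sums
  have hinner : ∀ ξ : IrrCharacter G,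
      ∑ u : G, (ξ : G → ℂ) 1 * conj (if u ∈ N then (ξ : G → ℂ) (y * u) else 0) =
      if (∀ u ∈ N, (ξ : G → ℂ) u = (ξ : G → ℂ) 1) then
        (Nat.card N : ℂ) * ((ξ : G → ℂ) 1 * conj ((ξ : G → ℂ) y)) else 0 := by
    intro ξ
    rw [← Finset.mul_sum, ← map_sum]
    split_ifs with hker
    · rw [(irr_sum_normal ξ N y).1 hker, map_mul, Complex.conj_natCast]
      ring
    · push Not at hker
      rw [(irr_sum_normal ξ N y).2 hker, map_zero, mul_zero]
  rw [Finset.sum_congr rfl fun ξ _ => hinner ξ, ← Finset.sum_filter, ← Finset.mul_sum]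
  -- the right hand side
  have hrhs : ∑ b ∈ (blocksFinset M (G ⧸ N)).filter
        (fun b => Dominated N (blockOf M (ξ₀ : G → ℂ)) b), blockCoeff b (y : G ⧸ N) =
      (Nat.card (G ⧸ N) : ℂ)⁻¹ * ∑ ψ ∈ Finset.univ.filter (fun ψ : IrrCharacter (G ⧸ N) =>
        Dominated N (blockOf M (ξ₀ : G → ℂ)) (blockOf M (ψ : G ⧸ N → ℂ))),
        (ψ : G ⧸ N → ℂ) 1 * conj ((ψ : G ⧸ N → ℂ) (y : G ⧸ N)) := by
    rw [sum_filter_blockOf hMp (fun b => Dominated N (blockOf M (ξ₀ : G → ℂ)) b), Finset.mul_sum]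
    refine Finset.sum_congr rfl fun b _ => ?_
    rw [blockCoeff_eq_sum]
  rw [hrhs]
  -- the bijection
  have hbij : ∑ ψ ∈ Finset.univ.filter (fun ψ : IrrCharacter (G ⧸ N) =>
        Dominated N (blockOf M (ξ₀ : G → ℂ)) (blockOf M (ψ : G ⧸ N → ℂ))),
        (ψ : G ⧸ N → ℂ) 1 * conj ((ψ : G ⧸ N → ℂ) (y : G ⧸ N)) =
      ∑ ξ ∈ (Finset.univ.filter (fun ξ : IrrCharacter G => ξ ∈ blockOf M (ξ₀ : G → ℂ))).filter
        (fun ξ : IrrCharacter G => ∀ u ∈ N, (ξ : G → ℂ) u = (ξ : G → ℂ) 1),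
        (ξ : G → ℂ) 1 * conj ((ξ : G → ℂ) y) := by
    refine Finset.sum_bij
      (fun ψ _ => (⟨fun g : G => (ψ : G ⧸ N → ℂ) (g : G ⧸ N),
        Cfsg.Agent.Lib.Helper79.isIrrCharacter_inflate N ψ.2⟩ : IrrCharacter G)) ?_ ?_ ?_ ?_
    · intro ψ hψ
      have hdom := (Finset.mem_filter.1 hψ).2
      rw [Finset.mem_filter, Finset.mem_filter]
      refine ⟨⟨Finset.mem_univ _, ?_⟩, ?_⟩
      · exact hdom ψ (self_mem_blockOf hMp ψ) _ rfl
      · intro u hu
        show (ψ : G ⧸ N → ℂ) (u : G ⧸ N) = (ψ : G ⧸ N → ℂ) ((1 : G) : G ⧸ N)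
        rw [(QuotientGroup.eq_one_iff u).2 hu, QuotientGroup.mk_one]
    · intro ψ₁ _ ψ₂ _ h12
      apply Subtype.ext
      funext q
      obtain ⟨g, rfl⟩ := QuotientGroup.mk_surjective q
      have := congrArg (fun θ : IrrCharacter G => (θ : G → ℂ) g) h12
      exact this
    · intro ξ hξ
      rw [Finset.mem_filter, Finset.mem_filter] at hξ
      obtain ⟨⟨-, hξB⟩, hξker⟩ := hξ
      obtain ⟨ξ', hξ'irr, hξ'val⟩ := Cfsg.Agent.Lib.Helper79.isIrrCharacter_deflate ξ.2 N hξker
      have hinfl : (⟨fun g : G => ξ' (g : G ⧸ N),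
          Cfsg.Agent.Lib.Helper79.isIrrCharacter_inflate N hξ'irr⟩ : IrrCharacter G) = ξ := by
        apply Subtype.ext
        funext g
        exact hξ'val g
      refine ⟨⟨ξ', hξ'irr⟩, ?_, hinfl⟩
      rw [Finset.mem_filter]
      refine ⟨Finset.mem_univ _, ?_⟩
      intro ψ' hψ' θ hθ
      have h1 : SameBlock M (ξ' ∘ QuotientGroup.mk) ((ψ' : G ⧸ N → ℂ) ∘ QuotientGroup.mk) :=
        sameBlock_inflate hMp N ξ' (ψ' : G ⧸ N → ℂ) hψ'
      have h2 : (ξ' ∘ QuotientGroup.mk : G → ℂ) = (ξ : G → ℂ) := by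
        funext g
        exact hξ'val g
      rw [h2, ← hθ] at h1
      exact sameBlock_trans hMp hξB h1
    · intro ψ _
      show (ψ : G ⧸ N → ℂ) 1 * conj ((ψ : G ⧸ N → ℂ) (y : G ⧸ N)) =
        (ψ : G ⧸ N → ℂ) ((1 : G) : G ⧸ N) * conj ((ψ : G ⧸ N → ℂ) (y : G ⧸ N))
      rw [QuotientGroup.mk_one]
  rw [hbij]
  have hcard : (Nat.card G : ℂ) = (Nat.card (G ⧸ N) : ℂ) * (Nat.card N : ℂ) := by
    rw [Subgroup.card_eq_card_quotient_mul_card_subgroup N]
    push_cast
    rfl
  have hN0 : (Nat.card N : ℂ) ≠ 0 := by exact_mod_cast Nat.card_pos.ne'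
  have hQ0 : (Nat.card (G ⧸ N) : ℂ) ≠ 0 := by exact_mod_cast Nat.card_pos.ne'
  rw [hcard]
  field_simp

/-- The centralizer of a `p`-regular element centralizing the normal `p`-subgroup `P` maps onto
the centralizer of its image in `G ⧸ P`. -/
theorem map_centralizer_regular {G : Type u} [Group G] [Finite G] (p : ℕ) [Fact p.Prime]
    (P : Subgroup G) [P.Normal] (hP : IsPGroup p P) (g : G) (hg : ¬ p ∣ orderOf g)
    (hgP : ∀ u ∈ P, u * g = g * u) :
    (Subgroup.centralizer ({g} : Set G)).map (QuotientGroup.mk' P) =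
      Subgroup.centralizer ({(g : G ⧸ P)} : Set (G ⧸ P)) := by
  have hp : p.Prime := Fact.out
  apply le_antisymm
  · rintro _ ⟨c, hc, rfl⟩
    rw [SetLike.mem_coe] at hc
    rw [Subgroup.mem_centralizer_iff] at hc ⊢
    intro v hv
    rw [Set.mem_singleton_iff] at hv
    subst hv
    have := congrArg (QuotientGroup.mk' P) (hc g rfl)
    simpa using this
  · intro c' hc'
    obtain ⟨c, rfl⟩ := QuotientGroup.mk_surjective c'
    refine ⟨c, ?_, rfl⟩
    rw [SetLike.mem_coe]
    rw [Subgroup.mem_centralizer_iff] at hc' ⊢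
    intro v hv
    rw [Set.mem_singleton_iff] at hv
    subst hv
    have h1 : ((v * c : G) : G ⧸ P) = ((c * v : G) : G ⧸ P) := by
      have := hc' (v : G ⧸ P) rfl
      simpa using this
    have hu : c⁻¹ * v⁻¹ * c * v ∈ P := by
      have h2 := QuotientGroup.eq.mp h1
      have : (v * c)⁻¹ * (c * v) = c⁻¹ * v⁻¹ * c * v := by group
      rwa [this] at h2
    set u := c⁻¹ * v⁻¹ * c * v with hudef
    have hpow : ∀ n : ℕ, v⁻¹ ^ n * c * v ^ n = c * u ^ n := by
      intro n
      induction n with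
      | zero => simp
      | succ n ih =>
        have hcomm : u ^ n * v = v * u ^ n := hgP _ (pow_mem hu n)
        calc v⁻¹ ^ (n + 1) * c * v ^ (n + 1) = v⁻¹ * (v⁻¹ ^ n * c * v ^ n) * v := by
              rw [pow_succ', pow_succ]; group
          _ = v⁻¹ * (c * u ^ n) * v := by rw [ih]
          _ = v⁻¹ * c * (u ^ n * v) := by group
          _ = v⁻¹ * c * (v * u ^ n) := by rw [hcomm]
          _ = c * (c⁻¹ * v⁻¹ * c * v) * u ^ n := by group
          _ = c * u ^ (n + 1) := by rw [← hudef, pow_succ']; group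
    have h3 := hpow (orderOf v)
    rw [inv_pow, pow_orderOf_eq_one, inv_one, one_mul, mul_one] at h3
    have h4 : u ^ orderOf v = 1 := by
      have := mul_left_cancel (a := c) (b := 1) (c := u ^ orderOf v) (by rw [mul_one]; exact h3)
      exact this.symm
    obtain ⟨k, hk⟩ := hP ⟨u, hu⟩
    have hk' : u ^ (p ^ k) = 1 := by
      have := congrArg Subtype.val hk
      simpa using this
    have hcop : Nat.Coprime (orderOf v) (p ^ k) :=
      (Nat.Coprime.pow_left k ((Nat.Prime.coprime_iff_not_dvd hp).mpr hg)).symm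
    have hu1 : u = 1 := by
      have h5 : orderOf u ∣ orderOf v := orderOf_dvd_of_pow_eq_one h4
      have h6 : orderOf u ∣ p ^ k := orderOf_dvd_of_pow_eq_one hk'
      have := Nat.eq_one_of_dvd_coprimes hcop h5 h6
      exact orderOf_eq_one_iff.mp this
    have : c⁻¹ * v⁻¹ * c * v = 1 := hu1
    calc v * c = c * v * (c⁻¹ * v⁻¹ * c * v)⁻¹ := by group
      _ = c * v := by rw [this]; group

/-- A defect class `y` of the block `B` centralizes the normal `p`-subgroup `N`, and its image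
is a defect class of some block of `G ⧸ N` dominated by `B`. -/
theorem exists_dominated_defectClass {G : Type u} [Group G] [Finite G] (p : ℕ) [Fact p.Prime]
    (M : Ideal AlgInt) (hM : IsPModular p M) (N : Subgroup G) [N.Normal] (hN : IsPGroup p N)
    (ξ₀ : IrrCharacter G) (y : G) (hy : IsDefectClass M (blockOf M (ξ₀ : G → ℂ)) y) :
    (¬ p ∣ orderOf y) ∧ (∀ u ∈ N, u * y = y * u) ∧ ∃ b : Set (IrrCharacter (G ⧸ N)),
      IsPBlock M b ∧ Dominated N (blockOf M (ξ₀ : G → ℂ)) b ∧ IsDefectClass M b (y : G ⧸ N) := by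
  classical
  have := Fintype.ofFinite G
  have := Fintype.ofFinite (G ⧸ N)
  have := Fintype.ofFinite (IrrCharacter G)
  have := Fintype.ofFinite (IrrCharacter (G ⧸ N))
  have hMp : M.IsPrime := isPrime_of_isPModular hM
  have hyreg := isPRegular_of_isDefectClass p M hM ⟨ξ₀, rfl⟩ hy
  have hyc : y ∈ Subgroup.centralizer (N : Set G) := by
    by_contra hcon
    exact hy.2.2 ξ₀ (self_mem_blockOf hMp ξ₀)
      (memLocalIdeal_centralChar_of_not_mem_centralizer hM N hN hcon ξ₀.2)
  have hcomm : ∀ u ∈ N, u * y = y * u := fun u hu => Subgroup.mem_centralizer_iff.1 hyc u hu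
  refine ⟨hyreg, hcomm, ?_⟩
  have heq := blockCoeff_eq_sum_dominated p M hM N hN ξ₀ y hyreg hcomm
  by_contra hcon
  push Not at hcon
  apply hy.2.1
  rw [heq]
  refine memLocalIdeal_sum hMp _ _ fun b hb => ?_
  obtain ⟨hb1, hb2⟩ := Finset.mem_filter.1 hb
  have hbB : IsPBlock M b := mem_blocksFinset.1 hb1
  by_contra hnot
  apply hcon b hbB hb2
  obtain ⟨χ₁, rfl⟩ := hbB
  refine ⟨memLocalRing_blockCoeff hM χ₁ _, hnot, fun ψ hψ => ?_⟩
  have hidx := Cfsg.Agent.S0941.index_centralizer_quotient p N hN y hyreg hcomm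
  have hθ := hb2 ψ hψ ⟨fun g : G => (ψ : G ⧸ N → ℂ) (g : G ⧸ N),
    Cfsg.Agent.Lib.Helper79.isIrrCharacter_inflate N ψ.2⟩ rfl
  have h2 := hy.2.2 _ hθ
  have e : centralChar (ψ : G ⧸ N → ℂ) (y : G ⧸ N) =
      centralChar (fun g : G => (ψ : G ⧸ N → ℂ) (g : G ⧸ N)) y := by
    unfold centralChar
    rw [hidx]
    simp only [QuotientGroup.mk_one]
  rw [e]
  exact h2

theorem map_conj_smul {G H : Type*} [Group G] [Group H] (f : G →* H) (x : G) (K : Subgroup G) :
    (MulAut.conj x • K).map f = MulAut.conj (f x) • K.map f := by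
  ext q
  constructor
  · rintro ⟨h', hh', rfl⟩
    obtain ⟨h, hh, rfl⟩ := (Subgroup.mem_smul_pointwise_iff_exists _ _ _).1 hh'
    rw [Subgroup.mem_smul_pointwise_iff_exists]
    refine ⟨f h, Subgroup.mem_map_of_mem f hh, ?_⟩
    simp [MulAut.smul_def]
  · intro hq
    obtain ⟨h', hh', rfl⟩ := (Subgroup.mem_smul_pointwise_iff_exists _ _ _).1 hq
    obtain ⟨h, hh, rfl⟩ := hh'
    refine ⟨MulAut.conj x • h, Subgroup.smul_mem_pointwise_smul _ _ _ hh, ?_⟩
    simp [MulAut.smul_def]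

/-- **Blocks of `G ⧸ N` for a normal `p`-subgroup `N`**: every block `B` of `G` dominates a block
of `G ⧸ N` whose defect groups are the images of the defect groups of `B`. -/
theorem exists_dominated_defectGroup {G : Type u} [Group G] [Finite G] (p : ℕ) [Fact p.Prime]
    (M : Ideal AlgInt) (hM : IsPModular p M) (N : Subgroup G) [N.Normal] (hN : IsPGroup p N)
    (B : Set (IrrCharacter G)) (hB : IsPBlock M B) :
    ∃ b : Set (IrrCharacter (G ⧸ N)), IsPBlock M b ∧ Dominated N B b ∧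
      ∀ Dbar : Subgroup (G ⧸ N), IsDefectGroup p M b Dbar ↔
        ∃ P : Subgroup G, IsDefectGroup p M B P ∧ Dbar = P.map (QuotientGroup.mk' N) := by
  classical
  have := Fintype.ofFinite G
  have := Fintype.ofFinite (G ⧸ N)
  have hMp : M.IsPrime := isPrime_of_isPModular hM
  obtain ⟨ξ₀, rfl⟩ := hB
  obtain ⟨y, hy⟩ := exists_isDefectClass hM ξ₀
  obtain ⟨hyreg, hcomm, b, hb, hdom, hyb⟩ := exists_dominated_defectClass p M hM N hN ξ₀ y hy
  refine ⟨b, hb, hdom, ?_⟩
  obtain ⟨χ₁, rfl⟩ := hb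
  have hmap := map_centralizer_regular p N hN y hyreg hcomm
  -- the surjection of centralizers
  let f : Subgroup.centralizer ({y} : Set G) →*
      Subgroup.centralizer ({(y : G ⧸ N)} : Set (G ⧸ N)) :=
    ((QuotientGroup.mk' N).comp (Subgroup.centralizer ({y} : Set G)).subtype).codRestrict _
      (fun c => by
        rw [← hmap]
        exact Subgroup.mem_map_of_mem _ c.2)
  have hf : Function.Surjective f := by
    rintro ⟨q, hq⟩
    rw [← hmap] at hq
    obtain ⟨c, hc, rfl⟩ := hq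
    exact ⟨⟨c, hc⟩, rfl⟩
  obtain ⟨P₀⟩ : Nonempty (Sylow p (Subgroup.centralizer ({y} : Set G))) := inferInstance
  have hD₀ : IsDefectGroup p M (blockOf M (ξ₀ : G → ℂ))
      ((P₀ : Subgroup (Subgroup.centralizer ({y} : Set G))).map
        (Subgroup.centralizer ({y} : Set G)).subtype) := ⟨y, hy, P₀, rfl⟩
  have hDb₀ : IsDefectGroup p M (blockOf M (χ₁ : G ⧸ N → ℂ))
      (((P₀.mapSurjective hf : Sylow p _) : Subgroup (Subgroup.centralizer
        ({(y : G ⧸ N)} : Set (G ⧸ N)))).map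
        (Subgroup.centralizer ({(y : G ⧸ N)} : Set (G ⧸ N))).subtype) :=
    ⟨(y : G ⧸ N), hyb, P₀.mapSurjective hf, rfl⟩
  have himg : (((P₀.mapSurjective hf : Sylow p _) : Subgroup (Subgroup.centralizer
        ({(y : G ⧸ N)} : Set (G ⧸ N)))).map
        (Subgroup.centralizer ({(y : G ⧸ N)} : Set (G ⧸ N))).subtype) =
      ((P₀ : Subgroup (Subgroup.centralizer ({y} : Set G))).map
        (Subgroup.centralizer ({y} : Set G)).subtype).map (QuotientGroup.mk' N) := by
    rw [Sylow.coe_mapSurjective, Subgroup.map_map, Subgroup.map_map]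
    rfl
  rw [himg] at hDb₀
  intro Dbar
  constructor
  · intro hDbar
    obtain ⟨xb, hxb⟩ := exists_conj_le_of_isDefectGroup hM χ₁ hDbar hDb₀
    have heq := eq_of_le_of_isDefectGroup hM χ₁ (isDefectGroup_conj hDb₀ xb) hDbar hxb
    obtain ⟨x, rfl⟩ := QuotientGroup.mk_surjective xb
    refine ⟨MulAut.conj x • ((P₀ : Subgroup (Subgroup.centralizer ({y} : Set G))).map
        (Subgroup.centralizer ({y} : Set G)).subtype), isDefectGroup_conj hD₀ x, ?_⟩
    rw [map_conj_smul, ← heq]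
    rfl
  · rintro ⟨P, hP, rfl⟩
    obtain ⟨x, hx⟩ := exists_conj_le_of_isDefectGroup hM ξ₀ hP hD₀
    have heq := eq_of_le_of_isDefectGroup hM ξ₀ (isDefectGroup_conj hD₀ x) hP hx
    rw [← heq, map_conj_smul]
    exact isDefectGroup_conj hDb₀ _

end Cfsg.Agent.Lib.Helper16
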