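import Cfsg.Agent.Lib.Helper16.QuotientDefect
import Cfsg.Agent.Lib.Helper33.SylowSub
import Cfsg.Agent.S0911

/-!
# Defect groups of a block of `G ⧸ N` dominated by a block of `G` (helper16)

`N` an arbitrary normal subgroup: a defect group of a block `B̄` of `G ⧸ N` contained in the
block `B` of `G` lies in the image of a defect group of `B`.
-/

set_option autoImplicit false

namespace Cfsg.Agent.Lib.Helper16

open Cfsg Cfsg.Agent.Lib.Helper75 Cfsg.Agent.Lib.Helper77 Cfsg.Agent.Lib.Helper80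
  Cfsg.Agent.Lib.Helper81
open scoped ComplexConjugate Pointwise

universe u

theorem relIndex_map_map_dvd' {G G' : Type*} [Group G] [Group G'] (f : G →* G')
    {P A : Subgroup G} (hPA : P ≤ A) : (P.map f).relIndex (A.map f) ∣ P.relIndex A := by
  have h1 : (P.subgroupOf A).map (f.comp A.subtype) = P.map f := by
    rw [← Subgroup.map_map, Subgroup.subgroupOf_map_subtype, inf_of_le_left hPA]
  have h2 : (⊤ : Subgroup A).map (f.comp A.subtype) = A.map f := by
    rw [← Subgroup.map_map, ← MonoidHom.range_eq_map, Subgroup.range_subtype]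
  have h3 := Subgroup.relIndex_map_map (f.comp A.subtype) (P.subgroupOf A) ⊤
  rw [h1, h2, top_sup_eq, Subgroup.relIndex_top_right] at h3
  rw [h3]
  exact Subgroup.index_dvd_of_le le_sup_left

theorem sylow_map_facts' {G : Type*} [Group G] {p : ℕ} [Fact p.Prime] [Finite G]
    (K : Subgroup G) (P : Sylow p K) :
    (P : Subgroup K).map K.subtype ≤ K ∧ IsPGroup p ((P : Subgroup K).map K.subtype) ∧
      ¬ p ∣ ((P : Subgroup K).map K.subtype).relIndex K := by
  refine ⟨Subgroup.map_subtype_le _, P.2.map _, ?_⟩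
  have : ((P : Subgroup K).map K.subtype).subgroupOf K = (P : Subgroup K) := by
    rw [Subgroup.subgroupOf, Subgroup.comap_map_eq_self_of_injective K.subtype_injective]
  rw [Subgroup.relIndex, this]
  exact P.not_dvd_index

theorem map_centralizer_le {G : Type*} [Group G] (N : Subgroup G) [N.Normal] (g : G) :
    (Subgroup.centralizer ({g} : Set G)).map (QuotientGroup.mk' N) ≤
      Subgroup.centralizer ({(g : G ⧸ N)} : Set (G ⧸ N)) := by
  rintro _ ⟨c, hc, rfl⟩
  rw [SetLike.mem_coe] at hc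
  rw [Subgroup.mem_centralizer_iff] at hc ⊢
  intro v hv
  rw [Set.mem_singleton_iff] at hv
  subst hv
  have := congrArg (QuotientGroup.mk' N) (hc g rfl)
  simpa using this

theorem exists_defectGroup_map_ge {G : Type u} [Group G] [Finite G] (p : ℕ) [Fact p.Prime]
    (M : Ideal AlgInt) (hM : IsPModular p M) (N : Subgroup G) [N.Normal]
    (Bbar : Set (IrrCharacter (G ⧸ N))) (hBbar : IsPBlock M Bbar)
    (B : Set (IrrCharacter G)) (hB : IsPBlock M B) (hsub : Dominated N B Bbar)
    (Dbar : Subgroup (G ⧸ N)) (hDbar : IsDefectGroup p M Bbar Dbar) :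
    ∃ P : Subgroup G, IsDefectGroup p M B P ∧ Dbar ≤ P.map (QuotientGroup.mk' N) := by
  classical
  have := Fintype.ofFinite G
  have := Fintype.ofFinite (G ⧸ N)
  have hMp : M.IsPrime := isPrime_of_isPModular hM
  have hp : p.Prime := Fact.out
  obtain ⟨χb, rfl⟩ := hBbar
  have hχ₀irr : IsIrrCharacter G (fun g : G => (χb : G ⧸ N → ℂ) (g : G ⧸ N)) :=
    Cfsg.Agent.Lib.Helper79.isIrrCharacter_inflate N χb.2
  have hχ₀B : (⟨_, hχ₀irr⟩ : IrrCharacter G) ∈ B :=
    hsub χb (self_mem_blockOf hMp χb) ⟨_, hχ₀irr⟩ rfl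
  have hBeq : B = blockOf M ((⟨_, hχ₀irr⟩ : IrrCharacter G) : G → ℂ) :=
    eq_blockOf_of_mem hMp hB hχ₀B
  -- a class where both the idempotent and the central character are units
  have h0 : omega ((⟨_, hχ₀irr⟩ : IrrCharacter G) : G → ℂ) (blockCoeff B) = 1 := by
    rw [omega_blockCoeff, if_pos hχ₀B]
  rw [omega_eq_sum_conjClasses (isClassFunction_of_isCharacter hχ₀irr)
    (blockCoeff_isClassFunction B)] at h0
  obtain ⟨c, hc⟩ : ∃ c : ConjClasses G, ¬ MemLocalIdeal M
      (blockCoeff B (Quotient.out c) * centralChar (fun g : G => (χb : G ⧸ N → ℂ) (g : G ⧸ N))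
        (Quotient.out c)) := by
    by_contra hcon
    push Not at hcon
    apply not_memLocalIdeal_one hMp
    rw [← h0]
    exact memLocalIdeal_sum hMp _ _ (fun c _ => hcon c)
  obtain ⟨x, hx⟩ : ∃ x : G, x = Quotient.out c := ⟨_, rfl⟩
  rw [← hx] at hc
  have hbr : MemLocalRing M (blockCoeff B x) := by
    rw [hBeq]
    exact memLocalRing_blockCoeff hM _ x
  have hcr : MemLocalRing M (centralChar (fun g : G => (χb : G ⧸ N → ℂ) (g : G ⧸ N)) x) :=
    memLocalRing_centralChar hMp hχ₀irr x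
  have hb : ¬ MemLocalIdeal M (blockCoeff B x) := fun h =>
    hc (memLocalIdeal_mul_right hMp h hcr)
  have hcc : ¬ MemLocalIdeal M (centralChar (fun g : G => (χb : G ⧸ N → ℂ) (g : G ⧸ N)) x) :=
    fun h => hc (memLocalIdeal_mul_left hMp hbr h)
  -- class sizes
  have hC₁ := map_centralizer_le N x
  obtain ⟨m, hm⟩ : (Subgroup.centralizer ({(x : G ⧸ N)} : Set (G ⧸ N))).index ∣
      (Subgroup.centralizer ({x} : Set G)).index :=
    dvd_trans (Subgroup.index_dvd_of_le hC₁)
      (Subgroup.index_map_dvd _ (QuotientGroup.mk'_surjective N))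
  have e : centralChar (fun g : G => (χb : G ⧸ N → ℂ) (g : G ⧸ N)) x =
      (m : ℂ) * centralChar (χb : G ⧸ N → ℂ) (x : G ⧸ N) := by
    unfold centralChar
    simp only [QuotientGroup.mk_one]
    rw [hm]
    push_cast
    ring
  have hpm : ¬ p ∣ m := by
    intro h
    apply hcc
    rw [e]
    exact memLocalIdeal_mul_right hMp ((memLocalIdeal_natCast_iff hM m).mpr h)
      (memLocalRing_centralChar hMp χb.2 _)
  have hccbar : ¬ MemLocalIdeal M (centralChar (χb : G ⧸ N → ℂ) (x : G ⧸ N)) := by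
    intro h
    apply hcc
    rw [e]
    exact memLocalIdeal_mul_left hMp (memLocalRing_natCast hMp m) h
  -- the defect group of `B`
  obtain ⟨g, hg⟩ : ∃ g : G, IsDefectClass M B g := by
    rw [hBeq]
    exact exists_isDefectClass hM _
  obtain ⟨D⟩ : Nonempty (Sylow p (Subgroup.centralizer ({g} : Set G))) := inferInstance
  obtain ⟨z, Q, hQ⟩ := (Cfsg.Agent.S0911.result p M hM B hB g hg D x).1 hbr hb
  have hPdef : IsDefectGroup p M B (MulAut.conj z •
      ((D : Subgroup (Subgroup.centralizer ({g} : Set G))).map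
        (Subgroup.centralizer ({g} : Set G)).subtype)) :=
    isDefectGroup_conj ⟨g, hg, D, rfl⟩ z
  -- the defect group of `B̄`
  obtain ⟨gb, hgb, Sb, rfl⟩ := hDbar
  obtain ⟨wb, Qb, hQb⟩ := (Cfsg.Agent.S0911.result p M hM _ ⟨χb, rfl⟩ gb hgb Sb (x : G ⧸ N)).2
    ⟨χb, self_mem_blockOf hMp χb, hccbar⟩
  -- the relative Sylow subgroup `R`
  obtain ⟨hQC, hQp, hQi⟩ := sylow_map_facts' (Subgroup.centralizer ({x} : Set G)) Q
  have hRC₁ : ((Q : Subgroup (Subgroup.centralizer ({x} : Set G))).map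
      (Subgroup.centralizer ({x} : Set G)).subtype).map (QuotientGroup.mk' N) ≤
      (Subgroup.centralizer ({x} : Set G)).map (QuotientGroup.mk' N) := Subgroup.map_mono hQC
  have hRi : ¬ p ∣ (((Q : Subgroup (Subgroup.centralizer ({x} : Set G))).map
      (Subgroup.centralizer ({x} : Set G)).subtype).map (QuotientGroup.mk' N)).relIndex
      (Subgroup.centralizer ({(x : G ⧸ N)} : Set (G ⧸ N))) := by
    rw [← Subgroup.relIndex_mul_relIndex _ _ _ hRC₁ hC₁]
    intro hdvd
    rcases (Nat.Prime.dvd_mul hp).1 hdvd with h1 | h1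
    · exact hQi (dvd_trans h1 (relIndex_map_map_dvd' (QuotientGroup.mk' N) hQC))
    · apply hpm
      refine dvd_trans h1 ?_
      have h2 := Subgroup.relIndex_mul_index hC₁
      have h3 : ((Subgroup.centralizer ({x} : Set G)).map (QuotientGroup.mk' N)).index ∣
          (Subgroup.centralizer ({x} : Set G)).index :=
        Subgroup.index_map_dvd _ (QuotientGroup.mk'_surjective N)
      rw [← h2, hm, mul_comm] at h3
      exact Nat.dvd_of_mul_dvd_mul_left
        (Nat.pos_of_ne_zero Subgroup.index_ne_zero_of_finite) h3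
  have hHC : ((Sb : Subgroup (Subgroup.centralizer ({gb} : Set (G ⧸ N)))).map
      (Subgroup.centralizer ({gb} : Set (G ⧸ N))).subtype).map (MulAut.conj wb).toMonoidHom ≤
      Subgroup.centralizer ({(x : G ⧸ N)} : Set (G ⧸ N)) :=
    hQb.trans (Subgroup.map_subtype_le _)
  have hHp : IsPGroup p ↥(((Sb : Subgroup (Subgroup.centralizer ({gb} : Set (G ⧸ N)))).map
      (Subgroup.centralizer ({gb} : Set (G ⧸ N))).subtype).map (MulAut.conj wb).toMonoidHom) :=
    (Sb.2.map _).map _
  obtain ⟨cb, hcb, hle⟩ := Cfsg.Agent.Lib.Helper33.sylow_sub (hRC₁.trans hC₁) (hQp.map _) hRi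
    hHC hHp
  -- lift the conjugating element
  obtain ⟨v, hv⟩ := QuotientGroup.mk_surjective (cb * wb)⁻¹
  refine ⟨MulAut.conj v • (MulAut.conj z •
      ((D : Subgroup (Subgroup.centralizer ({g} : Set G))).map
        (Subgroup.centralizer ({g} : Set G)).subtype)), isDefectGroup_conj hPdef v, ?_⟩
  intro d hd
  have h1 : cb * (wb * d * wb⁻¹) * cb⁻¹ ∈
      ((Q : Subgroup (Subgroup.centralizer ({x} : Set G))).map
      (Subgroup.centralizer ({x} : Set G)).subtype).map (QuotientGroup.mk' N) := by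
    apply hle
    rw [Cfsg.Agent.Lib.Helper33.mem_cj']
    exact ⟨wb * d * wb⁻¹, ⟨d, hd, by simp [MulAut.conj_apply]⟩, rfl⟩
  obtain ⟨q, hq, hqd⟩ := h1
  have hqP : q ∈ MulAut.conj z • ((D : Subgroup (Subgroup.centralizer ({g} : Set G))).map
        (Subgroup.centralizer ({g} : Set G)).subtype) := by
    have := hQ hq
    obtain ⟨t, ht, rfl⟩ := this
    exact (Subgroup.mem_smul_pointwise_iff_exists _ _ _).2 ⟨t, ht, by simp [MulAut.smul_def]⟩
  refine ⟨v * q * v⁻¹, (Subgroup.mem_smul_pointwise_iff_exists _ _ _).2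
    ⟨q, hqP, by simp [MulAut.smul_def]⟩, ?_⟩
  have h2 : (QuotientGroup.mk' N) (v * q * v⁻¹) =
      (cb * wb)⁻¹ * ((QuotientGroup.mk' N) q) * (cb * wb) := by
    rw [map_mul, map_mul, map_inv]
    simp only [QuotientGroup.mk'_apply]
    rw [hv, inv_inv]
  rw [h2, hqd]
  group

end Cfsg.Agent.Lib.Helper16
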