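import Cfsg.Agent.S4667
import Cfsg.Agent.Lib.Helper74.PReg1
import Cfsg.Agent.Lib.Helper80.IrrApi

/-!
# The trace formula for the `p`-regular rank, in `Finset` form
-/

set_option autoImplicit false

open Cfsg
open scoped ComplexConjugate

namespace Cfsg.Agent.Lib.Helper16

universe u

open Classical in
theorem card_mul_blockRank_eq {G : Type u} [Group G] [Fintype G] [Fintype (IrrCharacter G)]
    (p : ℕ) [Fact p.Prime] (M : Ideal AlgInt) (hM : IsPModular p M) (χ₀ : IrrCharacter G) :
    (Nat.card G : ℂ) * (blockRank p (blockOf M (χ₀ : G → ℂ)) : ℂ) =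
      ∑ x ∈ Finset.univ.filter (fun x : G => ¬ p ∣ orderOf x),
        ∑ χ ∈ Finset.univ.filter (fun χ : IrrCharacter G => χ ∈ blockOf M (χ₀ : G → ℂ)),
          (χ : G → ℂ) x * conj ((χ : G → ℂ) x) := by
  rw [Cfsg.Agent.S4667.result p M hM _ ⟨χ₀, rfl⟩, Finset.sum_filter]
  refine Finset.sum_congr rfl fun x _ => ?_
  rw [Cfsg.Agent.Lib.Helper74.finsum_mem_set_eq_sum_filter]
  by_cases hx : p ∣ orderOf x
  · rw [if_neg (not_not.mpr hx)]
    apply Finset.sum_eq_zero
    intro χ _
    have : pRegularPart p (χ : G → ℂ) x = 0 := by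
      unfold pRegularPart
      rw [if_neg]
      unfold IsPRegular
      exact not_not.mpr hx
    rw [this, zero_mul]
  · rw [if_pos hx]
    refine Finset.sum_congr rfl fun χ _ => ?_
    have : pRegularPart p (χ : G → ℂ) x = (χ : G → ℂ) x := by
      unfold pRegularPart
      rw [if_pos]
      exact hx
    rw [this, Cfsg.Agent.Lib.Helper80.irr_conj_inv]

end Cfsg.Agent.Lib.Helper16
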