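import Cfsg.Agent.Lib.Helper16.PC6
import Cfsg.Agent.Lib.Helper16.Degree
import Cfsg.Agent.Lib.Helper77.DefectConj
import Cfsg.Agent.S0855

/-!
# A character of large degree in a block with non-commutative defect group `P`, `G = P C_G(P)`
-/

set_option autoImplicit false

open Cfsg
open scoped ComplexConjugate

namespace Cfsg.Agent.Lib.Helper16

open Cfsg.Agent.Lib.Helper77 Cfsg.Agent.Lib.Helper80 Cfsg.Agent.Lib.Helper81

universe u

/-- If `G = P C_G(P)` and the block `B` has the non-commutative defect group `P`, then `B` has a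
member whose degree has a larger `p`-part than `|G : P|`. -/
theorem exists_degree_gt_of_not_comm {G : Type u} [Group G] [Finite G] (p : ℕ) [Fact p.Prime]
    (M : Ideal AlgInt) (hM : IsPModular p M) (P : Subgroup G)
    (hG : P ⊔ Subgroup.centralizer (P : Set G) = ⊤) (B : Set (IrrCharacter G))
    (hB : IsPBlock M B) (hD : IsDefectGroup p M B P)
    (hnc : ¬ ∀ a ∈ P, ∀ c ∈ P, a * c = c * a) :
    ∃ ξ ∈ B, (Nat.card G).factorization p <
      (charDegree (ξ : G → ℂ)).factorization p + (Nat.card P).factorization p := by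
  classical
  have := Fintype.ofFinite G
  have := Fintype.ofFinite (IrrCharacter G)
  have := Fintype.ofFinite P
  have := Fintype.ofFinite (IrrCharacter P)
  have hp : p.Prime := Fact.out
  have hMp : M.IsPrime := isPrime_of_isPModular hM
  have hPn : P.Normal := normal_of_sup_centralizer_eq_top P hG
  have hPp : IsPGroup p P := isPGroup_of_isDefectGroup hD
  have hC := exists_index_centralizer_eq_pow p P hPp hG
  obtain ⟨θ, hθB, hθker, hθdeg⟩ := exists_ker_height_zero p M hM P B hB hD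
  have huniq : ∀ θ' : IrrCharacter G, θ' ∈ B → (∀ x ∈ P, (θ' : G → ℂ) x = (θ' : G → ℂ) 1) →
      θ' = θ := fun θ' h1 h2 =>
    (ker_unique p M hM P hPp hC B hB hD θ θ' hθB h1 hθker h2).symm
  -- a nonlinear irreducible character of `P`
  obtain ⟨μ, hμ⟩ : ∃ μ : IrrCharacter P, (μ : P → ℂ) 1 ≠ 1 := by
    by_contra hcon
    push Not at hcon
    apply hnc
    intro a ha c hc
    have := Cfsg.Agent.S0855.comm_of_all_linear hcon ⟨a, ha⟩ ⟨c, hc⟩
    exact congrArg Subtype.val this
  obtain ⟨dμ, hdμ0, hdμ1, hdμc, hdμdvd⟩ := irr_degree_spec μ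
  have hpdμ : p ∣ dμ := by
    obtain ⟨k, hk⟩ := IsPGroup.iff_card.mp hPp
    rw [hk] at hdμdvd
    obtain ⟨j, hj, rfl⟩ := (Nat.dvd_prime_pow hp).mp hdμdvd
    cases j with
    | zero => exfalso; apply hμ; rw [hdμ1]; simp
    | succ j => exact dvd_pow_self p (Nat.succ_ne_zero j)
  have hBeq : B = blockOf M (θ : G → ℂ) := eq_blockOf_of_mem hMp hB hθB
  subst hBeq
  have ht : ∀ u : P, ((trivIrr P : IrrCharacter P) : P → ℂ) u = 1 := fun _ => rfl
  have h2 : ((Finset.univ.filter
      (fun χ : IrrCharacter G => χ ∈ blockOf M (θ : G → ℂ))).filter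
      (fun χ => LiesOver P χ (trivIrr P))) = {θ} := by
    ext χ
    simp only [Finset.mem_filter, Finset.mem_univ, true_and, Finset.mem_singleton]
    constructor
    · rintro ⟨hχB, hlo⟩
      apply huniq χ hχB
      intro x hx
      have := hlo ⟨x, hx⟩
      rw [ht, ht, mul_one, one_mul] at this
      exact this
    · rintro rfl
      refine ⟨hθB, ?_⟩
      intro u
      rw [ht, ht, mul_one, one_mul]
      exact hθker u u.2
  have h3 := card_liesOver_eq P hM hPp hG θ hD μ
  rw [h2, Finset.card_singleton, Finset.card_eq_one] at h3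
  obtain ⟨ξ, hξ⟩ := h3
  have hξmem : ξ ∈ ((Finset.univ.filter
      (fun χ : IrrCharacter G => χ ∈ blockOf M (θ : G → ℂ))).filter
      (fun χ => LiesOver P χ μ)) := by rw [hξ]; exact Finset.mem_singleton_self ξ
  have hξB : ξ ∈ blockOf M (θ : G → ℂ) :=
    (Finset.mem_filter.mp (Finset.mem_filter.mp hξmem).1).2
  have h1 : ¬ p ∣ orderOf (1 : G) := by
    rw [orderOf_one]
    exact hp.one_lt.ne' ∘ Nat.dvd_one.mp
  have h4 := sum_liesOver_eq P hM hPp hG θ 1 h1 μ
  rw [h2, hξ, Finset.sum_singleton, Finset.sum_singleton] at h4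
  obtain ⟨dξ, hdξ0, hdξ1, hdξc, -⟩ := irr_degree_spec ξ
  obtain ⟨dθ, hdθ0, hdθ1, hdθc, -⟩ := irr_degree_spec θ
  rw [hdξ1, hdθ1, hdμ1, Complex.conj_natCast, Complex.conj_natCast] at h4
  have h5 : dξ * dξ = (dμ * dθ) * (dμ * dθ) := by
    have : ((dξ * dξ : ℕ) : ℂ) = (((dμ * dθ) * (dμ * dθ) : ℕ) : ℂ) := by
      push_cast
      rw [h4]
      ring
    exact_mod_cast this
  have h6 : dξ = dμ * dθ := Nat.mul_self_inj.mp h5
  refine ⟨ξ, hξB, ?_⟩
  rw [hdξc, h6, Nat.factorization_mul hdμ0.ne' hdθ0.ne']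
  rw [hdθc] at hθdeg
  have h7 : 1 ≤ dμ.factorization p :=
    (hp.dvd_iff_one_le_factorization hdμ0.ne').mp hpdμ
  simp only [Finsupp.coe_add, Pi.add_apply]
  omega

end Cfsg.Agent.Lib.Helper16
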