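import Cfsg.Agent.Lib.Helper16.Degree
import Cfsg.Agent.Lib.Helper79.CliffordCorr
import Cfsg.Agent.Lib.Helper79.Abelian
import Cfsg.Agent.Lib.Helper3.Ortho

/-!
# Degrees of characters over a character of a normal subgroup with larger degree
-/

set_option autoImplicit false

open Cfsg
open scoped ComplexConjugate

namespace Cfsg.Agent.Lib.Helper16

open Cfsg.Agent.Lib.Helper79 Cfsg.Agent.Lib.Helper75

universe u

/-- `∑_χ χ(1) [χ_L, θ] = |G : L| conj θ(1)`. -/
theorem sum_degree_mul_classInner {G : Type u} [Group G] [Fintype G] [Fintype (IrrCharacter G)]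
    (L : Subgroup G) [Fintype L] (θ : L → ℂ) :
    ∑ χ : IrrCharacter G, (χ : G → ℂ) 1 * classInner (fun n : L => (χ : G → ℂ) n) θ =
      (L.index : ℂ) * conj (θ 1) := by
  classical
  unfold classInner
  have h1 : ∀ χ : IrrCharacter G, (χ : G → ℂ) 1 *
      ((Nat.card L : ℂ)⁻¹ * ∑ n : L, (χ : G → ℂ) n * conj (θ n)) =
      (Nat.card L : ℂ)⁻¹ * ∑ n : L, conj (θ n) * ((χ : G → ℂ) (n : G) * (χ : G → ℂ) 1) := by
    intro χ
    rw [Finset.mul_sum, Finset.mul_sum, Finset.mul_sum]
    refine Finset.sum_congr rfl fun n _ => ?_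
    ring
  simp_rw [h1]
  rw [← Finset.mul_sum, Finset.sum_comm]
  simp_rw [← Finset.mul_sum]
  have h2 : ∀ n : L, ∑ χ : IrrCharacter G, (χ : G → ℂ) (n : G) * (χ : G → ℂ) 1 =
      if n = 1 then (Nat.card G : ℂ) else 0 := by
    intro n
    have h3 := Cfsg.Agent.Lib.Helper3.column_orthogonality (n : G) (1 : G)
    have h4 : ∀ χ : IrrCharacter G, conj ((χ : G → ℂ) 1) = (χ : G → ℂ) 1 := by
      intro χ
      obtain ⟨d, -, hd, -, -⟩ := irr_degree_spec χ
      rw [hd, Complex.conj_natCast]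
    simp_rw [h4] at h3
    rw [h3]
    by_cases hn : n = 1
    · subst hn
      rw [if_pos rfl, if_pos (by simp)]
      have : Subgroup.centralizer ({((1 : L) : G)} : Set G) = ⊤ := by
        rw [eq_top_iff]
        intro g _
        rw [Subgroup.mem_centralizer_iff]
        intro h hh
        rw [Set.mem_singleton_iff.mp hh]
        simp
      rw [this, Nat.card_congr Subgroup.topEquiv.toEquiv]
    · rw [if_neg hn, if_neg]
      rw [isConj_one_left]
      intro h
      exact hn (Subtype.ext h)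
  simp_rw [h2]
  rw [Finset.sum_eq_single (1 : L)]
  · rw [if_pos rfl]
    have h5 := Subgroup.index_mul_card L
    have h6 : (Nat.card L : ℂ) ≠ 0 := Nat.cast_ne_zero.mpr Nat.card_pos.ne'
    have h7 : (Nat.card G : ℂ) = (L.index : ℂ) * (Nat.card L : ℂ) := by exact_mod_cast h5.symm
    rw [h7]
    field_simp
  · intro n _ hn
    rw [if_neg hn, mul_zero]
  · intro h
    exact absurd (Finset.mem_univ _) h

/-- The going-up step in Reynolds' theorem. -/
theorem val_degree_gt_of_over {G : Type u} [Group G] [Fintype G] (p : ℕ) [Fact p.Prime]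
    (L : Subgroup G) [hL : L.Normal] [Fintype L] (θ ξ : IrrCharacter L) (a : ℕ)
    (hI : inertia L (ξ : L → ℂ) ≤ inertia L (θ : L → ℂ))
    (hθ : ∀ χ : IrrCharacter G, classInner (fun n : L => (χ : G → ℂ) n) (θ : L → ℂ) ≠ 0 →
      (charDegree (χ : G → ℂ)).factorization p = a)
    (ha : a = L.index.factorization p + (charDegree (θ : L → ℂ)).factorization p)
    (hlt : (charDegree (θ : L → ℂ)).factorization p < (charDegree (ξ : L → ℂ)).factorization p)
    (χ' : IrrCharacter G)
    (hχ' : classInner (fun n : L => (χ' : G → ℂ) n) (ξ : L → ℂ) ≠ 0) :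
    a < (charDegree (χ' : G → ℂ)).factorization p := by
  classical
  have := Fintype.ofFinite (IrrCharacter G)
  have hp : p.Prime := Fact.out
  obtain ⟨dθ, hdθ0, hdθ1, hdθc, -⟩ := irr_degree_spec θ
  obtain ⟨dξ, hdξ0, hdξ1, hdξc, -⟩ := irr_degree_spec ξ
  have hres : ∀ χ : IrrCharacter G, IsCharacter L (fun n : L => (χ : G → ℂ) n) := fun χ =>
    isCharacter_comp (Cfsg.Agent.Lib.Helper3.IsIrrCharacter.isCharacter χ.2) L.subtype
  have hmult : ∀ χ : IrrCharacter G, ∃ e : ℕ,
      classInner (fun n : L => (χ : G → ℂ) n) (θ : L → ℂ) = e := fun χ =>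
    classInner_character_eq_natCast (hres χ)
      (Cfsg.Agent.Lib.Helper3.IsIrrCharacter.isCharacter θ.2)
  choose e he using hmult
  have hdeg : ∀ χ : IrrCharacter G, ∃ d : ℕ, 0 < d ∧ (χ : G → ℂ) 1 = d ∧
      charDegree (χ : G → ℂ) = d := fun χ => by
    obtain ⟨d, h1, h2, h3, -⟩ := irr_degree_spec χ
    exact ⟨d, h1, h2, h3⟩
  choose d hd0 hd1 hdc using hdeg
  have hidx : L.index ≠ 0 := Subgroup.index_ne_zero_of_finite
  have hsum : ∑ χ : IrrCharacter G, d χ * e χ = L.index * dθ := by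
    have h := sum_degree_mul_classInner L (θ : L → ℂ)
    rw [hdθ1, Complex.conj_natCast] at h
    have h' : ∑ χ : IrrCharacter G, ((d χ : ℂ) * (e χ : ℂ)) = (L.index : ℂ) * (dθ : ℂ) := by
      rw [← h]
      refine Finset.sum_congr rfl fun χ _ => ?_
      rw [he, hd1]
    exact_mod_cast h'
  -- some `χ` over `θ` with multiplicity prime to `p`
  have hex : ∃ χ : IrrCharacter G, e χ ≠ 0 ∧ ¬ p ∣ e χ := by
    by_contra hcon
    push Not at hcon
    have hdvd : p ^ (a + 1) ∣ ∑ χ : IrrCharacter G, d χ * e χ := by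
      apply Finset.dvd_sum
      intro χ _
      by_cases h0 : e χ = 0
      · rw [h0, mul_zero]; exact dvd_zero _
      · have h1 : classInner (fun n : L => (χ : G → ℂ) n) (θ : L → ℂ) ≠ 0 := by
          rw [he]; exact_mod_cast h0
        have h2 := hθ χ h1
        rw [hdc] at h2
        have h3 : p ^ a ∣ d χ := by rw [← h2]; exact Nat.ordProj_dvd _ _
        rw [pow_succ]
        exact mul_dvd_mul h3 (hcon χ h0)
    rw [hsum] at hdvd
    have h4 : (L.index * dθ).factorization p = a := by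
      rw [Nat.factorization_mul hidx hdθ0.ne', ha, hdθc]; rfl
    have h5 : a + 1 ≤ (L.index * dθ).factorization p :=
      (hp.pow_dvd_iff_le_factorization (mul_ne_zero hidx hdθ0.ne')).mp hdvd
    omega
  obtain ⟨χ, hχ0, hχp⟩ := hex
  have hχne : classInner (fun n : L => (χ : G → ℂ) n) (θ : L → ℂ) ≠ 0 := by
    rw [he]; exact_mod_cast hχ0
  have hcd := clifford_degree L χ.2 θ.2 hχne
  rw [he, hd1, hdθ1] at hcd
  have hcd' : d χ = e χ * (inertia L (θ : L → ℂ)).index * dθ := by exact_mod_cast hcd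
  have hIθ0 : (inertia L (θ : L → ℂ)).index ≠ 0 := Subgroup.index_ne_zero_of_finite
  have hIξ0 : (inertia L (ξ : L → ℂ)).index ≠ 0 := Subgroup.index_ne_zero_of_finite
  have hIθ : (inertia L (θ : L → ℂ)).index.factorization p = L.index.factorization p := by
    have h1 := hθ χ hχne
    rw [hdc, hcd', Nat.factorization_mul (mul_ne_zero hχ0 hIθ0) hdθ0.ne',
      Nat.factorization_mul hχ0 hIθ0] at h1
    simp only [Finsupp.coe_add, Pi.add_apply] at h1
    have h2 : (e χ).factorization p = 0 := Nat.factorization_eq_zero_of_not_dvd hχp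
    rw [hdθc] at ha
    omega
  -- the character over `ξ`
  obtain ⟨e', he'⟩ := classInner_character_eq_natCast (hres χ')
    (Cfsg.Agent.Lib.Helper3.IsIrrCharacter.isCharacter ξ.2)
  have he'0 : e' ≠ 0 := by
    intro h
    apply hχ'
    rw [he', h]; simp
  have hcd2 := clifford_degree L χ'.2 ξ.2 hχ'
  rw [he', hd1, hdξ1] at hcd2
  have hcd2' : d χ' = e' * (inertia L (ξ : L → ℂ)).index * dξ := by exact_mod_cast hcd2
  have hdvdI : (inertia L (θ : L → ℂ)).index ∣ (inertia L (ξ : L → ℂ)).index :=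
    Subgroup.index_dvd_of_le hI
  have hle : (inertia L (θ : L → ℂ)).index.factorization p ≤
      (inertia L (ξ : L → ℂ)).index.factorization p :=
    (Nat.factorization_le_iff_dvd hIθ0 hIξ0).mpr hdvdI p
  rw [hdc, hcd2', Nat.factorization_mul (mul_ne_zero he'0 hIξ0) hdξ0.ne',
    Nat.factorization_mul he'0 hIξ0]
  simp only [Finsupp.coe_add, Pi.add_apply]
  rw [hdθc] at ha hlt
  rw [hdξc] at hlt
  omega

end Cfsg.Agent.Lib.Helper16
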