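import Mathlib.RepresentationTheory.Character
import Mathlib.RepresentationTheory.Irreducible
import Mathlib.Analysis.Complex.Polynomial.Basic
import Cfsg.Prelude.Def_Characters

set_option autoImplicit false

namespace Cfsg.Agent.Lib.Helper16

open Representation

/-- Schur's lemma for an irreducible complex matrix representation: an operator commuting
with the representation is a scalar. -/
theorem schur_scalar {G : Type*} [Group G] {n : ℕ} (ρ : Representation ℂ G (Fin n → ℂ))
    (hirr : ρ.IsIrreducible) (T : (Fin n → ℂ) →ₗ[ℂ] (Fin n → ℂ))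
    (hT : ∀ g, T ∘ₗ ρ g = ρ g ∘ₗ T) : ∃ a : ℂ, T = a • LinearMap.id := by
  have := hirr
  let f : IntertwiningMap ρ ρ := ⟨T, hT⟩
  obtain ⟨a, ha⟩ :=
    (IsIrreducible.algebraMap_intertwiningMap_bijective_of_isAlgClosed (ρ := ρ)).2 f
  refine ⟨a, ?_⟩
  have := congrArg IntertwiningMap.toLinearMap ha
  rw [IntertwiningMap.algebraMap_apply] at this
  rw [show f.toLinearMap = T from rfl] at this
  rw [← this]
  rfl

/-- The (group-indexed) class sum operator `∑ t, ρ (t u t⁻¹)`. -/
noncomputable def classOp {G : Type*} [Group G] [Fintype G] {n : ℕ}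
    (ρ : Representation ℂ G (Fin n → ℂ)) (u : G) : (Fin n → ℂ) →ₗ[ℂ] (Fin n → ℂ) :=
  ∑ t : G, ρ (t * u * t⁻¹)

theorem classOp_comm {G : Type*} [Group G] [Fintype G] {n : ℕ}
    (ρ : Representation ℂ G (Fin n → ℂ)) (u s : G) :
    classOp ρ u ∘ₗ ρ s = ρ s ∘ₗ classOp ρ u := by
  unfold classOp
  rw [← Module.End.mul_eq_comp, ← Module.End.mul_eq_comp, Finset.sum_mul, Finset.mul_sum]
  rw [← Fintype.sum_equiv (Equiv.mulLeft s) (fun t => ρ s * ρ (t * u * t⁻¹))
    (fun t => ρ (t * u * t⁻¹) * ρ s)]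
  intro t
  show ρ s * ρ (t * u * t⁻¹) = ρ ((s * t) * u * (s * t)⁻¹) * ρ s
  rw [← map_mul, ← map_mul]
  congr 1
  group

theorem classOp_scalar {G : Type*} [Group G] [Fintype G] {n : ℕ}
    (ρ : Representation ℂ G (Fin n → ℂ)) (hirr : ρ.IsIrreducible) (u : G) :
    ∃ a : ℂ, classOp ρ u = a • LinearMap.id ∧
      (n : ℂ) * a = (Nat.card G : ℂ) * ρ.character u := by
  obtain ⟨a, ha⟩ := schur_scalar ρ hirr (classOp ρ u) (classOp_comm ρ u)
  refine ⟨a, ha, ?_⟩
  have h1 : LinearMap.trace ℂ (Fin n → ℂ) (classOp ρ u) = (Nat.card G : ℂ) * ρ.character u := by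
    unfold classOp
    rw [map_sum]
    have : ∀ t : G, LinearMap.trace ℂ (Fin n → ℂ) (ρ (t * u * t⁻¹)) = ρ.character u := by
      intro t
      exact char_conj ρ u t
    simp_rw [this]
    rw [Finset.sum_const, Finset.card_univ, nsmul_eq_mul, Nat.card_eq_fintype_card]
  rw [← h1, ha, map_smul, LinearMap.trace_id, Module.finrank_fin_fun, smul_eq_mul, mul_comm]

/-- An irreducible matrix representation has positive dimension. -/
theorem dim_ne_zero {G : Type*} [Group G] {n : ℕ}
    (ρ : Representation ℂ G (Fin n → ℂ)) (hirr : ρ.IsIrreducible) : n ≠ 0 := by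
  rintro rfl
  have := hirr
  have : Nontrivial (Subrepresentation ρ) := IsSimpleOrder.toNontrivial
  obtain ⟨A, B, hAB⟩ := this
  apply hAB
  apply Subrepresentation.toSubmodule_injective
  apply Subsingleton.elim

end Cfsg.Agent.Lib.Helper16
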