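import Cfsg.Agent.Lib.Helper74.BR2

/-!
# `|G| (k(𝔅) - l(𝔅))` for a union of blocks `𝔅` as a sum over the `p`-singular elements
-/

set_option autoImplicit false

namespace Cfsg.Agent.Lib.Helper16

open Cfsg Cfsg.Agent.Lib.Helper81 Cfsg.Agent.Lib.Helper74
open scoped ComplexConjugate

universe u

section UnionRank

variable {G : Type u} [Group G] [Fintype G]

open Classical in
/-- Expansion of the `p`-regular part of a member of a union of blocks in the members of the
union. -/
theorem pRegularPart_expansion_union [Fintype (IrrCharacter G)] (p : ℕ) [Fact p.Prime]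
    (M : Ideal AlgInt) (hM : IsPModular p M) (B : Set (IrrCharacter G))
    (hcl : ∀ ψ ∈ B, ∀ φ : IrrCharacter G, SameBlock M (ψ : G → ℂ) (φ : G → ℂ) → φ ∈ B)
    (ψ : IrrCharacter G) (hψ : ψ ∈ B) (x : G) :
    pRegularPart p (ψ : G → ℂ) x =
      ∑ φ ∈ Finset.univ.filter (fun φ : IrrCharacter G => φ ∈ B),
        classInner (pRegularPart p (ψ : G → ℂ)) (φ : G → ℂ) * (φ : G → ℂ) x := by
  have hcls : IsClassFunction G (pRegularPart p (ψ : G → ℂ)) :=
    pRegularPart_isClassFunction p (fun g h => Cfsg.Agent.Lib.Helper80.irr_class ψ g h)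
  rw [Cfsg.Agent.Lib.Helper80.classFun_expansion _ hcls x, Finset.sum_filter]
  apply Finset.sum_congr rfl
  intro φ _
  by_cases hφ : φ ∈ B
  · rw [if_pos hφ]
    rfl
  · rw [if_neg hφ]
    have hns : ¬ SameBlock M (ψ : G → ℂ) (φ : G → ℂ) := fun h => hφ (hcl ψ hψ φ h)
    have h0 := Cfsg.Agent.S0952.orth_regular p M hM ψ φ hns
    have h1 : ∑ g : G, pRegularPart p (ψ : G → ℂ) g * conj ((φ : G → ℂ) g) = 0 := by
      rw [← h0, Finset.sum_filter]
      apply Finset.sum_congr rfl
      intro g _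
      rw [pRegularPart_apply]
      split_ifs <;> simp
    rw [h1, mul_zero, zero_mul]

open Classical in
/-- `|G| · l(𝔅)` as a sum over the group, for a union of blocks `𝔅`. -/
theorem card_mul_blockRank_union [Fintype (IrrCharacter G)] (p : ℕ) [Fact p.Prime]
    (M : Ideal AlgInt) (hM : IsPModular p M) (B : Set (IrrCharacter G))
    (hcl : ∀ ψ ∈ B, ∀ φ : IrrCharacter G, SameBlock M (ψ : G → ℂ) (φ : G → ℂ) → φ ∈ B) :
    (Nat.card G : ℂ) * (blockRank p B : ℂ) =
      ∑ x : G, ∑ χ ∈ Finset.univ.filter (fun χ : IrrCharacter G => χ ∈ B),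
        pRegularPart p (χ : G → ℂ) x * (χ : G → ℂ) x⁻¹ := by
  let v : {ψ : IrrCharacter G // ψ ∈ B} → (G → ℂ) := fun i => (i.1 : G → ℂ)
  have hv : LinearIndependent ℂ v :=
    (Cfsg.Agent.Lib.Helper80.irr_linearIndependent (G := G)).comp
      (fun i : {ψ : IrrCharacter G // ψ ∈ B} => i.1) Subtype.val_injective
  let A : Matrix {ψ : IrrCharacter G // ψ ∈ B} {ψ : IrrCharacter G // ψ ∈ B} ℂ :=
    Matrix.of (fun i j => classInner (pRegularPart p (i.1 : G → ℂ)) (j.1 : G → ℂ))
  have htrace : A.trace = ∑ i : {ψ : IrrCharacter G // ψ ∈ B},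
      classInner (pRegularPart p (i.1 : G → ℂ)) (i.1 : G → ℂ) := rfl
  have hA : ∀ i, pRegLin p (v i) = ∑ j, A i j • v j := by
    intro i
    funext x
    rw [pRegLin_apply, Finset.sum_apply]
    rw [pRegularPart_expansion_union p M hM B hcl i.1 i.2 x]
    rw [Finset.sum_subtype (p := fun ψ : IrrCharacter G => ψ ∈ B)
      (Finset.univ.filter (fun φ : IrrCharacter G => φ ∈ B)) (by intro x; simp)]
    rfl
  have hmain := finrank_span_proj_eq_trace v hv (pRegLin p)
    (fun f => by rw [pRegLin_apply, pRegLin_apply, pRegularPart_idem]) A hA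
  have hrange : Set.range (fun i => pRegLin p (v i)) =
      (fun χ : IrrCharacter G => pRegularPart p (χ : G → ℂ)) '' B := by
    ext f
    constructor
    · rintro ⟨i, rfl⟩
      exact ⟨i.1, i.2, rfl⟩
    · rintro ⟨χ, hχ, rfl⟩
      exact ⟨⟨χ, hχ⟩, rfl⟩
  rw [hrange] at hmain
  have hbr : blockRank p B = Module.finrank ℂ ↥(Submodule.span ℂ
      ((fun χ : IrrCharacter G => pRegularPart p (χ : G → ℂ)) '' B)) := rfl
  rw [hbr, hmain, htrace]
  have hG : (Nat.card G : ℂ) ≠ 0 := Nat.cast_ne_zero.mpr Nat.card_pos.ne'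
  rw [Finset.sum_comm, Finset.mul_sum]
  rw [Finset.sum_subtype (p := fun ψ : IrrCharacter G => ψ ∈ B)
    (Finset.univ.filter (fun φ : IrrCharacter G => φ ∈ B)) (by intro x; simp)]
  apply Finset.sum_congr rfl
  intro i _
  unfold classInner
  rw [← mul_assoc, mul_inv_cancel₀ hG, one_mul]
  apply Finset.sum_congr rfl
  intro x _
  rw [Cfsg.Agent.Lib.Helper80.irr_conj_inv]

open Classical in
/-- `|G| (k(𝔅) - l(𝔅))` is the sum over the `p`-singular elements of the squared norms of the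
members of the union of blocks `𝔅`. -/
theorem card_mul_card_sub_blockRank_union [Fintype (IrrCharacter G)] (p : ℕ) [Fact p.Prime]
    (M : Ideal AlgInt) (hM : IsPModular p M) (B : Set (IrrCharacter G))
    (hcl : ∀ ψ ∈ B, ∀ φ : IrrCharacter G, SameBlock M (ψ : G → ℂ) (φ : G → ℂ) → φ ∈ B) :
    (Nat.card G : ℂ) * ((Nat.card B : ℂ) - (blockRank p B : ℂ)) =
      ∑ x : G, if p ∣ orderOf x then
        ∑ χ ∈ Finset.univ.filter (fun χ : IrrCharacter G => χ ∈ B),
          (χ : G → ℂ) x * conj ((χ : G → ℂ) x) else 0 := by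
  rw [mul_sub, card_mul_blockRank_union p M hM B hcl]
  have hk : (Nat.card G : ℂ) * (Nat.card B : ℂ) =
      ∑ x : G, ∑ χ ∈ Finset.univ.filter (fun χ : IrrCharacter G => χ ∈ B),
        (χ : G → ℂ) x * conj ((χ : G → ℂ) x) := by
    rw [Finset.sum_comm]
    have h1 : ∀ χ ∈ Finset.univ.filter (fun χ : IrrCharacter G => χ ∈ B),
        ∑ x : G, (χ : G → ℂ) x * conj ((χ : G → ℂ) x) = (Nat.card G : ℂ) := by
      intro χ _
      rw [Cfsg.Agent.Lib.Helper80.irr_row_orthogonality, if_pos rfl]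
    rw [Finset.sum_congr rfl h1, Finset.sum_const, nsmul_eq_mul, mul_comm]
    congr 2
    rw [Nat.card_eq_fintype_card, Fintype.card_subtype]
  rw [hk, ← Finset.sum_sub_distrib]
  apply Finset.sum_congr rfl
  intro x _
  rw [← Finset.sum_sub_distrib]
  split_ifs with hx
  · apply Finset.sum_congr rfl
    intro χ _
    rw [pRegularPart_apply, if_neg (fun h => h hx), zero_mul, sub_zero]
  · apply Finset.sum_eq_zero
    intro χ _
    rw [pRegularPart_apply, if_pos hx, Cfsg.Agent.Lib.Helper80.irr_conj_inv, sub_self]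

end UnionRank

end Cfsg.Agent.Lib.Helper16
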