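import Cfsg.Agent.Lib.Helper75.SectionCount
import Cfsg.Agent.Lib.Helper77.Transitive
import Cfsg.Agent.Lib.Helper77.TransportDefect
import Cfsg.Agent.Lib.Helper77.Deficiency
import Cfsg.Agent.Lib.Helper16.UnionRank

/-!
# Section sums for the union of the blocks of a subgroup inducing a given block
-/

set_option autoImplicit false

namespace Cfsg.Agent.Lib.Helper16

open Cfsg Cfsg.Agent.Lib.Helper77 Cfsg.Agent.Lib.Helper75 Cfsg.Agent.Lib.Helper81
open scoped ComplexConjugate

universe u

section SectionLocal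

/-- Reindexing a sum over irreducible characters along a group isomorphism. -/
theorem sum_filter_irrMap {H₁ H₂ : Type u} [Group H₁] [Group H₂] [Fintype (IrrCharacter H₁)]
    [Fintype (IrrCharacter H₂)] (e : H₁ ≃* H₂) (P : IrrCharacter H₁ → Prop) [DecidablePred P]
    [DecidablePred (fun θ : IrrCharacter H₂ => P (irrMap e θ))] (f : IrrCharacter H₁ → ℂ) :
    ∑ ψ ∈ Finset.univ.filter P, f ψ =
      ∑ θ ∈ Finset.univ.filter (fun θ : IrrCharacter H₂ => P (irrMap e θ)), f (irrMap e θ) := by
  symm
  apply Finset.sum_bij (fun θ _ => irrMap e θ)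
  · intro θ hθ
    rw [Finset.mem_filter] at hθ ⊢
    exact ⟨Finset.mem_univ _, hθ.2⟩
  · intro a _ b _ h
    exact irrMap_injective e h
  · intro ψ hψ
    rw [Finset.mem_filter] at hψ
    refine ⟨irrMap e.symm ψ, ?_, irrMap_irrMap_symm e ψ⟩
    rw [Finset.mem_filter]
    refine ⟨Finset.mem_univ _, ?_⟩
    rw [irrMap_irrMap_symm]
    exact hψ.2
  · intro _ _
    rfl

variable {G : Type u} [Group G]

open Classical in
/-- `sum_block_section` for a subgroup equal to the centralizer. -/
theorem sum_block_section_of_eq [Fintype G] [Fintype (IrrCharacter G)] {p : ℕ} [Fact p.Prime]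
    {M : Ideal AlgInt} (hM : IsPModular p M) {x : G} (hx : ∃ k : ℕ, orderOf x = p ^ k)
    (C : Subgroup G) (hC : C = Subgroup.centralizer ({x} : Set G))
    [Fintype C] [Fintype (IrrCharacter C)]
    {B : Set (IrrCharacter G)} (hB : IsPBlock M B) (y : C) (hy : ¬ p ∣ orderOf y) :
    ∑ χ ∈ Finset.univ.filter (fun χ : IrrCharacter G => χ ∈ B),
      (χ : G → ℂ) (x * (y : G)) * conj ((χ : G → ℂ) (x * (y : G))) =
    ∑ ψ ∈ Finset.univ.filter (fun ψ : IrrCharacter C =>
        IsInducedBlock M C (blockOf M (ψ : C → ℂ)) B),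
      (ψ : C → ℂ) y * conj ((ψ : C → ℂ) y) := by
  subst hC
  exact sum_block_section hM hx hB y hy

/-- `exists_isInducedBlock_centralizer` for a subgroup equal to the centralizer. -/
theorem exists_isInducedBlock_of_eq [Finite G] {p : ℕ} [Fact p.Prime] {M : Ideal AlgInt}
    (hpM : IsPModular p M) {y : G} (hy : ∃ k : ℕ, orderOf y = p ^ k)
    (C : Subgroup G) (hC : C = Subgroup.centralizer ({y} : Set G)) (ξ₀ : IrrCharacter C) :
    ∃ χ₀ : IrrCharacter G, IsInducedBlock M C (blockOf M (ξ₀ : C → ℂ))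
      (blockOf M (χ₀ : G → ℂ)) := by
  subst hC
  exact exists_isInducedBlock_centralizer hpM hy ξ₀

theorem subgroupOf_inf_centralizer_eq (H : Subgroup G) (x : H) :
    (H ⊓ Subgroup.centralizer ({(x : G)} : Set G)).subgroupOf H =
      Subgroup.centralizer ({x} : Set H) := by
  ext z
  rw [Subgroup.mem_subgroupOf, Subgroup.mem_inf, Subgroup.mem_centralizer_singleton_iff,
    Subgroup.mem_centralizer_singleton_iff]
  constructor
  · rintro ⟨_, h⟩
    apply Subtype.ext
    simpa using h
  · intro h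
    refine ⟨z.2, ?_⟩
    have := congrArg (Subtype.val) h
    simpa using this

end SectionLocal

end Cfsg.Agent.Lib.Helper16
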