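import Cfsg.Agent.Lib.Helper16.SectionLocal

/-!
# Section sums for the union of the blocks of a subgroup inducing a given block, II
-/

set_option autoImplicit false

namespace Cfsg.Agent.Lib.Helper16

open Cfsg Cfsg.Agent.Lib.Helper77 Cfsg.Agent.Lib.Helper75 Cfsg.Agent.Lib.Helper81
open scoped ComplexConjugate

universe u

section SectionLocal2

variable {G : Type u} [Group G] [Finite G]

/-- The characters of `H` lying in blocks inducing `b`. -/
def indUnion (M : Ideal AlgInt) (H : Subgroup G) (b : Set (IrrCharacter G)) :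
    Set (IrrCharacter H) :=
  {ψ : IrrCharacter H | ∃ β : Set (IrrCharacter H), ψ ∈ β ∧ IsInducedBlock M H β b}

theorem mem_indUnion_iff {M : Ideal AlgInt} (hM : M.IsPrime) {H : Subgroup G}
    {b : Set (IrrCharacter G)} (ψ : IrrCharacter H) :
    ψ ∈ indUnion M H b ↔ IsInducedBlock M H (blockOf M (ψ : H → ℂ)) b := by
  have := Fintype.ofFinite H
  constructor
  · rintro ⟨β, hψ, hβ⟩
    obtain ⟨ψ₀, rfl⟩ := hβ.1
    rw [blockOf_eq_of_mem hM hψ]
    exact hβ
  · intro h
    exact ⟨_, self_mem_blockOf hM ψ, h⟩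

theorem indUnion_closed {M : Ideal AlgInt} (hM : M.IsPrime) {H : Subgroup G}
    {b : Set (IrrCharacter G)} :
    ∀ ψ ∈ indUnion M H b, ∀ φ : IrrCharacter H,
      SameBlock M (ψ : H → ℂ) (φ : H → ℂ) → φ ∈ indUnion M H b := by
  rintro ψ ⟨β, hψ, hβ⟩ φ hφ
  refine ⟨β, ?_, hβ⟩
  obtain ⟨ψ₀, rfl⟩ := hβ.1
  exact sameBlock_trans hM hψ hφ

open Classical in
/-- The section sum for a single block of a subgroup `H`. -/
theorem sum_block_section_subgroup [Fintype G] {p : ℕ} [Fact p.Prime]
    {M : Ideal AlgInt} (hM : IsPModular p M) (H : Subgroup G)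
    [Fintype H] [Fintype (IrrCharacter H)]
    (x y : H) (hx : ∃ k : ℕ, orderOf x = p ^ k)
    (K : Subgroup G) (hK : K = H ⊓ Subgroup.centralizer ({(x : G)} : Set G)) (hKH : K ≤ H)
    (hyK : (y : G) ∈ K) (hy : ¬ p ∣ orderOf y)
    [Fintype (IrrCharacter K)]
    {β : Set (IrrCharacter H)} (hβ : IsPBlock M β) :
    ∑ ψ ∈ Finset.univ.filter (fun ψ : IrrCharacter H => ψ ∈ β),
      (ψ : H → ℂ) (x * y) * conj ((ψ : H → ℂ) (x * y)) =
    ∑ η ∈ Finset.univ.filter
        (fun η : IrrCharacter K =>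
          IsInducedBlock M (K.subgroupOf H)
            (irrMap (Subgroup.subgroupOfEquivOfLe hKH) '' blockOf M (η : K → ℂ)) β),
      (η : K → ℂ) ⟨(y : G), hyK⟩ * conj ((η : K → ℂ) ⟨(y : G), hyK⟩) := by
  have hC : K.subgroupOf H = Subgroup.centralizer ({x} : Set H) := by
    rw [hK]; exact subgroupOf_inf_centralizer_eq H x
  have := Fintype.ofFinite (K.subgroupOf H)
  have := Fintype.ofFinite (IrrCharacter (K.subgroupOf H))
  have hy' : y ∈ K.subgroupOf H := hyK
  have hyo : ¬ p ∣ orderOf (⟨y, hy'⟩ : K.subgroupOf H) := by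
    rw [← Subgroup.orderOf_coe]
    exact hy
  have h1 := sum_block_section_of_eq hM hx (K.subgroupOf H) hC hβ ⟨y, hy'⟩ hyo
  rw [h1]
  rw [sum_filter_irrMap (Subgroup.subgroupOfEquivOfLe hKH)]
  apply Finset.sum_congr
  · ext η
    simp only [Finset.mem_filter, Finset.mem_univ, true_and]
    rw [irrMap_image_blockOf]
  · intro η _
    rfl

open Classical in
/-- The section sum for the union of the blocks of `H` inducing `b`: it only depends on the
subgroup `H ∩ C_G(x)` of `G`. -/
theorem sum_indUnion_section [Fintype G] {p : ℕ} [Fact p.Prime]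
    {M : Ideal AlgInt} (hM : IsPModular p M) (H : Subgroup G)
    [Fintype H] [Fintype (IrrCharacter H)]
    (x y : H) (hx : ∃ k : ℕ, orderOf x = p ^ k)
    (K : Subgroup G) (hK : K = H ⊓ Subgroup.centralizer ({(x : G)} : Set G))
    (hyK : (y : G) ∈ K) (hy : ¬ p ∣ orderOf y)
    [Fintype (IrrCharacter K)]
    {b : Set (IrrCharacter G)} :
    ∑ ψ ∈ Finset.univ.filter (fun ψ : IrrCharacter H => ψ ∈ indUnion M H b),
      (ψ : H → ℂ) (x * y) * conj ((ψ : H → ℂ) (x * y)) =
    ∑ η ∈ Finset.univ.filter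
        (fun η : IrrCharacter K => IsInducedBlock M K (blockOf M (η : K → ℂ)) b),
      (η : K → ℂ) ⟨(y : G), hyK⟩ * conj ((η : K → ℂ) ⟨(y : G), hyK⟩) := by
  have hMp : M.IsPrime := hM.2.1.isPrime
  have hKH : K ≤ H := by rw [hK]; exact inf_le_left
  have hC : K.subgroupOf H = Subgroup.centralizer ({x} : Set H) := by
    rw [hK]; exact subgroupOf_inf_centralizer_eq H x
  set g : IrrCharacter K → ℂ := fun η =>
    (η : K → ℂ) ⟨(y : G), hyK⟩ * conj ((η : K → ℂ) ⟨(y : G), hyK⟩) with hg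
  set P1 : IrrCharacter K → Set (IrrCharacter H) → Prop := fun η β =>
    IsInducedBlock M (K.subgroupOf H)
      (irrMap (Subgroup.subgroupOfEquivOfLe hKH) '' blockOf M (η : K → ℂ)) β with hP1
  set P2 : Set (IrrCharacter H) → Prop := fun β => IsInducedBlock M H β b with hP2
  -- Step 1
  have e1 : Finset.univ.filter (fun ψ : IrrCharacter H => ψ ∈ indUnion M H b) =
      Finset.univ.filter (fun ψ : IrrCharacter H => P2 (blockOf M (ψ : H → ℂ))) := by
    apply Finset.filter_congr
    intro ψ _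
    exact mem_indUnion_iff hMp ψ
  rw [e1, sum_filter_blockOf hMp P2]
  -- Step 2
  have e2 : ∀ β ∈ (blocksFinset M H).filter P2,
      ∑ ψ ∈ Finset.univ.filter (fun ψ : IrrCharacter H => ψ ∈ β),
        (ψ : H → ℂ) (x * y) * conj ((ψ : H → ℂ) (x * y)) =
      ∑ η ∈ Finset.univ.filter (fun η : IrrCharacter K => P1 η β), g η := by
    intro β hβ
    have hβ' : IsPBlock M β := mem_blocksFinset.mp (Finset.mem_filter.mp hβ).1
    exact sum_block_section_subgroup hM H x y hx K hK hKH hyK hy hβ'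
  rw [Finset.sum_congr rfl e2]
  -- Step 3
  rw [Finset.sum_comm' (t' := (Finset.univ : Finset (IrrCharacter K)))
    (s' := fun η => ((blocksFinset M H).filter P2).filter (fun β => P1 η β))
    (by
      intro β η
      simp only [Finset.mem_filter, Finset.mem_univ, true_and, and_true])]
  rw [Finset.sum_filter]
  apply Finset.sum_congr rfl
  intro η _
  -- Step 4
  split_ifs with hQ
  · -- exactly one block
    have := Fintype.ofFinite (K.subgroupOf H)
    obtain ⟨χ₀, hχ₀⟩ := exists_isInducedBlock_of_eq (G := H) hM hx (K.subgroupOf H) hC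
      (irrMap (Subgroup.subgroupOfEquivOfLe hKH) η)
    rw [← irrMap_image_blockOf] at hχ₀
    have hβ₀ : IsInducedBlock M H (blockOf M (χ₀ : H → ℂ)) b :=
      isInducedBlock_of_trans hMp hKH hχ₀ hQ
    have hmem : blockOf M (χ₀ : H → ℂ) ∈
        ((blocksFinset M H).filter P2).filter (fun β => P1 η β) := by
      rw [Finset.mem_filter, Finset.mem_filter]
      exact ⟨⟨mem_blocksFinset.mpr ⟨χ₀, rfl⟩, hβ₀⟩, hχ₀⟩
    rw [Finset.sum_eq_single_of_mem _ hmem]
    intro β hβ hne
    exfalso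
    apply hne
    rw [Finset.mem_filter] at hβ
    exact isInducedBlock_unique hMp hβ.2 hχ₀
  · apply Finset.sum_eq_zero
    intro β hβ
    exfalso
    apply hQ
    rw [Finset.mem_filter, Finset.mem_filter] at hβ
    exact isInducedBlock_trans hMp hKH ⟨η, rfl⟩ hβ.2 hβ.1.2

end SectionLocal2

end Cfsg.Agent.Lib.Helper16
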