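import Mathlib.Algebra.Algebra.Basic
import Mathlib.Algebra.BigOperators.Ring.Finset
import Mathlib.Algebra.BigOperators.GroupWithZero.Action
import Mathlib.Algebra.Module.BigOperators
import Mathlib.Algebra.Ring.Idempotent

/-!
# Spectral idempotents of an element of finite order `r` when `r` is invertible and a primitive
`r`-th root of unity is available
-/

set_option autoImplicit false

namespace Cfsg.Agent.Lib.Helper16

variable {A : Type*} [Ring A] {K : Type*} [CommRing K] [Algebra K A]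

/-- The `k`-th spectral idempotent of `W` (for the eigenvalue `ζ ^ k`, where `θ = ζ⁻¹`). -/
def specIdem (r : ℕ) (θ ρ : K) (W : A) (k : ℕ) : A :=
  ρ • ∑ i ∈ Finset.range r, (θ ^ k • W) ^ i

variable {r : ℕ} {ζ θ ρ : K} {W : A}

theorem mul_geom_sum_eq_of_pow_eq_one {U : A} (hU : U ^ r = 1) :
    U * ∑ i ∈ Finset.range r, U ^ i = ∑ i ∈ Finset.range r, U ^ i := by
  have h1 : ∑ i ∈ Finset.range (r + 1), U ^ i = ∑ i ∈ Finset.range r, U ^ i + 1 := by
    rw [Finset.sum_range_succ, hU]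
  have h2 : ∑ i ∈ Finset.range (r + 1), U ^ i = ∑ i ∈ Finset.range r, U ^ (i + 1) + 1 := by
    rw [Finset.sum_range_succ', pow_zero]
  rw [Finset.mul_sum]
  have h3 : ∑ i ∈ Finset.range r, U * U ^ i = ∑ i ∈ Finset.range r, U ^ (i + 1) :=
    Finset.sum_congr rfl fun i _ => (pow_succ' U i).symm
  rw [h3]
  exact add_right_cancel (h2.symm.trans h1)

theorem pow_mul_geom_sum_eq_of_pow_eq_one {U : A} (hU : U ^ r = 1) (i : ℕ) :
    U ^ i * ∑ j ∈ Finset.range r, U ^ j = ∑ j ∈ Finset.range r, U ^ j := by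
  induction i with
  | zero => simp
  | succ n ih => rw [pow_succ, mul_assoc, mul_geom_sum_eq_of_pow_eq_one hU, ih]

theorem smul_pow_eq_one (hθ : θ ^ r = 1) (hW : W ^ r = 1) (k : ℕ) : (θ ^ k • W) ^ r = 1 := by
  rw [smul_pow, hW, ← pow_mul, mul_comm, pow_mul, hθ, one_pow, one_smul]

theorem specIdem_isIdempotentElem (hρ : (r : K) * ρ = 1) (hθ : θ ^ r = 1) (hW : W ^ r = 1)
    (k : ℕ) : IsIdempotentElem (specIdem r θ ρ W k) := by
  unfold specIdem IsIdempotentElem
  set U := θ ^ k • W with hUdef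
  have hU : U ^ r = 1 := smul_pow_eq_one hθ hW k
  set N := ∑ i ∈ Finset.range r, U ^ i with hN
  have hNN : N * N = (r : K) • N := by
    conv_lhs => rw [hN, Finset.sum_mul]
    rw [Finset.sum_congr rfl fun i _ => pow_mul_geom_sum_eq_of_pow_eq_one hU i,
      Finset.sum_const, Finset.card_range, ← hN, Nat.cast_smul_eq_nsmul]
  rw [smul_mul_smul_comm, hNN, smul_smul, mul_assoc, mul_comm ρ (r : K), hρ, mul_one]

theorem mul_specIdem (hζθ : ζ * θ = 1) (hθ : θ ^ r = 1) (hW : W ^ r = 1) (k : ℕ) :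
    W * specIdem r θ ρ W k = ζ ^ k • specIdem r θ ρ W k := by
  unfold specIdem
  set U := θ ^ k • W with hUdef
  have hU : U ^ r = 1 := smul_pow_eq_one hθ hW k
  have hWU : W = ζ ^ k • U := by
    rw [hUdef, smul_smul, ← mul_pow, hζθ, one_pow, one_smul]
  conv_lhs => rw [hWU]
  rw [smul_mul_smul_comm, mul_geom_sum_eq_of_pow_eq_one hU, ← smul_smul]

theorem sum_specIdem (hr : 0 < r) (hρ : (r : K) * ρ = 1)
    (horth : ∀ i, 0 < i → i < r → ∑ k ∈ Finset.range r, (θ ^ i) ^ k = 0) :
    ∑ k ∈ Finset.range r, specIdem r θ ρ W k = 1 := by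
  unfold specIdem
  rw [← Finset.smul_sum]
  simp_rw [smul_pow]
  rw [Finset.sum_comm]
  have h1 : ∀ i ∈ Finset.range r, ∑ k ∈ Finset.range r, (θ ^ k) ^ i • W ^ i =
      (∑ k ∈ Finset.range r, (θ ^ i) ^ k) • W ^ i := by
    intro i _
    rw [Finset.sum_smul]
    refine Finset.sum_congr rfl fun k _ => ?_
    rw [← pow_mul, ← pow_mul, mul_comm]
  rw [Finset.sum_congr rfl h1, Finset.sum_eq_single 0]
  · simp only [pow_zero, one_pow, Finset.sum_const, Finset.card_range, smul_smul]
    rw [nsmul_eq_mul, mul_one, mul_comm, hρ, one_smul]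
  · intro i hi hi0
    rw [horth i (Nat.pos_of_ne_zero hi0) (Finset.mem_range.mp hi), zero_smul]
  · intro h
    exact absurd (Finset.mem_range.mpr hr) h

theorem commute_specIdem {E : A} (hE : Commute W E) (k : ℕ) :
    Commute (specIdem r θ ρ W k) E := by
  unfold specIdem
  apply Commute.smul_left
  apply Commute.sum_left
  intro i _
  apply Commute.pow_left
  exact Commute.smul_left hE _

end Cfsg.Agent.Lib.Helper16
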