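import Cfsg.Agent.S4741
import Cfsg.Agent.S0962
import Cfsg.Agent.S0908
import Cfsg.Agent.Lib.Helper84.PCore
import Cfsg.Agent.Lib.Helper3.CharBasic

/-!
# Blocks of a group with a normal Sylow `p`-subgroup (helper16)

If `Q` is a normal Sylow `p`-subgroup of `H`, the number of blocks of `H` (all of which have
defect group `Q`) is the number of `p`-regular classes of `H` inside `C_H(Q)`.
-/

set_option autoImplicit false

namespace Cfsg.Agent.Lib.Helper16

open Cfsg Cfsg.Agent.Lib.Helper77 Cfsg.Agent.Lib.Helper81

universe u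

variable {H : Type u} [Group H] [Finite H] {p : ℕ} [Fact p.Prime]

theorem le_normal_sylow (Q : Sylow p H) (hQ : (Q : Subgroup H).Normal) {R : Subgroup H}
    (hR : IsPGroup p R) : R ≤ Q := by
  obtain ⟨Q', hQ'⟩ := hR.exists_le_sylow
  have h1 : (Q : Subgroup H) ≤ Q' := Cfsg.Agent.Lib.Helper84.normal_pGroup_le_sylow hQ Q.2 Q'
  have h2 : (Q : Subgroup H) = Q' := by
    apply Subgroup.eq_of_le_of_card_ge h1
    rw [Sylow.card_eq_multiplicity, Sylow.card_eq_multiplicity]
  rw [h2]
  exact hQ'

/-- An element whose centralizer has full `p`-part centralizes the normal Sylow subgroup. -/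
theorem mem_centralizer_of_full (Q : Sylow p H) (hQ : (Q : Subgroup H).Normal) (g : H)
    (hg : (Nat.card H).factorization p ≤
      (Nat.card (Subgroup.centralizer ({g} : Set H))).factorization p) :
    g ∈ Subgroup.centralizer ((Q : Subgroup H) : Set H) := by
  have hp : p.Prime := Fact.out
  obtain ⟨S⟩ : Nonempty (Sylow p (Subgroup.centralizer ({g} : Set H))) := inferInstance
  have h1 : (S : Subgroup (Subgroup.centralizer ({g} : Set H))).map
      (Subgroup.centralizer ({g} : Set H)).subtype ≤ Q := le_normal_sylow Q hQ (S.2.map _)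
  have hcard : Nat.card ((S : Subgroup (Subgroup.centralizer ({g} : Set H))).map
      (Subgroup.centralizer ({g} : Set H)).subtype) =
      Nat.card (S : Subgroup (Subgroup.centralizer ({g} : Set H))) :=
    Subgroup.card_map_of_injective (Subgroup.subtype_injective _)
  have h2 : (S : Subgroup (Subgroup.centralizer ({g} : Set H))).map
      (Subgroup.centralizer ({g} : Set H)).subtype = Q := by
    apply Subgroup.eq_of_le_of_card_ge h1
    rw [hcard, Sylow.card_eq_multiplicity, Sylow.card_eq_multiplicity]
    exact Nat.pow_le_pow_right hp.pos hg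
  rw [Subgroup.mem_centralizer_iff]
  intro u hu
  have hu' : u ∈ Subgroup.centralizer ({g} : Set H) := by
    have : u ∈ (S : Subgroup (Subgroup.centralizer ({g} : Set H))).map
      (Subgroup.centralizer ({g} : Set H)).subtype := by rw [h2]; exact hu
    exact Subgroup.map_subtype_le _ this
  exact (Subgroup.mem_centralizer_singleton_iff.1 hu')

theorem card_blocks_normal_sylow_le (M : Ideal AlgInt) (hM : IsPModular p M) (Q : Sylow p H)
    (hQ : (Q : Subgroup H).Normal) :
    Nat.card {b : Set (IrrCharacter H) // IsPBlock M b ∧ IsDefectGroup p M b (Q : Subgroup H)} ≤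
      Nat.card {C : ConjClasses H // ∀ n : H, ConjClasses.mk n = C →
        ¬ p ∣ orderOf n ∧ n ∈ Subgroup.centralizer ((Q : Subgroup H) : Set H)} := by
  classical
  have hp : p.Prime := Fact.out
  have hCn : (Subgroup.centralizer ((Q : Subgroup H) : Set H)).Normal := inferInstance
  have h1 : Nat.card {b : Set (IrrCharacter H) // IsPBlock M b ∧
      IsDefectGroup p M b (Q : Subgroup H)} ≤
      Nat.card {B : Set (IrrCharacter H) // IsPBlock M B ∧
        (Nat.card H).factorization p ≤ blockDefect p B} := by
    refine Nat.card_le_card_of_injective (fun b => ⟨b.1, b.2.1, ?_⟩) ?_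
    · have h := Cfsg.Agent.S0908.result p M hM b.1 b.2.1 _ b.2.2
      rw [Sylow.card_eq_multiplicity] at h
      exact (Nat.pow_right_injective hp.two_le h).le
    · intro b b' hbb
      apply Subtype.ext
      have h := congrArg Subtype.val hbb
      exact h
  have h2 := Cfsg.Agent.S0962.result (G := H) p M hM ((Nat.card H).factorization p)
  have h3 : Nat.card {C : ConjClasses H // ∃ g : H, ConjClasses.mk g = C ∧ IsPRegular p g ∧
      (Nat.card H).factorization p ≤
        (Nat.card (Subgroup.centralizer ({g} : Set H))).factorization p} ≤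
      Nat.card {C : ConjClasses H // ∀ n : H, ConjClasses.mk n = C →
        ¬ p ∣ orderOf n ∧ n ∈ Subgroup.centralizer ((Q : Subgroup H) : Set H)} := by
    refine Nat.card_le_card_of_injective (fun C => ⟨C.1, ?_⟩) ?_
    · obtain ⟨g, hgC, hgreg, hgfull⟩ := C.2
      intro n hn
      rw [← hgC, ConjClasses.mk_eq_mk_iff_isConj, isConj_iff] at hn
      obtain ⟨c, hc⟩ := hn
      have hgQ := mem_centralizer_of_full Q hQ g hgfull
      constructor
      · have : orderOf g = orderOf n := by
          rw [← hc]
          exact orderOf_injective (MulAut.conj c).toMonoidHom (MulAut.conj c).injective n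
        rw [← this]
        exact hgreg
      · have h4 := hCn.conj_mem g hgQ c⁻¹
        have h5 : c⁻¹ * g * c⁻¹⁻¹ = n := by rw [← hc]; group
        rw [← h5]
        exact h4
    · intro C C' hCC
      apply Subtype.ext
      have h := congrArg Subtype.val hCC
      exact h
  exact h1.trans (h2.trans h3)

theorem card_blocks_normal_sylow_ge (M : Ideal AlgInt) (hM : IsPModular p M) (Q : Sylow p H)
    (hQ : (Q : Subgroup H).Normal) :
    Nat.card {C : ConjClasses H // ∀ n : H, ConjClasses.mk n = C →
        ¬ p ∣ orderOf n ∧ n ∈ Subgroup.centralizer ((Q : Subgroup H) : Set H)} ≤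
    Nat.card {b : Set (IrrCharacter H) // IsPBlock M b ∧
      IsDefectGroup p M b (Q : Subgroup H)} := by
  classical
  have hp : p.Prime := Fact.out
  have hCn : (Subgroup.centralizer ((Q : Subgroup H) : Set H)).Normal := inferInstance
  have := Fintype.ofFinite {C : ConjClasses H // ∀ n : H, ConjClasses.mk n = C →
        ¬ p ∣ orderOf n ∧ n ∈ Subgroup.centralizer ((Q : Subgroup H) : Set H)}
  set r := Fintype.card {C : ConjClasses H // ∀ n : H, ConjClasses.mk n = C →
        ¬ p ∣ orderOf n ∧ n ∈ Subgroup.centralizer ((Q : Subgroup H) : Set H)} with hr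
  let e := (Fintype.equivFin {C : ConjClasses H // ∀ n : H, ConjClasses.mk n = C →
        ¬ p ∣ orderOf n ∧ n ∈ Subgroup.centralizer ((Q : Subgroup H) : Set H)}).symm
  let x : Fin r → H := fun i => Quotient.out (e i).1
  have hxmk : ∀ i, ConjClasses.mk (x i) = (e i).1 := fun i => Quotient.out_eq _
  have hxP : ∀ i, ¬ p ∣ orderOf (x i) ∧
      x i ∈ Subgroup.centralizer ((Q : Subgroup H) : Set H) := fun i => (e i).2 (x i) (hxmk i)
  have hx : ∀ i j : Fin r, IsConj (x i) (x j) → i = j := by
    intro i j hij
    have h1 : (e i).1 = (e j).1 := by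
      rw [← hxmk i, ← hxmk j]
      exact ConjClasses.mk_eq_mk_iff_isConj.2 hij
    exact e.injective (Subtype.ext h1)
  have hD : ∀ i : Fin r, ∃ S : Sylow p ↥(Subgroup.centralizer ({x i} : Set H)),
      (S : Subgroup ↥(Subgroup.centralizer ({x i} : Set H))).map
        (Subgroup.centralizer ({x i} : Set H)).subtype = (Q : Subgroup H) := by
    intro i
    have hle : (Q : Subgroup H) ≤ Subgroup.centralizer ({x i} : Set H) := by
      intro u hu
      rw [Subgroup.mem_centralizer_singleton_iff]
      exact ((Subgroup.mem_centralizer_iff.1 (hxP i).2) u hu)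
    refine ⟨Q.subtype hle, ?_⟩
    rw [Sylow.coe_subtype, Subgroup.subgroupOf_map_subtype, inf_of_le_left hle]
  have hsep : ∀ i j : Fin r, ∀ g h : H, IsConj (x i) g → IsConj (x j) h → ∀ k : ℕ, 0 < k →
      orderOf (g * h⁻¹) ≠ p ^ k := by
    intro i j g h hig hjh k hk hord
    -- g, h lie in C(Q) and are p-regular
    obtain ⟨c, hc⟩ := isConj_iff.1 hig
    obtain ⟨c', hc'⟩ := isConj_iff.1 hjh
    have hgC : g ∈ Subgroup.centralizer ((Q : Subgroup H) : Set H) := by
      rw [← hc]; exact hCn.conj_mem _ (hxP i).2 c
    have hhC : h ∈ Subgroup.centralizer ((Q : Subgroup H) : Set H) := by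
      rw [← hc']; exact hCn.conj_mem _ (hxP j).2 c'
    have hgreg : ¬ p ∣ orderOf g := by
      have : orderOf g = orderOf (x i) := by
        rw [← hc]
        exact orderOf_injective (MulAut.conj c).toMonoidHom (MulAut.conj c).injective (x i)
      rw [this]; exact (hxP i).1
    have hhreg : ¬ p ∣ orderOf h := by
      have : orderOf h = orderOf (x j) := by
        rw [← hc']
        exact orderOf_injective (MulAut.conj c').toMonoidHom (MulAut.conj c').injective (x j)
      rw [this]; exact (hxP j).1
    -- u := g h⁻¹ is a p-element, so lies in Q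
    have huQ : g * h⁻¹ ∈ (Q : Subgroup H) := by
      have hzp : IsPGroup p (Subgroup.zpowers (g * h⁻¹)) := by
        rw [IsPGroup.iff_card, Nat.card_zpowers, hord]
        exact ⟨k, rfl⟩
      exact le_normal_sylow Q hQ hzp (Subgroup.mem_zpowers _)
    have hcomm : Commute (g * h⁻¹) h := by
      have := Subgroup.mem_centralizer_iff.1 hhC (g * h⁻¹) huQ
      exact this
    have hcop : (orderOf (g * h⁻¹)).Coprime (orderOf h) := by
      rw [hord]
      exact Nat.Coprime.pow_left k ((Nat.Prime.coprime_iff_not_dvd hp).mpr hhreg)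
    have hgeq : g = (g * h⁻¹) * h := by group
    apply hgreg
    rw [hgeq, hcomm.orderOf_mul_eq_mul_orderOf_of_coprime hcop, hord]
    exact dvd_mul_of_dvd_left (dvd_pow_self p hk.ne') _
  obtain ⟨B, hBinj, hB, -⟩ := Cfsg.Agent.S4741.result p M hM (Q : Subgroup H) x hx hD hsep
  have h1 : Nat.card (Fin r) ≤ Nat.card {b : Set (IrrCharacter H) // IsPBlock M b ∧
      IsDefectGroup p M b (Q : Subgroup H)} := by
    refine Nat.card_le_card_of_injective (fun i => ⟨B i, hB i⟩) ?_
    intro i j hij
    have h := congrArg Subtype.val hij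
    exact hBinj h
  rw [Nat.card_eq_fintype_card, Fintype.card_fin] at h1
  rw [Nat.card_eq_fintype_card]
  exact h1

theorem card_blocks_normal_sylow (M : Ideal AlgInt) (hM : IsPModular p M) (Q : Sylow p H)
    (hQ : (Q : Subgroup H).Normal) :
    Nat.card {b : Set (IrrCharacter H) // IsPBlock M b ∧ IsDefectGroup p M b (Q : Subgroup H)} =
      Nat.card {C : ConjClasses H // ∀ n : H, ConjClasses.mk n = C →
        ¬ p ∣ orderOf n ∧ n ∈ Subgroup.centralizer ((Q : Subgroup H) : Set H)} :=
  le_antisymm (card_blocks_normal_sylow_le M hM Q hQ) (card_blocks_normal_sylow_ge M hM Q hQ)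

end Cfsg.Agent.Lib.Helper16
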