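import Cfsg.Agent.Lib.Helper16.GroupRingLocal
import Mathlib.RingTheory.LocalRing.Module
import Mathlib.LinearAlgebra.Trace
import Mathlib.LinearAlgebra.Projection
import Mathlib.RingTheory.AlgebraTower
import Mathlib.Algebra.Module.Projective
import Mathlib.RingTheory.Flat.Basic

/-!
# Traces on projective modules over the group ring of an abelian `p`-group

If `R = S[Q]` is local, every finitely generated projective `R`-module is free, and so a nontrivial
element of `Q` acts on it with trace zero over `S`.
-/

set_option autoImplicit false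

namespace Cfsg.Agent.Lib.Helper16

open MonoidAlgebra

section Generic

variable {R : Type*} [CommRing R] [IsLocalRing R] {V : Type*} [AddCommGroup V] [Module R V]
  [Module.Finite R V] [Module.Projective R V]

omit [IsLocalRing R] [Module.Finite R V] in
theorem projective_range_of_idem {Φ : V →ₗ[R] V} (hΦ : IsIdempotentElem Φ) :
    Module.Projective R (LinearMap.range Φ) := by
  refine Module.Projective.of_split (LinearMap.range Φ).subtype Φ.rangeRestrict ?_
  ext ⟨x, y, rfl⟩
  have : Φ (Φ y) = Φ y := by
    have := congrArg (fun f : V →ₗ[R] V => f y) hΦ.eq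
    simpa using this
  simp [this]

theorem free_range_of_idem {Φ : V →ₗ[R] V} (hΦ : IsIdempotentElem Φ) :
    Module.Free R (LinearMap.range Φ) := by
  have := projective_range_of_idem hΦ
  exact Module.free_of_flat_of_isLocalRing

theorem free_ker_of_idem {Φ : V →ₗ[R] V} (hΦ : IsIdempotentElem Φ) :
    Module.Free R (LinearMap.ker Φ) := by
  have h1 := free_range_of_idem hΦ.one_sub
  exact Module.Free.of_equiv (LinearEquiv.ofEq _ _ (LinearMap.IsIdempotentElem.ker_eq_range_one_sub hΦ).symm)

omit [IsLocalRing R] [Module.Projective R V] in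
theorem finite_ker_of_idem {Φ : V →ₗ[R] V} (hΦ : IsIdempotentElem Φ) :
    Module.Finite R (LinearMap.ker Φ) :=
  Module.Finite.equiv (LinearEquiv.ofEq _ _ (LinearMap.IsIdempotentElem.ker_eq_range_one_sub hΦ).symm)

end Generic

variable {S : Type*} [CommRing S] {Q : Type*} [CommGroup Q] [Finite Q]
  {V : Type*} [AddCommGroup V] [Module S V] [Module (MonoidAlgebra S Q) V]
  [IsScalarTower S (MonoidAlgebra S Q) V]

/-- The key trace lemma: over a local group ring `S[Q]`, if `Φ` is an `S[Q]`-linear idempotent of a
finitely generated projective module, then `c • Φ` has trace zero over `S` for `c ≠ 1` in `Q`. -/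
theorem trace_smul_idem_eq_zero [IsLocalRing (MonoidAlgebra S Q)]
    [Module.Finite (MonoidAlgebra S Q) V] [Module.Projective (MonoidAlgebra S Q) V]
    {Φ : V →ₗ[MonoidAlgebra S Q] V} (hΦ : IsIdempotentElem Φ) {c : Q} (hc : c ≠ 1) :
    LinearMap.trace S V
      (((LinearMap.lsmul (MonoidAlgebra S Q) V (MonoidAlgebra.of S Q c)).comp Φ).restrictScalars S)
      = 0 := by
  classical
  have hf1 := free_range_of_idem hΦ
  have hf2 := free_ker_of_idem hΦ
  have hfin2 := finite_ker_of_idem hΦ
  let b₁ := Module.Free.chooseBasis (MonoidAlgebra S Q) (LinearMap.range Φ)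
  let b₂ := Module.Free.chooseBasis (MonoidAlgebra S Q) (LinearMap.ker Φ)
  let e := Submodule.prodEquivOfIsCompl _ _ (LinearMap.IsIdempotentElem.isCompl hΦ)
  let B := (b₁.prod b₂).map e
  let β := MonoidAlgebra.basis Q S
  let 𝔟 := β.smulTower B
  have := Fintype.ofFinite Q
  rw [LinearMap.trace_eq_matrix_trace S 𝔟, Matrix.trace]
  apply Finset.sum_eq_zero
  rintro ⟨c', k⟩ -
  rw [Matrix.diag_apply, LinearMap.toMatrix_apply]
  have h𝔟 : 𝔟 (c', k) = MonoidAlgebra.single c' (1 : S) • B k := by
    simp [𝔟, β]
  rw [h𝔟]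
  simp only [LinearMap.coe_restrictScalars, LinearMap.coe_comp, Function.comp_apply,
    LinearMap.lsmul_apply, map_smul]
  rcases k with i | j
  · have hB : B (Sum.inl i) = (b₁ i : V) := by
      simp [B, e]
    have hfix : Φ (B (Sum.inl i)) = B (Sum.inl i) := by
      rw [hB]
      exact (LinearMap.IsIdempotentElem.mem_range_iff hΦ).mp (b₁ i).2
    rw [hfix, smul_smul, MonoidAlgebra.of_apply, MonoidAlgebra.single_mul_single, mul_one]
    have : MonoidAlgebra.single (c' * c) (1 : S) • B (Sum.inl i) = 𝔟 (c' * c, Sum.inl i) := by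
      simp [𝔟, β]
    rw [this, Module.Basis.repr_self, Finsupp.single_apply, if_neg]
    intro h
    apply hc
    have h2 := congrArg Prod.fst h
    simpa using h2
  · have hB : B (Sum.inr j) = (b₂ j : V) := by
      simp [B, e]
    have hker : Φ (B (Sum.inr j)) = 0 := by
      rw [hB]
      exact LinearMap.mem_ker.mp (b₂ j).2
    rw [hker, smul_zero, smul_zero, map_zero, Finsupp.zero_apply]

end Cfsg.Agent.Lib.Helper16
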