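import Cfsg.Agent.Lib.Helper16.TraceFree
import Cfsg.Agent.Lib.Helper16.Spectral

/-!
# Trace vanishing for `c • W • E` with `W` of order prime to `p`
-/

set_option autoImplicit false

namespace Cfsg.Agent.Lib.Helper16

open MonoidAlgebra

variable {S : Type*} [CommRing S] {Q : Type*} [CommGroup Q] [Finite Q]
  {V : Type*} [AddCommGroup V] [Module S V] [Module (MonoidAlgebra S Q) V]
  [IsScalarTower S (MonoidAlgebra S Q) V]

/-- Over a local group ring `S[Q]`: if `E` is an `S[Q]`-linear idempotent of a finitely generated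
projective module commuting with the `S[Q]`-linear map `W`, where `W ^ r = 1` with `r` invertible
in `S` and `S` containing a primitive `r`-th root of unity, then `c • W * E` has trace zero over `S`
for `c ≠ 1` in `Q`. -/
theorem trace_smul_mul_idem_eq_zero [IsLocalRing (MonoidAlgebra S Q)]
    [Module.Finite (MonoidAlgebra S Q) V] [Module.Projective (MonoidAlgebra S Q) V]
    {E W : Module.End (MonoidAlgebra S Q) V} (hE : IsIdempotentElem E) (hWE : Commute W E)
    {r : ℕ} (hr : 0 < r) (hW : W ^ r = 1) {ζ θ ρ : S} (hζθ : ζ * θ = 1) (hρ : (r : S) * ρ = 1)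
    (hθ : θ ^ r = 1)
    (horth : ∀ i, 0 < i → i < r → ∑ k ∈ Finset.range r, (θ ^ i) ^ k = 0)
    {c : Q} (hc : c ≠ 1) :
    LinearMap.trace S V
      (((LinearMap.lsmul (MonoidAlgebra S Q) V (MonoidAlgebra.of S Q c)).comp
        (W * E)).restrictScalars S) = 0 := by
  set R := MonoidAlgebra S Q with hR
  set ζ' : R := algebraMap S R ζ with hζ'
  set θ' : R := algebraMap S R θ with hθ'
  set ρ' : R := algebraMap S R ρ with hρ'
  have h1 : ζ' * θ' = 1 := by rw [hζ', hθ', ← map_mul, hζθ, map_one]
  have h2 : (r : R) * ρ' = 1 := by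
    rw [hρ', ← map_natCast (algebraMap S R), ← map_mul, hρ, map_one]
  have h3 : θ' ^ r = 1 := by rw [hθ', ← map_pow, hθ, map_one]
  have h4 : ∀ i, 0 < i → i < r → ∑ k ∈ Finset.range r, (θ' ^ i) ^ k = 0 := by
    intro i hi hir
    have := congrArg (algebraMap S R) (horth i hi hir)
    simpa [hθ'] using this
  have hsum := sum_specIdem (A := Module.End R V) (W := W) hr h2 h4
  have hdec : W * E = ∑ k ∈ Finset.range r, ζ' ^ k • (specIdem r θ' ρ' W k * E) := by
    calc W * E = W * (∑ k ∈ Finset.range r, specIdem r θ' ρ' W k) * E := by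
          rw [hsum, mul_one]
      _ = ∑ k ∈ Finset.range r, ζ' ^ k • (specIdem r θ' ρ' W k * E) := by
          rw [Finset.mul_sum, Finset.sum_mul]
          refine Finset.sum_congr rfl fun k _ => ?_
          rw [mul_specIdem h1 h3 hW k, smul_mul_assoc]
  rw [hdec]
  have hterm : ∀ k ∈ Finset.range r,
      LinearMap.trace S V (((LinearMap.lsmul R V (MonoidAlgebra.of S Q c)).comp
        (specIdem r θ' ρ' W k * E)).restrictScalars S) = 0 := by
    intro k _
    apply trace_smul_idem_eq_zero _ hc
    exact (specIdem_isIdempotentElem h2 h3 hW k).mul_of_commute (commute_specIdem hWE k) hE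
  have hlin : ((LinearMap.lsmul R V (MonoidAlgebra.of S Q c)).comp
      (∑ k ∈ Finset.range r, ζ' ^ k • (specIdem r θ' ρ' W k * E))).restrictScalars S =
      ∑ k ∈ Finset.range r, ζ ^ k • (((LinearMap.lsmul R V (MonoidAlgebra.of S Q c)).comp
        (specIdem r θ' ρ' W k * E)).restrictScalars S) := by
    ext v
    simp only [LinearMap.coe_restrictScalars, LinearMap.coe_comp, Function.comp_apply,
      LinearMap.sum_apply, LinearMap.smul_apply, map_sum, map_smul, LinearMap.lsmul_apply]
    refine Finset.sum_congr rfl fun k _ => ?_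
    rw [hζ', ← map_pow, algebraMap_smul]
  rw [hlin, map_sum]
  apply Finset.sum_eq_zero
  intro k hk
  rw [map_smul, hterm k hk, smul_zero]

end Cfsg.Agent.Lib.Helper16
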