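import Cfsg.Agent.S0969
import Cfsg.Agent.S0887
import Cfsg.Agent.S0906
import Cfsg.Agent.S0908
import Cfsg.Agent.S0912
import Cfsg.Agent.Lib.Helper77.StableBlock
import Cfsg.Agent.Lib.Helper77.TransportDefect
import Cfsg.Agent.Lib.Helper16.PC3
import Cfsg.Agent.Lib.Helper16.RegularDet
import Cfsg.Agent.Lib.Helper16.OrbitBlock
import Cfsg.Agent.Lib.Helper79.Basic
import Cfsg.Agent.Lib.Helper80.DegreesOneP2
import Cfsg.Agent.Lib.Helper84.PCore

/-!
# Weights force centric and radical (helper16)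

`Q` a normal `p`-subgroup of `T`, `χ ∈ Irr(T)` trivial on `Q` and of defect zero as a character
of `T ⧸ Q`.  Then every normal `p`-subgroup of `T` lies in `Q`; and if `C ⊴ T` has `Q ∩ C`
central in `C` and `e` is a `T`-stable block of `C` whose idempotent is the idempotent of the
block of `χ`, then `Q ∩ C` is a defect group of `e`.
-/

set_option autoImplicit false

namespace Cfsg.Agent.Lib.Helper16

open Cfsg Cfsg.Agent.Lib.Helper77 Cfsg.Agent.Lib.Helper81
open scoped ComplexConjugate

universe u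

theorem sum_comp_surjective {A B : Type*} [Group A] [Group B] [Fintype A] [Fintype B]
    [DecidableEq B] (φ : A →* B) (hφ : Function.Surjective φ) (F : B → ℂ) :
    ∑ a : A, F (φ a) =
      ((Finset.univ.filter (fun a : A => φ a = 1)).card : ℂ) * ∑ b : B, F b := by
  rw [← Finset.sum_fiberwise_of_maps_to (s := Finset.univ) (t := Finset.univ) (g := φ)
    (fun _ _ => Finset.mem_univ _), Finset.mul_sum]
  refine Finset.sum_congr rfl fun b _ => ?_
  have h1 : ∀ a ∈ Finset.univ.filter (fun a : A => φ a = b), F (φ a) = F b :=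
    fun a ha => by rw [(Finset.mem_filter.1 ha).2]
  rw [Finset.sum_congr rfl h1, Finset.sum_const, nsmul_eq_mul]
  congr 2
  exact MonoidHom.card_fiber_eq_of_mem_range φ (hφ b) (hφ 1)

theorem classInner_comp_surjective {A B : Type*} [Group A] [Group B] [Fintype A] [Fintype B]
    (φ : A →* B) (hφ : Function.Surjective φ) (f g : B → ℂ) :
    classInner (fun a => f (φ a)) (fun a => g (φ a)) = classInner f g := by
  classical
  unfold classInner
  rw [sum_comp_surjective φ hφ (fun b => f b * conj (g b))]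
  have h1 := sum_comp_surjective φ hφ (fun _ => (1 : ℂ))
  simp only [Finset.sum_const, Finset.card_univ, nsmul_eq_mul, mul_one] at h1
  rw [Nat.card_eq_fintype_card, Nat.card_eq_fintype_card, h1]
  have hB0 : (Fintype.card B : ℂ) ≠ 0 := by exact_mod_cast Fintype.card_ne_zero
  have hk0 : ((Finset.univ.filter (fun a : A => φ a = 1)).card : ℂ) ≠ 0 := by
    intro h0
    have hA0 : (Fintype.card A : ℂ) ≠ 0 := by exact_mod_cast Fintype.card_ne_zero
    apply hA0
    rw [h1, h0, zero_mul]
  field_simp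

/-- The deflation data: a character trivial on `Q`, of full `p`-degree modulo `Q`. -/
theorem deflate_defect_zero {T : Type u} [Group T] [Finite T] (p : ℕ) [Fact p.Prime]
    (Q : Subgroup T) [hQn : Q.Normal] (χ : IrrCharacter T)
    (hχQ : ∀ q ∈ Q, ∀ t : T, (χ : T → ℂ) (q * t) = (χ : T → ℂ) t)
    (hdeg : (charDegree (χ : T → ℂ)).factorization p + (Nat.card Q).factorization p =
      (Nat.card T).factorization p) :
    ∃ χb : IrrCharacter (T ⧸ Q), (∀ t : T, (χb : T ⧸ Q → ℂ) (t : T ⧸ Q) = (χ : T → ℂ) t) ∧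
      charDegree (χb : T ⧸ Q → ℂ) = charDegree (χ : T → ℂ) ∧
      (charDegree (χb : T ⧸ Q → ℂ)).factorization p = (Nat.card (T ⧸ Q)).factorization p ∧
      (charDegree (χ : T → ℂ)).factorization p = Q.index.factorization p := by
  have hp : p.Prime := Fact.out
  obtain ⟨ψ, hψirr, hψval⟩ := Cfsg.Agent.Lib.Helper79.isIrrCharacter_deflate χ.2 Q
    (fun x hx => by have := hχQ x hx 1; rwa [mul_one] at this)
  have hdeq : charDegree ψ = charDegree (χ : T → ℂ) := by
    unfold charDegree
    rw [← hψval 1, QuotientGroup.mk_one]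
  have hidx : (charDegree (χ : T → ℂ)).factorization p = Q.index.factorization p := by
    have h1 : Nat.card Q * Q.index = Nat.card T := Subgroup.card_mul_index Q
    have h2 : (Nat.card T).factorization p =
        (Nat.card Q).factorization p + Q.index.factorization p := by
      rw [← h1, Nat.factorization_mul Nat.card_pos.ne' Subgroup.index_ne_zero_of_finite]
      rfl
    omega
  refine ⟨⟨ψ, hψirr⟩, hψval, hdeq, ?_, hidx⟩
  show (charDegree ψ).factorization p = _
  rw [hdeq, hidx]
  rfl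

/-- **Radical.** Every normal `p`-subgroup of `T` lies in `Q`. -/
theorem weight_radical {T : Type u} [Group T] [Finite T] (p : ℕ) [Fact p.Prime]
    (M : Ideal AlgInt) (hM : IsPModular p M) (Q : Subgroup T) [hQn : Q.Normal]
    (χ : IrrCharacter T)
    (hχQ : ∀ q ∈ Q, ∀ t : T, (χ : T → ℂ) (q * t) = (χ : T → ℂ) t)
    (hdeg : (charDegree (χ : T → ℂ)).factorization p + (Nat.card Q).factorization p =
      (Nat.card T).factorization p)
    (R : Subgroup T) (hRn : R.Normal) (hR : IsPGroup p R) : R ≤ Q := by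
  have hp : p.Prime := Fact.out
  have hMp : M.IsPrime := isPrime_of_isPModular hM
  obtain ⟨χb, -, -, hdegb, -⟩ := deflate_defect_zero p Q χ hχQ hdeg
  have := Fintype.ofFinite (T ⧸ Q)
  have hB : IsPBlock M (blockOf M (χb : T ⧸ Q → ℂ)) := ⟨χb, rfl⟩
  have hsing : blockOf M (χb : T ⧸ Q → ℂ) = {χb} := by
    ext ψ
    constructor
    · intro hψ
      exact (eq_of_sameBlock_of_defect_zero hM χb ψ hdegb hψ).symm
    · intro hψ
      rw [Set.mem_singleton_iff] at hψ
      rw [hψ]
      exact self_mem_blockOf hMp χb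
  have hdef : blockDefect p (blockOf M (χb : T ⧸ Q → ℂ)) = 0 := by
    unfold blockDefect
    rw [hsing, Set.image_singleton, csInf_singleton, hdegb, Nat.sub_self]
  obtain ⟨g₀, hg₀⟩ := Cfsg.Agent.S0906.result p M hM _ hB
  obtain ⟨P₀⟩ : Nonempty (Sylow p (Subgroup.centralizer ({g₀} : Set (T ⧸ Q)))) := inferInstance
  have hD₀ : IsDefectGroup p M (blockOf M (χb : T ⧸ Q → ℂ))
      ((P₀ : Subgroup (Subgroup.centralizer ({g₀} : Set (T ⧸ Q)))).map
        (Subgroup.centralizer ({g₀} : Set (T ⧸ Q))).subtype) := ⟨g₀, hg₀, P₀, rfl⟩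
  have hcard := Cfsg.Agent.S0908.result p M hM _ hB _ hD₀
  have hcore := Cfsg.Agent.S0912.result p M hM _ hB _ hD₀
  rw [hdef, pow_zero] at hcard
  have hbot := Subgroup.card_eq_one.mp hcard
  have hRb : (R.map (QuotientGroup.mk' Q)).Normal :=
    Subgroup.Normal.map hRn _ (QuotientGroup.mk'_surjective Q)
  have hRbp : IsPGroup p (R.map (QuotientGroup.mk' Q)) := hR.map _
  have h1 := (Cfsg.Agent.Lib.Helper84.le_pCore hRb hRbp).trans hcore
  rw [hbot] at h1
  intro r hr
  have h2 : QuotientGroup.mk' Q r ∈ R.map (QuotientGroup.mk' Q) := ⟨r, hr, rfl⟩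
  have h3 := h1 h2
  rw [Subgroup.mem_bot] at h3
  exact (QuotientGroup.eq_one_iff r).1 h3

open Classical in
/-- **Centric.** `Q ∩ C` is a defect group of the stable block `e` of `C`. -/
theorem weight_centric {T : Type u} [Group T] [Fintype T] (p : ℕ) [Fact p.Prime]
    (M : Ideal AlgInt) (hM : IsPModular p M) (Q : Subgroup T) [hQn : Q.Normal]
    (hQ : IsPGroup p Q) (C : Subgroup T) [hCn : C.Normal] [Fintype C]
    (hZ : ∀ z ∈ Q ⊓ C, ∀ c ∈ C, z * c = c * z)
    (e : Set (IrrCharacter C)) (he : IsPBlock M e)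
    (hst : ∀ t : T, ∀ θ ∈ e, conjIrr C t θ ∈ e)
    (F : Set (IrrCharacter T))
    (hFe : ∀ t : T, blockCoeff F t = subgroupBlockCoeff C e t)
    (χ : IrrCharacter T) (hχ : χ ∈ F)
    (hχQ : ∀ q ∈ Q, ∀ t : T, (χ : T → ℂ) (q * t) = (χ : T → ℂ) t)
    (hdeg : (charDegree (χ : T → ℂ)).factorization p + (Nat.card Q).factorization p =
      (Nat.card T).factorization p) :
    IsDefectGroup p M e ((Q ⊓ C).subgroupOf C) := by
  have hp : p.Prime := Fact.out
  have hMp : M.IsPrime := isPrime_of_isPModular hM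
  obtain ⟨χb, hχbval, hχbdeg, -, hidx⟩ := deflate_defect_zero p Q χ hχQ hdeg
  have := Fintype.ofFinite (T ⧸ Q)
  set Nb : Subgroup (T ⧸ Q) := C.map (QuotientGroup.mk' Q) with hNb
  have hNbn : Nb.Normal := Subgroup.Normal.map hCn _ (QuotientGroup.mk'_surjective Q)
  have := Fintype.ofFinite Nb
  obtain ⟨ξb, hξb⟩ := exists_constituent Nb χb
  -- the surjection `C → Nb`
  set φ : C →* Nb := (QuotientGroup.mk' Q).subgroupMap C with hφdef
  have hφ : Function.Surjective φ := (QuotientGroup.mk' Q).subgroupMap_surjective C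
  have hφval : ∀ c : C, ((φ c : Nb) : T ⧸ Q) = ((c : T) : T ⧸ Q) := fun c => rfl
  set ξ : IrrCharacter C := ⟨fun c => (ξb : Nb → ℂ) (φ c),
    Cfsg.Agent.Lib.Helper79.isIrrCharacter_comp_surjective ξb.2 φ hφ⟩ with hξdef
  -- `ξ` is a constituent of `χ` on `C`
  have hne : classInner (fun c : C => (χ : T → ℂ) c) (ξ : C → ℂ) ≠ 0 := by
    have h1 := classInner_comp_surjective φ hφ (fun n : Nb => (χb : T ⧸ Q → ℂ) n) (ξb : Nb → ℂ)
    have h2 : (fun a : C => (fun n : Nb => (χb : T ⧸ Q → ℂ) n) (φ a)) =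
        fun c : C => (χ : T → ℂ) c := by
      funext c
      show (χb : T ⧸ Q → ℂ) ((φ c : Nb) : T ⧸ Q) = _
      rw [hφval, hχbval]
    rw [h2] at h1
    rw [show (ξ : C → ℂ) = fun a => (ξb : Nb → ℂ) (φ a) from rfl, h1]
    exact hξb
  -- `ξ ∈ e`
  have hξe : ξ ∈ e := by
    have h1 := omega_blockCoeff F χ
    rw [if_pos hχ, show blockCoeff F = subgroupBlockCoeff C e from funext hFe,
      omega_subgroupBlockCoeff C hst χ ξ hne] at h1
    by_contra hcon
    rw [if_neg hcon] at h1
    exact zero_ne_one h1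
  -- degrees
  obtain ⟨c, -, hc1, hcc, -⟩ := irr_degree_spec χb
  obtain ⟨d, hd0, hd1, hdc, -⟩ := irr_degree_spec ξb
  obtain ⟨hdvd, hkdvd⟩ := Cfsg.Agent.S0887.result Nb (χb : T ⧸ Q → ℂ) χb.2 (ξb : Nb → ℂ) ξb.2
    hξb c d hc1 hd1
  have hξdeg : charDegree (ξ : C → ℂ) = d := by
    unfold charDegree
    show ⌊((ξb : Nb → ℂ) (φ 1)).re⌋₊ = d
    rw [map_one, hd1, Complex.natCast_re, Nat.floor_natCast]
  -- the central `p`-subgroup
  set Z : Subgroup C := (Q ⊓ C).subgroupOf C with hZdef
  have hZp : IsPGroup p Z := (hQ.to_le inf_le_left).comap_subtype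
  have hZc : Z ≤ Subgroup.center C := by
    intro z hz
    rw [Subgroup.mem_center_iff]
    intro g
    apply Subtype.ext
    exact (hZ z hz g g.2).symm
  -- index bookkeeping
  have hZidx : Z.index = Q.relIndex C := Subgroup.inf_relIndex_right Q C
  have hNbidx : Nb.index = (C ⊔ Q).index := by
    rw [hNb, Subgroup.index_map, QuotientGroup.ker_mk',
      MonoidHom.range_eq_top_of_surjective _ (QuotientGroup.mk'_surjective Q), Subgroup.index_top,
      mul_one]
  have hQidx : Q.index = Z.index * Nb.index := by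
    rw [hZidx, hNbidx, ← Subgroup.relIndex_sup_right C Q]
    exact (Subgroup.relIndex_mul_index (le_sup_right : Q ≤ C ⊔ Q)).symm
  have hc : charDegree (χ : T → ℂ) = c := by rw [← hχbdeg, hcc]
  have hZ0 : Z.index ≠ 0 := Subgroup.index_ne_zero_of_finite
  have hN0 : Nb.index ≠ 0 := Subgroup.index_ne_zero_of_finite
  have hval1 : c.factorization p = Z.index.factorization p + Nb.index.factorization p := by
    rw [← hc, hidx, hQidx, Nat.factorization_mul hZ0 hN0]
    rfl
  obtain ⟨k, hk⟩ := hdvd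
  have hc0 : c ≠ 0 := by
    rw [← hcc]
    exact irr_charDegree_ne_zero χb
  have hk0 : k ≠ 0 := by
    rintro rfl
    rw [mul_zero] at hk
    exact hc0 hk
  have hkdiv : c / d = k := by
    rw [hk, Nat.mul_div_cancel_left _ hd0]
  rw [hkdiv] at hkdvd
  have hval2 : c.factorization p = d.factorization p + k.factorization p := by
    rw [hk, Nat.factorization_mul hd0.ne' hk0]
    rfl
  have hval3 : k.factorization p ≤ Nb.index.factorization p :=
    (Nat.factorization_le_iff_dvd hk0 hN0).2 hkdvd p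
  have hval4 : d.factorization p ≤ Z.index.factorization p := by
    have h1 : d ∣ Z.index := by
      have h2 := Cfsg.Agent.Lib.Helper80.charDegree_dvd_index_center ξ
      rw [hξdeg] at h2
      exact h2.trans (Subgroup.index_dvd_of_le hZc)
    exact (Nat.factorization_le_iff_dvd hd0.ne' hZ0).2 h1 p
  have hdegξ : (charDegree (ξ : C → ℂ)).factorization p = Z.index.factorization p := by
    rw [hξdeg]
    omega
  have h5 := (Cfsg.Agent.S0969.result p M hM Z hZp hZc ξ hdegξ).1
  rw [eq_blockOf_of_mem hMp he hξe]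
  exact h5

end Cfsg.Agent.Lib.Helper16
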